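import Mathlib.RingTheory.MvPolynomial.EulerIdentity
import Mathlib.RingTheory.MvPolynomial.Homogeneous
import Mathlib.RingTheory.Kaehler.Basic
import Mathlib.RingTheory.Derivation.Basic

/-! Chain rules for derivations evaluated on `MvPolynomial.aeval`, scaling of homogeneous
polynomials and Euler's relation after evaluation. -/

set_option autoImplicit false

namespace K669.MvPolyDer

open MvPolynomial

/-- Chain rule: a `k`-derivation applied to a polynomial expression. -/
theorem deriv_aeval {k A M σ : Type*} [CommRing k] [CommRing A] [Algebra k A] [AddCommGroup M]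
    [Module A M] [Module k M] [IsScalarTower k A M] [Fintype σ] (D : Derivation k A M) (v : σ → A)
    (f : MvPolynomial σ k) :
    D (aeval v f) = ∑ i, aeval v (pderiv i f) • D (v i) := by
  classical
  induction f using MvPolynomial.induction_on with
  | C a => simp
  | add p q hp hq => simp [hp, hq, add_smul, Finset.sum_add_distrib]
  | mul_X p j hp =>
    rw [map_mul, aeval_X, Derivation.leibniz, hp]
    simp only [Derivation.leibniz, pderiv_X, map_add, map_mul, smul_eq_mul, aeval_X, add_smul,
      Finset.sum_add_distrib, Finset.smul_sum, smul_smul]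
    congr 1
    rw [Finset.sum_eq_single j]
    · simp
    · intro i _ hij
      rw [Pi.single_eq_of_ne (Ne.symm hij)]
      simp
    · simp

/-- The chain rule for partial derivatives of a substitution. -/
theorem pderiv_aeval {k σ τ : Type*} [CommRing k] [Fintype σ] (g : σ → MvPolynomial τ k)
    (j : τ) (f : MvPolynomial σ k) :
    pderiv j (aeval g f) = ∑ i, aeval g (pderiv i f) * pderiv j (g i) := by
  simpa [smul_eq_mul] using deriv_aeval (pderiv j) g f

/-- A homogeneous polynomial scales. -/
theorem aeval_smul_of_isHomogeneous {k A σ : Type*} [CommRing k] [CommRing A] [Algebra k A]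
    (c : A) (v : σ → A) {p : MvPolynomial σ k} {d : ℕ} (hp : p.IsHomogeneous d) :
    aeval (fun i => c * v i) p = c ^ d * aeval v p := by
  rw [MvPolynomial.aeval_def, MvPolynomial.aeval_def, MvPolynomial.eval₂_eq,
    MvPolynomial.eval₂_eq, Finset.mul_sum]
  refine Finset.sum_congr rfl fun m hm => ?_
  have hdeg : ∑ i ∈ m.support, m i = d := hp.degree_eq_sum_deg_support hm ▸ rfl
  rw [← hdeg, ← Finset.prod_pow_eq_pow_sum]
  simp only [mul_pow, Finset.prod_mul_distrib]
  ring

/-- Euler's relation after evaluation. -/
theorem sum_mul_aeval_pderiv {k A σ : Type*} [CommRing k] [CommRing A] [Algebra k A] [Fintype σ]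
    (v : σ → A) {p : MvPolynomial σ k} {d : ℕ} (hp : p.IsHomogeneous d) :
    ∑ i, v i * aeval v (pderiv i p) = d * aeval v p := by
  have := congrArg (aeval v) hp.sum_X_mul_pderiv
  simpa [map_sum] using this

end K669.MvPolyDer
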