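import Groth.Prelude.Def_W4bk4goldsch45p2
import Groth.Agent.FunFld.K660.Ord
import Mathlib.LinearAlgebra.Dimension.FreeAndStrongRankCondition

/-! Orders of differentials read through Laurent expansions: dependence on the Kähler differential only,
Hasse derivatives of order one. -/

set_option autoImplicit false

namespace K669.DiffCalc

open FunFld WithZero

section

variable {k K F : Type*} [Field k] [Field K] [Algebra k K] [Field F] [Algebra k F]

/-- The derivation `v ↦ (φ v)'` factors through the Kähler differentials. -/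
theorem exists_dOm (φ : K →ₐ[k] LaurentSeries F) :
    ∃ L : KaehlerDifferential k K → LaurentSeries F,
      (∀ (a : K) (ω : KaehlerDifferential k K), L (a • ω) = φ a * L ω) ∧
      ∀ v : K, L (KaehlerDifferential.D k K v) = LocRes.D F (φ v) := by
  let _ := φ.toRingHom.toAlgebra
  have _ : IsScalarTower k K (LaurentSeries F) := LocRes.isScalarTower_exp φ
  refine ⟨fun ω => (LocRes.dExp φ).liftKaehlerDifferential ω, fun a ω => ?_, fun v => ?_⟩
  · show (LocRes.dExp φ).liftKaehlerDifferential (a • ω) = _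
    rw [map_smul]
    rfl
  · exact (LocRes.dExp φ).liftKaehlerDifferential_comp_D v

/-- `φ u (φ v)'` depends only on `u dv`. -/
theorem mul_D_congr (φ : K →ₐ[k] LaurentSeries F) {u v u' v' : K}
    (h : u • KaehlerDifferential.D k K v = u' • KaehlerDifferential.D k K v') :
    φ u * LocRes.D F (φ v) = φ u' * LocRes.D F (φ v') := by
  obtain ⟨L, h1, h2⟩ := exists_dOm φ
  rw [← h2, ← h2, ← h1, ← h1, h]

theorem vDiff_congr (φ : K →ₐ[k] LaurentSeries F) {u v u' v' : K}
    (h : u • KaehlerDifferential.D k K v = u' • KaehlerDifferential.D k K v') :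
    LocRes.vDiff φ u v = LocRes.vDiff φ u' v' := by
  unfold LocRes.vDiff
  rw [mul_D_congr φ h]

theorem ordDiff_congr (φ : K →ₐ[k] LaurentSeries F) {u v u' v' : K}
    (h : u • KaehlerDifferential.D k K v = u' • KaehlerDifferential.D k K v') :
    LocRes.ordDiff φ u v = LocRes.ordDiff φ u' v' := by
  unfold LocRes.ordDiff
  rw [vDiff_congr φ h]

theorem vDiff_mul {w : Valuation K (WithZero (Multiplicative ℤ))} (φ : K →ₐ[k] LaurentSeries F)
    (hφ : LocRes.IsExpansionAt w φ) (a u v : K) :
    LocRes.vDiff φ (a * u) v = w a * LocRes.vDiff φ u v := by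
  unfold LocRes.vDiff
  rw [map_mul φ, mul_assoc, map_mul, hφ.1]

theorem vDiff_zero (φ : K →ₐ[k] LaurentSeries F) (v : K) : LocRes.vDiff φ 0 v = 0 := by
  unfold LocRes.vDiff
  rw [map_zero, zero_mul, map_zero]

/-- The Hasse derivative of order one is a derivation. -/
noncomputable def hasseDer (H : K →ₐ[k] PowerSeries K) {s : K} (hH : LocRes.IsHasseFamily s H) :
    Derivation k K K where
  toFun := LocRes.hasseD H 1
  map_add' x y := by simp [LocRes.hasseD]
  map_smul' c x := by simp [LocRes.hasseD]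
  map_one_eq_zero' := by
    show LocRes.hasseD H 1 1 = 0
    simp [LocRes.hasseD, PowerSeries.coeff_one]
  leibniz' x y := by
    show LocRes.hasseD H 1 (x * y) = x * LocRes.hasseD H 1 y + y * LocRes.hasseD H 1 x
    have hx := hH.2 x
    have hy := hH.2 y
    simp only [LocRes.hasseD, map_mul, PowerSeries.coeff_mul]
    rw [Finset.Nat.antidiagonal_succ]
    simp only [Finset.Nat.antidiagonal_zero, Finset.map_singleton, Finset.sum_cons,
      Finset.sum_singleton, PowerSeries.coeff_zero_eq_constantCoeff]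
    simp [hx, hy]
    ring

theorem hasseDer_apply (H : K →ₐ[k] PowerSeries K) {s : K} (hH : LocRes.IsHasseFamily s H) (x : K) :
    hasseDer H hH x = LocRes.hasseD H 1 x := rfl

theorem hasseDer_self (H : K →ₐ[k] PowerSeries K) {s : K} (hH : LocRes.IsHasseFamily s H) :
    hasseDer H hH s = 1 := by
  rw [hasseDer_apply, LocRes.hasseD, hH.1]
  simp

/-- The element of a Hasse family has nonzero differential. -/
theorem D_ne_zero_of_isHasseFamily (H : K →ₐ[k] PowerSeries K) {s : K}
    (hH : LocRes.IsHasseFamily s H) : KaehlerDifferential.D k K s ≠ 0 := by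
  intro h
  have h1 := (hasseDer H hH).liftKaehlerDifferential_comp_D s
  rw [h, map_zero, hasseDer_self] at h1
  exact zero_ne_one h1

/-- `dv = D_s^{(1)}(v) ds`. -/
theorem D_eq_hasseD_smul (hΩ : Module.finrank K (KaehlerDifferential k K) = 1)
    (H : K →ₐ[k] PowerSeries K) {s : K} (hH : LocRes.IsHasseFamily s H) (v : K) :
    KaehlerDifferential.D k K v = LocRes.hasseD H 1 v • KaehlerDifferential.D k K s := by
  obtain ⟨a, ha⟩ := exists_smul_eq_of_finrank_eq_one hΩ (D_ne_zero_of_isHasseFamily H hH)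
    (KaehlerDifferential.D k K v)
  have h1 := (hasseDer H hH).liftKaehlerDifferential_comp_D v
  rw [← ha, map_smul, (hasseDer H hH).liftKaehlerDifferential_comp_D s, hasseDer_self,
    smul_eq_mul, mul_one, hasseDer_apply] at h1
  rw [← ha, h1]

end

section Local

variable {F : Type*} [Field F]

/-- The derivative of a power series of positive order with nonzero linear term is a unit. -/
theorem val_D_of_val_eq {f : LaurentSeries F} (hf : Valued.v f = (exp (-1 : ℤ) : WithZero (Multiplicative ℤ))) :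
    Valued.v (LocRes.D F f) = (1 : WithZero (Multiplicative ℤ)) := by
  have h0 : ∀ n : ℤ, n < 1 → f.coeff n = 0 :=
    (LaurentSeries.valuation_le_iff_coeff_lt_eq_zero F (D := 1)).mp hf.le
  have h1 : f.coeff 1 ≠ 0 := by
    intro h
    have : Valued.v f ≤ (exp (-2 : ℤ) : WithZero (Multiplicative ℤ)) := by
      rw [LaurentSeries.valuation_le_iff_coeff_lt_eq_zero F]
      intro n hn
      rcases eq_or_ne n 1 with rfl | hne
      · exact h
      · exact h0 n (by omega)
    rw [hf, exp_le_exp] at this
    omega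
  apply le_antisymm
  · have : Valued.v (LocRes.D F f) ≤ (exp (-0 : ℤ) : WithZero (Multiplicative ℤ)) := by
      rw [LaurentSeries.valuation_le_iff_coeff_lt_eq_zero F]
      intro n hn
      rw [LocRes.D_coeff, h0 (n + 1) (by omega), smul_zero]
    simpa using this
  · rw [← not_lt]
    intro hlt
    have h2 : Valued.v (LocRes.D F f) ≤ (exp (-1 : ℤ) : WithZero (Multiplicative ℤ)) :=
      K660.Ord.lt_one_iff_le.mp hlt
    have h3 := LaurentSeries.coeff_zero_of_lt_valuation (K := F) (n := 0) (D := 1) h2 (by norm_num)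
    rw [LocRes.D_coeff] at h3
    simp at h3
    exact h1 h3

end Local

section Place

variable {k K F : Type*} [Field k] [Field K] [Algebra k K] [Field F] [Algebra k F]

theorem vDiff_one_of_val {w : Valuation K (WithZero (Multiplicative ℤ))} (φ : K →ₐ[k] LaurentSeries F)
    (hφ : LocRes.IsExpansionAt w φ) {t : K} (ht : w t = exp (-1)) : LocRes.vDiff φ 1 t = 1 := by
  unfold LocRes.vDiff
  rw [map_one, one_mul]
  exact val_D_of_val_eq (by rw [hφ.1, ht])

/-- Through an expansion at a place, a nonzero differential is read as a nonzero series. -/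
theorem vDiff_ne_zero {w : Valuation K (WithZero (Multiplicative ℤ))}
    (hΩ : Module.finrank K (KaehlerDifferential k K) = 1) (φ : K →ₐ[k] LaurentSeries F)
    (hφ : LocRes.IsExpansionAt w φ) {u v : K} (hu : u ≠ 0) (hv : KaehlerDifferential.D k K v ≠ 0) :
    LocRes.vDiff φ u v ≠ 0 := by
  obtain ⟨t, ht⟩ := hφ.2.2
  obtain ⟨a, ha⟩ := exists_smul_eq_of_finrank_eq_one hΩ hv (KaehlerDifferential.D k K t)
  have h1 : LocRes.vDiff φ a v = LocRes.vDiff φ 1 t := vDiff_congr φ (by rw [ha, one_smul])
  rw [vDiff_one_of_val φ hφ ht] at h1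
  have h2 : LocRes.vDiff φ 1 v ≠ 0 := by
    intro h
    rw [show a = a * 1 by rw [mul_one], vDiff_mul φ hφ, h, mul_zero] at h1
    exact zero_ne_one h1
  rw [show u = u * 1 by rw [mul_one], vDiff_mul φ hφ]
  exact mul_ne_zero ((Valuation.ne_zero_iff _).mpr hu) h2

theorem ordDiff_mul (hΩ : Module.finrank K (KaehlerDifferential k K) = 1) (P : Place k K)
    (φ : K →ₐ[k] LaurentSeries F) (hφ : LocRes.IsExpansionAt P.1 φ) {a u v : K} (ha : a ≠ 0)
    (hu : u ≠ 0) (hv : KaehlerDifferential.D k K v ≠ 0) :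
    LocRes.ordDiff φ (a * u) v = P.ord a + LocRes.ordDiff φ u v := by
  unfold LocRes.ordDiff
  rw [vDiff_mul φ hφ, log_mul ((Valuation.ne_zero_iff _).mpr ha)
    (vDiff_ne_zero hΩ φ hφ hu hv), K660.Ord.ord_def]
  ring

theorem ordDiff_one_of_val {w : Valuation K (WithZero (Multiplicative ℤ))} (φ : K →ₐ[k] LaurentSeries F)
    (hφ : LocRes.IsExpansionAt w φ) {t : K} (ht : w t = exp (-1)) : LocRes.ordDiff φ 1 t = 0 := by
  unfold LocRes.ordDiff
  rw [vDiff_one_of_val φ hφ ht, log_one, neg_zero]

/-- Change of the variable in the order of a differential. -/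
theorem ordDiff_one_eq (hΩ : Module.finrank K (KaehlerDifferential k K) = 1) (P : Place k K)
    (φ : K →ₐ[k] LaurentSeries F) (hφ : LocRes.IsExpansionAt P.1 φ)
    (H : K →ₐ[k] PowerSeries K) {t : K} (hH : LocRes.IsHasseFamily t H) {s : K}
    (hs : KaehlerDifferential.D k K s ≠ 0) :
    LocRes.ordDiff φ 1 s = P.ord (LocRes.hasseD H 1 s) + LocRes.ordDiff φ 1 t := by
  have h := D_eq_hasseD_smul hΩ H hH s
  have h0 : LocRes.hasseD H 1 s ≠ 0 := by
    intro h0
    rw [h0, zero_smul] at h
    exact hs h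
  have h1 : LocRes.ordDiff φ 1 s = LocRes.ordDiff φ (LocRes.hasseD H 1 s) t :=
    ordDiff_congr φ (by rw [one_smul, h])
  rw [h1]
  conv_lhs => rw [show LocRes.hasseD H 1 s = LocRes.hasseD H 1 s * 1 by rw [mul_one]]
  exact ordDiff_mul hΩ P φ hφ h0 one_ne_zero (D_ne_zero_of_isHasseFamily H hH)

end Place

end K669.DiffCalc
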