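import Groth.Prelude.Def_W4bk4goldsch45p2
import Groth.Agent.FunFld.K660.Ord
import Groth.Agent.FunFld.K660.Places
import Mathlib.LinearAlgebra.Matrix.NonsingularInverse

/-! The divisors `div x` and `mapDiv φ` as honest functions on places. -/

set_option autoImplicit false

namespace K669.MapDiv

open FunFld WithZero

variable {k K : Type*} [Field k] [Field K] [Algebra k K]

theorem finite_support_ord (hK : IsFunctionField k K) (x : K) :
    (Function.support fun P : Place k K => P.ord x).Finite := by
  by_cases hx : x = 0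
  · subst hx
    simp [K660.Ord.ord_zero, Function.support_fun_zero]
  · refine ((K660.Places.finite_pole hK x).union (K660.Places.finite_pole hK x⁻¹)).subset ?_
    intro P hP
    rw [Function.mem_support] at hP
    rcases lt_or_gt_of_ne hP with h | h
    · left
      show ¬ P.1 x ≤ 1
      rw [not_le]
      exact (K660.Ord.one_lt_val_iff P).mpr h
    · right
      show ¬ P.1 x⁻¹ ≤ 1
      rw [not_le]
      apply (K660.Ord.one_lt_val_iff P).mpr
      rw [K660.Ord.ord_inv]
      omega

theorem div_apply (hK : IsFunctionField k K) (x : K) (P : Place k K) : div k x P = P.ord x := by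
  rw [FunFld.div, dif_pos (finite_support_ord hK x)]
  rfl

theorem div_mul (hK : IsFunctionField k K) {x y : K} (hx : x ≠ 0) (hy : y ≠ 0) :
    div k (x * y) = div k x + div k y := by
  ext P
  rw [Finsupp.add_apply, div_apply hK, div_apply hK, div_apply hK, K660.Ord.ord_mul P hx hy]

theorem div_inv (hK : IsFunctionField k K) (x : K) : div k x⁻¹ = -div k x := by
  ext P
  rw [Finsupp.neg_apply, div_apply hK, div_apply hK, K660.Ord.ord_inv]

theorem div_pow (hK : IsFunctionField k K) (x : K) (n : ℕ) : div k (x ^ n) = n • div k x := by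
  ext P
  rw [Finsupp.smul_apply, div_apply hK, div_apply hK, K660.Ord.ord_pow]
  simp

theorem div_algebraMap (hK : IsFunctionField k K) (c : k) : div k (algebraMap k K c) = 0 := by
  ext P
  rw [div_apply hK, K660.Ord.ord_algebraMap]
  rfl

section

variable {ι : Type*} [Fintype ι] [Nonempty ι]

theorem mapDiv_apply (hK : IsFunctionField k K) (φ : ι → K) (P : Place k K) :
    mapDiv k φ P = -Finset.univ.inf' Finset.univ_nonempty (fun i => P.ord (φ i)) := by
  have h : (Function.support fun P : Place k K =>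
      -Finset.univ.inf' Finset.univ_nonempty (fun i => P.ord (φ i))).Finite := by
    refine (Set.finite_iUnion (fun i => finite_support_ord hK (φ i))).subset ?_
    intro P hP
    rw [Function.mem_support] at hP
    by_contra hcon
    rw [Set.mem_iUnion] at hcon
    push Not at hcon
    apply hP
    have h1 : ∀ i, P.ord (φ i) = 0 := fun i => by
      have := hcon i
      rwa [Function.mem_support, not_not] at this
    have h2 : (fun i => P.ord (φ i)) = fun _ => 0 := funext h1
    rw [h2]
    simp
  rw [mapDiv, dif_pos h]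
  rfl

/-- Tuples for which `mapDiv` is the divisor of the tuple. -/
def Good (φ : ι → K) : Prop := (∀ i, φ i ≠ 0) ∨ ∃ i, φ i = 1

theorem good_of_linearIndependent {φ : ι → K} (h : LinearIndependent k φ) : Good φ :=
  Or.inl fun i => h.ne_zero i

/-- The coefficient of `mapDiv` is the largest pole order of the entries. -/
theorem mapDiv_le_iff' (hK : IsFunctionField k K) {φ : ι → K} (hφ : Good φ) (P : Place k K)
    (m : ℤ) : mapDiv k φ P ≤ m ↔ ∀ i, P.1 (φ i) ≤ exp m := by
  rw [mapDiv_apply hK, neg_le, Finset.le_inf'_iff]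
  rcases hφ with h | ⟨i₀, hi₀⟩
  · refine forall_congr' fun i => ?_
    rw [K660.Ord.val_le_exp_iff P (h i)]
    simp
  · constructor
    · intro h i
      by_cases hi : φ i = 0
      · rw [hi, map_zero]; exact zero_le
      · rw [K660.Ord.val_le_exp_iff P hi]
        exact h i (Finset.mem_univ i)
    · intro h i _
      by_cases hi : φ i = 0
      · have h1 := h i₀
        rw [hi₀, K660.Ord.val_le_exp_iff P one_ne_zero, K660.Ord.ord_one] at h1
        rw [hi, K660.Ord.ord_zero]
        exact h1
      · exact (K660.Ord.val_le_exp_iff P hi).mp (h i)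

theorem mapDiv_le_iff (hK : IsFunctionField k K) {φ : ι → K} (hφ : Good φ) (P : Place k K)
    (m : ℤ) : mapDiv k φ P ≤ m ↔ ∀ f ∈ Submodule.span k (Set.range φ), P.1 f ≤ exp m := by
  rw [mapDiv_le_iff' hK hφ]
  constructor
  · intro h f hf
    induction hf using Submodule.span_induction with
    | mem x hx => obtain ⟨i, rfl⟩ := hx; exact h i
    | zero => rw [map_zero]; exact zero_le
    | add x y _ _ hx hy => exact (P.1.map_add x y).trans (max_le hx hy)
    | smul c x _ hx =>
      rw [Algebra.smul_def, map_mul]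
      exact (mul_le_mul' (P.2.1 c) hx).trans_eq (one_mul _)
  · intro h i
    exact h _ (Submodule.subset_span ⟨i, rfl⟩)

theorem eq_of_forall_le_iff_int {a b : ℤ} (h : ∀ m : ℤ, a ≤ m ↔ b ≤ m) : a = b :=
  le_antisymm ((h b).mpr le_rfl) ((h a).mp le_rfl)

theorem val_le_of_mem_span (hK : IsFunctionField k K) {φ : ι → K} (hφ : Good φ) (P : Place k K)
    {f : K} (hf : f ∈ Submodule.span k (Set.range φ)) : P.1 f ≤ exp (mapDiv k φ P) :=
  (mapDiv_le_iff hK hφ P _).mp le_rfl f hf

theorem neg_le_ord_of_mem_span (hK : IsFunctionField k K) {φ : ι → K} (hφ : Good φ) (P : Place k K)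
    {f : K} (hf : f ∈ Submodule.span k (Set.range φ)) (hf0 : f ≠ 0) :
    -mapDiv k φ P ≤ P.ord f :=
  (K660.Ord.val_le_exp_iff P hf0).mp (val_le_of_mem_span hK hφ P hf)

/-- Some entry has the largest pole order. -/
theorem exists_val_eq (hK : IsFunctionField k K) {φ : ι → K} (hφ : Good φ) (P : Place k K) :
    ∃ i, φ i ≠ 0 ∧ P.1 (φ i) = exp (mapDiv k φ P) := by
  by_contra hcon
  push Not at hcon
  have h1 : mapDiv k φ P ≤ mapDiv k φ P - 1 := by
    rw [mapDiv_le_iff' hK hφ]
    intro i
    by_cases hi : φ i = 0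
    · rw [hi, map_zero]; exact zero_le
    · have h2 := (mapDiv_le_iff' hK hφ P _).mp le_rfl i
      have h3 := lt_of_le_of_ne h2 (hcon i hi)
      exact K660.Ord.lt_exp_iff_le.mp h3
  omega

theorem mapDiv_eq_of_span_eq (hK : IsFunctionField k K) {κ : Type*} [Fintype κ] [Nonempty κ]
    {φ : ι → K} {ψ : κ → K} (hφ : Good φ) (hψ : Good ψ)
    (h : Submodule.span k (Set.range φ) = Submodule.span k (Set.range ψ)) :
    mapDiv k φ = mapDiv k ψ := by
  ext P
  apply eq_of_forall_le_iff_int
  intro m
  rw [mapDiv_le_iff hK hφ, mapDiv_le_iff hK hψ, h]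

theorem mapDiv_smul (hK : IsFunctionField k K) {φ : ι → K} {y : K} (hy : y ≠ 0) (hφ : Good φ)
    (hφ' : Good (y • φ)) : mapDiv k (y • φ) = mapDiv k φ - div k y := by
  ext P
  rw [Finsupp.sub_apply, div_apply hK]
  apply eq_of_forall_le_iff_int
  intro m
  rw [mapDiv_le_iff' hK hφ', sub_le_iff_le_add, mapDiv_le_iff' hK hφ]
  refine forall_congr' fun i => ?_
  rw [Pi.smul_apply, smul_eq_mul, map_mul, K660.Ord.val_eq_exp P hy, exp_add, exp_neg,
    inv_mul_le_iff₀ (by exact exp_pos), mul_comm]

theorem good_smul {φ : ι → K} {y : K} (hy : y ≠ 0) (hφ : ∀ i, φ i ≠ 0) : Good (y • φ) :=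
  Or.inl fun i => mul_ne_zero hy (hφ i)

/-- Effective and normalized at `P`: the coefficient at `P` is zero. -/
theorem mapDiv_eq_zero_of_normalized (hK : IsFunctionField k K) {φ : ι → K} (hφ : Good φ)
    (P : Place k K) (heff : (1 : K) ∈ Submodule.span k (Set.range φ)) (hnorm : ∀ i, P.1 (φ i) ≤ 1) :
    mapDiv k φ P = 0 := by
  apply le_antisymm
  · rw [mapDiv_le_iff' hK hφ]
    simpa using hnorm
  · have := (mapDiv_le_iff hK hφ P _).mp le_rfl 1 heff
    rw [map_one, ← exp_zero, exp_le_exp] at this
    exact this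

end

section Matrix

variable {ι : Type*} [Fintype ι] [DecidableEq ι]

/-- An invertible linear change does not change the span. -/
theorem span_eq_of_matrix (A : Matrix ι ι k) (hA : A.det ≠ 0) {φ ψ : ι → K}
    (hψ : ∀ i, ψ i = ∑ j, A i j • φ j) :
    Submodule.span k (Set.range ψ) = Submodule.span k (Set.range φ) := by
  apply le_antisymm
  · rw [Submodule.span_le]
    rintro _ ⟨i, rfl⟩
    rw [hψ i]
    exact Submodule.sum_mem _ fun j _ => Submodule.smul_mem _ _ (Submodule.subset_span ⟨j, rfl⟩)
  · rw [Submodule.span_le]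
    rintro _ ⟨i, rfl⟩
    have h1 : φ i = ∑ j, A⁻¹ i j • ψ j := by
      simp only [hψ, Finset.smul_sum, smul_smul]
      rw [Finset.sum_comm]
      simp only [← Finset.sum_smul]
      have h2 : ∀ l, ∑ j, A⁻¹ i j * A j l = (1 : Matrix ι ι k) i l := fun l => by
        rw [← Matrix.nonsing_inv_mul A (isUnit_iff_ne_zero.mpr hA), Matrix.mul_apply]
      simp only [h2, Matrix.one_apply, ite_smul, one_smul, zero_smul]
      simp
    rw [h1]
    exact Submodule.sum_mem _ fun j _ => Submodule.smul_mem _ _ (Submodule.subset_span ⟨j, rfl⟩)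

theorem linearIndependent_of_matrix (A : Matrix ι ι k) (hA : A.det ≠ 0) {φ ψ : ι → K}
    (hφ : LinearIndependent k φ) (hψ : ∀ i, ψ i = ∑ j, A i j • φ j) : LinearIndependent k ψ := by
  rw [Fintype.linearIndependent_iff] at hφ ⊢
  intro g hg
  have h1 : ∑ j, (∑ i, g i * A i j) • φ j = 0 := by
    rw [← hg]
    simp only [hψ, Finset.smul_sum, smul_smul]
    rw [Finset.sum_comm]
    refine Finset.sum_congr rfl fun j _ => ?_
    rw [Finset.sum_smul]
  have h2 := hφ _ h1
  have h3 : Matrix.vecMul g A = 0 := by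
    ext j
    simpa [Matrix.vecMul, dotProduct] using h2 j
  have h4 := Matrix.eq_zero_of_vecMul_eq_zero hA h3
  intro i
  exact congrFun h4 i

end Matrix

end K669.MapDiv
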