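import Groth.Agent.FunFld.K660.Places
import Groth.Agent.FunFld.K667.DiffOrd
import Groth.Agent.FunFld.K669.DiffCalc
import Groth.Agent.FunFld.K669.MapDiv

/-! The differential of an element has order zero at almost all places. -/

set_option autoImplicit false

namespace K669.FinDiff

open FunFld WithZero K660.Places IsDedekindDomain

variable {k K : Type*} [Field k] [Field K] [Algebra k K]

attribute [local instance] instDed instFrac

/-- The derivation `d/dx`. -/
theorem exists_der (hΩ : Module.finrank K (KaehlerDifferential k K) = 1) {x : K}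
    (hx : KaehlerDifferential.D k K x ≠ 0) :
    ∃ δ : Derivation k K K, δ x = 1 ∧
      ∀ y, KaehlerDifferential.D k K y = δ y • KaehlerDifferential.D k K x := by
  have hspan : Submodule.span K {KaehlerDifferential.D k K x} = ⊤ :=
    (finrank_eq_one_iff_of_nonzero _ hx).1 hΩ
  let e : KaehlerDifferential k K ≃ₗ[K] K :=
    (LinearEquiv.ofTop _ hspan).symm.trans
      (LinearEquiv.toSpanNonzeroSingleton K _ (KaehlerDifferential.D k K x) hx).symm
  have he : ∀ ω, ω = e ω • KaehlerDifferential.D k K x := by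
    intro ω
    have h1 : (LinearEquiv.toSpanNonzeroSingleton K _ (KaehlerDifferential.D k K x) hx) (e ω) =
        (LinearEquiv.ofTop _ hspan).symm ω := by simp [e]
    have h2 := congrArg Subtype.val h1
    rw [LinearEquiv.toSpanNonzeroSingleton_apply] at h2
    exact h2.symm
  refine ⟨e.toLinearMap.compDer (KaehlerDifferential.D k K), ?_, fun y => he _⟩
  have h3 := he (KaehlerDifferential.D k K x)
  have h4 : (e (KaehlerDifferential.D k K x) - 1) • KaehlerDifferential.D k K x = 0 := by
    rw [sub_smul, ← h3, one_smul, sub_self]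
  rcases smul_eq_zero.1 h4 with h | h
  · exact sub_eq_zero.1 h
  · exact absurd h hx

/-- `δ(k[x]) ⊆ k[x]`. -/
theorem der_adjoin {x : K} {δ : Derivation k K K} (hδ : δ x = 1) (a : K) (ha : a ∈ Algebra.adjoin k {x}) :
    δ a ∈ Algebra.adjoin k {x} := by
  induction ha using Algebra.adjoin_induction with
  | mem y hy =>
    rw [Set.mem_singleton_iff] at hy
    rw [hy, hδ]
    exact one_mem _
  | algebraMap r => rw [Derivation.map_algebraMap]; exact zero_mem _
  | add y z _ _ h1 h2 => rw [map_add]; exact add_mem h1 h2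
  | mul y z hy hz h1 h2 =>
    rw [Derivation.leibniz, smul_eq_mul, smul_eq_mul]
    exact add_mem (mul_mem hy h2) (mul_mem hz h1)

/-- Almost everywhere `d/dx` preserves the integral closure of `k[x]`. -/
theorem finite_der (hK : IsFunctionField k K) {x : K} (hx : Transcendental k x)
    {δ : Derivation k K K} (hδ : δ x = 1) :
    {P : Place k K | P.1 x ≤ 1 ∧
      ∃ b : integralClosure (Algebra.adjoin k {x}) K, ¬ P.1 (δ (b : K)) ≤ 1}.Finite := by
  have hg : IsGen k K x := isGen_of_transcendental hK hx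
  have hfin := K660.Ded.finite_integralClosure hg.tr hg.fin
  obtain ⟨S, hS⟩ := hfin.fg_top
  have h1 : (⋃ s ∈ S, {P : Place k K | ¬ P.1 (δ (s : K)) ≤ 1}).Finite :=
    S.finite_toSet.biUnion fun s _ => finite_pole hK _
  refine h1.subset ?_
  rintro P ⟨hP, b, hb⟩
  by_contra hcon
  simp only [Set.mem_iUnion, Set.mem_ofPred_eq, exists_prop, not_exists, not_and, not_not] at hcon
  apply hb
  have hA : ∀ a : Algebra.adjoin k {x}, P.1 (a : K) ≤ 1 := fun a => val_adjoin_le P hP a
  have hB : ∀ b : integralClosure (Algebra.adjoin k {x}) K, P.1 (b : K) ≤ 1 := fun b =>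
    val_le_one_of_isIntegral P (val_adjoin_le P hP) b.2
  have hmem : b ∈ Submodule.span (Algebra.adjoin k {x}) (S : Set (integralClosure (Algebra.adjoin k {x}) K)) := by
    rw [hS]; trivial
  induction hmem using Submodule.span_induction with
  | mem s hs => exact hcon s hs
  | zero => simp
  | add y z _ _ h2 h3 =>
    rw [Subalgebra.coe_add, map_add]
    by_cases h4 : P.1 (δ (y : K)) ≤ 1
    · by_cases h5 : P.1 (δ (z : K)) ≤ 1
      · exact (P.1.map_add _ _).trans (max_le h4 h5)
      · exact absurd (h3 h5) h5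
    · exact absurd (h2 h4) h4
  | smul a y _ h2 =>
    have h3 : P.1 (δ (y : K)) ≤ 1 := by
      by_contra h4
      exact h4 (h2 h4)
    have h4 : ((a • y : integralClosure (Algebra.adjoin k {x}) K) : K) = (a : K) * (y : K) := rfl
    rw [h4, Derivation.leibniz, smul_eq_mul, smul_eq_mul]
    refine (P.1.map_add _ _).trans (max_le ?_ ?_)
    · rw [map_mul]
      exact mul_le_one' (hA a) h3
    · rw [map_mul]
      exact mul_le_one' (hB y) (hA ⟨δ (a : K), der_adjoin hδ _ a.2⟩)

/-- `vDiff (Φ P) 1 x = 1` for almost all places `P`. -/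
theorem finite_vDiff_ne_one (hK : IsFunctionField k K)
    (hΩ : Module.finrank K (KaehlerDifferential k K) = 1)
    {F : Place k K → Type*} [∀ P, Field (F P)] [∀ P, Algebra k (F P)]
    (Φ : ∀ P : Place k K, (K →ₐ[k] LaurentSeries (F P)))
    (hΦ : ∀ P : Place k K, LocRes.IsExpansionAt P.1 (Φ P))
    {x : K} (hx : Transcendental k x) (hD : KaehlerDifferential.D k K x ≠ 0) :
    {P : Place k K | LocRes.vDiff (Φ P) 1 x ≠ 1}.Finite := by
  obtain ⟨δ, hδ, hδ'⟩ := exists_der hΩ hD
  have hg : IsGen k K x := isGen_of_transcendental hK hx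
  have hf : Fact (IsGen k K x) := ⟨hg⟩
  refine ((finite_pole hK x).union (finite_der hK hx hδ)).subset ?_
  intro P hP
  by_contra hcon
  simp only [Set.mem_union, Set.mem_ofPred_eq, not_or, not_not, not_and, not_exists] at hcon
  obtain ⟨hPx, hPδ⟩ := hcon
  apply hP
  obtain ⟨p, hp⟩ := exists_ofPrime_eq (t := x) P hPx
  obtain ⟨t, ht⟩ := p.valuation_exists_uniformizer' K
  have ht' : P.1 (t : K) = exp (-1 : ℤ) := by
    rw [← hp]
    exact ht
  have h1 : LocRes.vDiff (Φ P) 1 (t : K) = 1 := DiffCalc.vDiff_one_of_val (Φ P) (hΦ P) ht'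
  have h2 : LocRes.vDiff (Φ P) 1 (t : K) = LocRes.vDiff (Φ P) (δ (t : K) * 1) x :=
    DiffCalc.vDiff_congr (Φ P) (by rw [one_smul, mul_one, hδ'])
  rw [h2, DiffCalc.vDiff_mul (Φ P) (hΦ P)] at h1
  have h3 : P.1 (δ (t : K)) ≤ 1 := hPδ hPx t
  have h4 : LocRes.vDiff (Φ P) 1 x ≤ 1 := by
    unfold LocRes.vDiff
    rw [map_one, one_mul]
    exact K667.DiffOrd.v_D_le_one (by rw [(hΦ P).1]; exact hPx)
  refine le_antisymm h4 ?_
  calc (1 : WithZero (Multiplicative ℤ)) = P.1 (δ (t : K)) * LocRes.vDiff (Φ P) 1 x := h1.symm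
    _ ≤ 1 * LocRes.vDiff (Φ P) 1 x := mul_le_mul_left h3 _
    _ = _ := one_mul _

/-- The order of a nonzero differential `u dx` is zero at almost all places. -/
theorem finite_support_ordDiff (hK : IsFunctionField k K)
    (hΩ : Module.finrank K (KaehlerDifferential k K) = 1)
    {F : Place k K → Type*} [∀ P, Field (F P)] [∀ P, Algebra k (F P)]
    (Φ : ∀ P : Place k K, (K →ₐ[k] LaurentSeries (F P)))
    (hΦ : ∀ P : Place k K, LocRes.IsExpansionAt P.1 (Φ P))
    {u x : K} (hu : u ≠ 0) (hD : KaehlerDifferential.D k K x ≠ 0) :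
    (Function.support fun P : Place k K => LocRes.ordDiff (Φ P) u x).Finite := by
  have hx : Transcendental k x := by
    refine transcendental_of_notMem hK ?_
    rintro ⟨c, rfl⟩
    exact hD (Derivation.map_algebraMap _ c)
  have h1 : (Function.support fun P : Place k K => P.ord u).Finite := MapDiv.finite_support_ord hK u
  refine (h1.union (finite_vDiff_ne_one hK hΩ Φ hΦ hx hD)).subset ?_
  intro P hP
  by_contra hcon
  simp only [Set.mem_union, Function.mem_support, Set.mem_ofPred_eq, not_or, not_not] at hcon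
  apply hP
  have h2 := DiffCalc.ordDiff_mul hΩ P (Φ P) (hΦ P) hu one_ne_zero hD
  rw [mul_one] at h2
  show LocRes.ordDiff (Φ P) u x = 0
  rw [h2, hcon.1, zero_add]
  unfold LocRes.ordDiff
  rw [hcon.2, log_one, neg_zero]

end K669.FinDiff
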