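import Groth.Agent.S11000
import Groth.Agent.FunFld.K660.Sep
import Groth.Agent.FunFld.K669.FinDiff
import Groth.Agent.FunFld.K669.DiffCalc
import Groth.Agent.FunFld.K669.MapDiv
import Mathlib.FieldTheory.IsAlgClosed.Basic

/-! Divisors of differentials over an algebraically closed field of constants. -/

set_option autoImplicit false

namespace K669.DivDiff

open FunFld WithZero

variable {k K : Type*} [Field k] [IsAlgClosed k] [Field K] [Algebra k K]

theorem isGeometric (hK : IsFunctionField k K) : IsGeometric k K :=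
  Groth.Agent.S11000.result k K hK

theorem finrank_kaehler (hK : IsFunctionField k K) :
    Module.finrank K (KaehlerDifferential k K) = 1 := by
  obtain ⟨t, ht, hsep⟩ := K660.Sep.exists_isSeparable hK (isGeometric hK)
  exact K660.Sep.finrank_kaehler ht hsep

theorem finite_support_ordDiff (hK : IsFunctionField k K)
    (Φ : Place k K → (K →ₐ[k] LaurentSeries k)) (hΦ : ∀ P : Place k K, LocRes.IsExpansionAt P.1 (Φ P))
    {u v : K} (hu : u ≠ 0) (hv : KaehlerDifferential.D k K v ≠ 0) :
    (Function.support fun P : Place k K => LocRes.ordDiff (Φ P) u v).Finite :=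
  FinDiff.finite_support_ordDiff hK (finrank_kaehler hK) Φ hΦ hu hv

theorem divDiff_apply (hK : IsFunctionField k K)
    (Φ : Place k K → (K →ₐ[k] LaurentSeries k)) (hΦ : ∀ P : Place k K, LocRes.IsExpansionAt P.1 (Φ P))
    {u v : K} (hu : u ≠ 0) (hv : KaehlerDifferential.D k K v ≠ 0) (P : Place k K) :
    divDiff Φ u v P = LocRes.ordDiff (Φ P) u v := by
  rw [divDiff, dif_pos (finite_support_ordDiff hK Φ hΦ hu hv)]
  rfl

theorem divDiff_mul (hK : IsFunctionField k K)
    (Φ : Place k K → (K →ₐ[k] LaurentSeries k)) (hΦ : ∀ P : Place k K, LocRes.IsExpansionAt P.1 (Φ P))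
    {a u v : K} (ha : a ≠ 0) (hu : u ≠ 0) (hv : KaehlerDifferential.D k K v ≠ 0) :
    divDiff Φ (a * u) v = div k a + divDiff Φ u v := by
  ext P
  rw [Finsupp.add_apply, divDiff_apply hK Φ hΦ (mul_ne_zero ha hu) hv, divDiff_apply hK Φ hΦ hu hv,
    MapDiv.div_apply hK, DiffCalc.ordDiff_mul (finrank_kaehler hK) P (Φ P) (hΦ P) ha hu hv]

/-- The divisor of a differential depends only on the differential. -/
theorem divDiff_congr (hK : IsFunctionField k K)
    (Φ : Place k K → (K →ₐ[k] LaurentSeries k)) (hΦ : ∀ P : Place k K, LocRes.IsExpansionAt P.1 (Φ P))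
    {u v u' v' : K} (hu : u ≠ 0) (hv : KaehlerDifferential.D k K v ≠ 0)
    (h : u • KaehlerDifferential.D k K v = u' • KaehlerDifferential.D k K v') :
    divDiff Φ u v = divDiff Φ u' v' := by
  have h0 : u' • KaehlerDifferential.D k K v' ≠ 0 := by
    rw [← h]; exact smul_ne_zero hu hv
  have hu' : u' ≠ 0 := fun h => h0 (by rw [h, zero_smul])
  have hv' : KaehlerDifferential.D k K v' ≠ 0 := fun h => h0 (by rw [h, smul_zero])
  ext P
  rw [divDiff_apply hK Φ hΦ hu hv, divDiff_apply hK Φ hΦ hu' hv', DiffCalc.ordDiff_congr (Φ P) h]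

/-- Change of variable. -/
theorem divDiff_one_eq (hK : IsFunctionField k K)
    (Φ : Place k K → (K →ₐ[k] LaurentSeries k)) (hΦ : ∀ P : Place k K, LocRes.IsExpansionAt P.1 (Φ P))
    {t s : K} (Ht : K →ₐ[k] PowerSeries K) (hHt : LocRes.IsHasseFamily t Ht)
    (hs : KaehlerDifferential.D k K s ≠ 0) :
    LocRes.hasseD Ht 1 s ≠ 0 ∧ divDiff Φ 1 s = div k (LocRes.hasseD Ht 1 s) + divDiff Φ 1 t := by
  have h := DiffCalc.D_eq_hasseD_smul (finrank_kaehler hK) Ht hHt s
  have h0 : LocRes.hasseD Ht 1 s ≠ 0 := by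
    intro h0
    rw [h0, zero_smul] at h
    exact hs h
  refine ⟨h0, ?_⟩
  rw [← divDiff_mul hK Φ hΦ h0 one_ne_zero (DiffCalc.D_ne_zero_of_isHasseFamily Ht hHt), mul_one]
  exact divDiff_congr hK Φ hΦ one_ne_zero hs (by rw [one_smul, h])

end K669.DivDiff
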