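import Groth.Agent.FunFld.K660.Ord
import Groth.Agent.FunFld.K666.Basic
import Groth.Prelude.Def_LocRes
import Mathlib.RingTheory.PowerSeries.Trunc
import Mathlib.RingTheory.Valuation.ValuationSubring
import Mathlib.RingTheory.Localization.FractionRing

/-! Laurent expansions at a rational place in a local parameter. -/

set_option autoImplicit false

namespace K669.Expansion

open FunFld WithZero PowerSeries

variable {k K : Type*} [Field k] [Field K] [Algebra k K] (P : Place k K) (t : K)

/-- `F` is the Taylor series of `f` in `t` at `P`. -/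
def IsTaylor (f : K) (F : PowerSeries k) : Prop :=
  ∀ N : ℕ, P.1 (f - Polynomial.aeval t (F.trunc N)) ≤ exp (-(N : ℤ))

variable {P t}

theorem val_aeval_of_dvd (ht : P.1 t ≤ exp (-1)) {N : ℕ} {p : Polynomial k}
    (hp : Polynomial.X ^ N ∣ p) : P.1 (Polynomial.aeval t p) ≤ exp (-(N : ℤ)) := by
  have ht1 : P.1 t ≤ 1 := ht.trans (by rw [← exp_zero, exp_le_exp]; omega)
  obtain ⟨q, rfl⟩ := hp
  rw [map_mul, map_pow, Polynomial.aeval_X, map_mul, map_pow]
  calc P.1 t ^ N * P.1 (Polynomial.aeval t q) ≤ (exp (-1 : ℤ)) ^ N * 1 :=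
        mul_le_mul' (pow_le_pow_left₀ zero_le ht N) (K666.Basic.Place_aeval_le P t ht1 q)
    _ = exp (-(N : ℤ)) := by rw [mul_one, ← exp_nsmul]; simp

theorem X_pow_dvd_of_coeff {N : ℕ} {p : Polynomial k} (h : ∀ m < N, p.coeff m = 0) :
    Polynomial.X ^ N ∣ p := (Polynomial.X_pow_dvd_iff).mpr h

theorem isTaylor_aeval (ht : P.1 t ≤ exp (-1)) (p : Polynomial k) :
    IsTaylor P t (Polynomial.aeval t p) (p : PowerSeries k) := by
  intro N
  rw [← map_sub]
  apply val_aeval_of_dvd ht
  apply X_pow_dvd_of_coeff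
  intro m hm
  rw [Polynomial.coeff_sub, coeff_trunc, if_pos hm, Polynomial.coeff_coe, sub_self]

theorem IsTaylor.val_le_one {f : K} {F : PowerSeries k} (h : IsTaylor P t f F) : P.1 f ≤ 1 := by
  simpa using h 0

theorem IsTaylor.add {f g : K} {F G : PowerSeries k} (h : IsTaylor P t f F)
    (h' : IsTaylor P t g G) : IsTaylor P t (f + g) (F + G) := by
  intro N
  have : f + g - Polynomial.aeval t ((F + G).trunc N) =
      (f - Polynomial.aeval t (F.trunc N)) + (g - Polynomial.aeval t (G.trunc N)) := by
    rw [map_add, map_add]; ring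
  rw [this]
  exact (P.1.map_add _ _).trans (max_le (h N) (h' N))

theorem IsTaylor.sub {f g : K} {F G : PowerSeries k} (h : IsTaylor P t f F)
    (h' : IsTaylor P t g G) : IsTaylor P t (f - g) (F - G) := by
  intro N
  have : f - g - Polynomial.aeval t ((F - G).trunc N) =
      (f - Polynomial.aeval t (F.trunc N)) - (g - Polynomial.aeval t (G.trunc N)) := by
    rw [trunc_sub, map_sub]; ring
  rw [this]
  exact (P.1.map_sub _ _).trans (max_le (h N) (h' N))

theorem IsTaylor.mul (ht : P.1 t ≤ exp (-1)) {f g : K} {F G : PowerSeries k}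
    (h : IsTaylor P t f F) (h' : IsTaylor P t g G) : IsTaylor P t (f * g) (F * G) := by
  have ht1 : P.1 t ≤ 1 := ht.trans (by rw [← exp_zero, exp_le_exp]; omega)
  intro N
  have : f * g - Polynomial.aeval t ((F * G).trunc N) =
      ((f - Polynomial.aeval t (F.trunc N)) * g + Polynomial.aeval t (F.trunc N) *
      (g - Polynomial.aeval t (G.trunc N))) +
      Polynomial.aeval t (F.trunc N * G.trunc N - (F * G).trunc N) := by
    rw [map_sub, map_mul (Polynomial.aeval t)]; ring
  rw [this]
  refine (P.1.map_add _ _).trans (max_le ((P.1.map_add _ _).trans (max_le ?_ ?_)) ?_)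
  · rw [map_mul]
    exact (mul_le_mul' (h N) h'.val_le_one).trans_eq (mul_one _)
  · rw [map_mul]
    exact (mul_le_mul' (K666.Basic.Place_aeval_le P t ht1 _) (h' N)).trans_eq (one_mul _)
  · apply val_aeval_of_dvd ht
    apply X_pow_dvd_of_coeff
    intro m hm
    rw [Polynomial.coeff_sub, coeff_trunc, if_pos hm,
      coeff_mul_eq_coeff_trunc_mul_trunc F G hm, ← Polynomial.coe_mul, Polynomial.coeff_coe,
      sub_self]

theorem IsTaylor.eq_zero (ht : P.1 t = exp (-1)) {F : PowerSeries k} (h : IsTaylor P t 0 F) :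
    F = 0 := by
  by_contra hF
  obtain ⟨n, hn0, hn⟩ : ∃ n, coeff n F ≠ 0 ∧ ∀ m < n, coeff m F = 0 := by
    classical
    have hex : ∃ n, coeff n F ≠ 0 := by
      by_contra hcon
      push Not at hcon
      exact hF (PowerSeries.ext hcon)
    exact ⟨Nat.find hex, Nat.find_spec hex, fun m hm => by simpa using Nat.find_min hex hm⟩
  have h1 := h (n + 1)
  have h2 : F.trunc (n + 1) = Polynomial.C (coeff n F) * Polynomial.X ^ n := by
    ext m
    rw [coeff_trunc, Polynomial.coeff_C_mul, Polynomial.coeff_X_pow]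
    by_cases hm : m = n
    · subst hm; simp
    · by_cases hm' : m < n
      · rw [if_pos (by omega), hn m hm', if_neg hm, mul_zero]
      · rw [if_neg (by omega), if_neg hm, mul_zero]
  rw [h2, zero_sub, Valuation.map_neg, map_mul, map_pow, Polynomial.aeval_C, Polynomial.aeval_X,
    map_mul, map_pow, K660.Ord.val_algebraMap P hn0, one_mul, ht, ← exp_nsmul, exp_le_exp] at h1
  simp at h1

theorem IsTaylor.unique (ht : P.1 t = exp (-1)) {f : K} {F G : PowerSeries k}
    (h : IsTaylor P t f F) (h' : IsTaylor P t f G) : F = G := by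
  have := h.sub h'
  rw [sub_self] at this
  exact sub_eq_zero.mp (this.eq_zero ht)

theorem lt_one_le {a : WithZero (Multiplicative ℤ)} (h : a < 1) : a ≤ exp (-1 : ℤ) :=
  K660.Ord.lt_one_iff_le.mp h

theorem exists_taylor (hres : ∀ f : K, P.1 f ≤ 1 → ∃ c : k, P.1 (f - algebraMap k K c) < 1)
    (ht : P.1 t = exp (-1)) (f : K) (hf : P.1 f ≤ 1) : ∃ F, IsTaylor P t f F := by
  classical
  have ht0 : t ≠ 0 := K660.Ord.ne_zero_of_val P ht
  have hstep : ∀ g : {g : K // P.1 g ≤ 1}, ∃ (c : k) (g' : {g : K // P.1 g ≤ 1}),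
      (g : K) = algebraMap k K c + t * g' := by
    rintro ⟨g, hg⟩
    obtain ⟨c, hc⟩ := hres g hg
    refine ⟨c, ⟨(g - algebraMap k K c) / t, ?_⟩, ?_⟩
    · rw [map_div₀, ht]
      have := lt_one_le hc
      rw [div_le_one₀ (by exact exp_pos)]
      exact this
    · field_simp
      ring
  choose c s hs using hstep
  let g : ℕ → {g : K // P.1 g ≤ 1} := fun n => s^[n] ⟨f, hf⟩
  refine ⟨PowerSeries.mk fun n => c (g n), fun N => ?_⟩
  have key : ∀ N : ℕ, f = Polynomial.aeval t ((PowerSeries.mk fun n => c (g n)).trunc N) +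
      t ^ N * (g N : K) := by
    intro N
    induction N with
    | zero => simp [g]
    | succ N ih =>
      rw [trunc_succ, map_add, Polynomial.aeval_monomial, coeff_mk]
      have h1 : g (N + 1) = s (g N) := Function.iterate_succ_apply' _ _ _
      rw [h1]
      conv_lhs => rw [ih]
      rw [hs (g N)]
      ring
  have h2 : f - Polynomial.aeval t ((PowerSeries.mk fun n => c (g n)).trunc N) =
      t ^ N * (g N : K) := by
    conv_lhs => rw [key N]
    ring
  rw [h2, map_mul, map_pow, ht, ← exp_nsmul]
  calc _ ≤ exp (N • (-1 : ℤ)) * 1 := mul_le_mul' le_rfl (g N).2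
    _ = _ := by rw [mul_one]; simp

section

variable (hres : ∀ f : K, P.1 f ≤ 1 → ∃ c : k, P.1 (f - algebraMap k K c) < 1)
    (ht : P.1 t = exp (-1))

/-- The Taylor expansion as a ring homomorphism. -/
noncomputable def taylorHom : P.O →ₐ[k] PowerSeries k where
  toFun f := (exists_taylor hres ht (f : K) ((Valuation.mem_valuationSubring_iff _ _).mp f.2)).choose
  map_one' := by
    refine IsTaylor.unique ht (Exists.choose_spec _) ?_
    have := isTaylor_aeval (P := P) (t := t) ht.le (1 : Polynomial k)
    simpa using this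
  map_zero' := by
    refine IsTaylor.unique ht (Exists.choose_spec _) ?_
    have := isTaylor_aeval (P := P) (t := t) ht.le (0 : Polynomial k)
    simpa using this
  map_add' f g := IsTaylor.unique ht (Exists.choose_spec _)
    (IsTaylor.add (Exists.choose_spec _) (Exists.choose_spec _))
  map_mul' f g := IsTaylor.unique ht (Exists.choose_spec _)
    (IsTaylor.mul ht.le (Exists.choose_spec _) (Exists.choose_spec _))
  commutes' c := by
    refine IsTaylor.unique ht (Exists.choose_spec _) ?_
    have := isTaylor_aeval (P := P) (t := t) ht.le (Polynomial.C c)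
    rw [Polynomial.aeval_C, Polynomial.coe_C] at this
    exact this

theorem taylorHom_spec (f : P.O) : IsTaylor P t (f : K) (taylorHom hres ht f) :=
  (exists_taylor hres ht (f : K) ((Valuation.mem_valuationSubring_iff _ _).mp f.2)).choose_spec

theorem taylorHom_injective : Function.Injective (taylorHom hres ht) := by
  rw [injective_iff_map_eq_zero]
  intro f hf
  have h := taylorHom_spec hres ht f
  rw [hf] at h
  by_contra hne
  have hne' : (f : K) ≠ 0 := fun h => hne (Subtype.ext h)
  have h1 : ∀ N : ℕ, P.1 (f : K) ≤ exp (-(N : ℤ)) := fun N => by simpa using h N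
  have h2 := h1 (Int.toNat (P.ord (f : K)) + 1)
  rw [K660.Ord.val_le_exp_iff P hne'] at h2
  push_cast at h2
  have := Int.self_le_toNat (P.ord (f : K))
  omega

theorem exists_expansion_aux : ∃ φ : K →ₐ[k] LaurentSeries k,
    (∀ f : P.O, φ (f : K) = (taylorHom hres ht f : PowerSeries k)) := by
  let g : P.O →+* LaurentSeries k :=
    (algebraMap (PowerSeries k) (LaurentSeries k)).comp (taylorHom hres ht).toRingHom
  have hg : Function.Injective g :=
    (IsFractionRing.injective (PowerSeries k) (LaurentSeries k)).comp (taylorHom_injective hres ht)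
  have hlift : ∀ f : P.O, IsFractionRing.lift (K := K) hg (f : K) =
      (taylorHom hres ht f : PowerSeries k) := fun f => by
    have := IsFractionRing.lift_algebraMap (K := K) hg f
    rw [show (f : K) = algebraMap P.O K f from rfl, this]
    rfl
  refine ⟨{ IsFractionRing.lift (K := K) hg with
    commutes' := fun c => ?_ }, hlift⟩
  have := hlift (algebraMap k P.O c)
  have h2 : taylorHom hres ht (algebraMap k P.O c) = C c := by
    rw [AlgHom.commutes]; rfl
  rw [h2] at this
  have h3 : ((algebraMap k P.O c : P.O) : K) = algebraMap k K c := rfl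
  rw [h3] at this
  show IsFractionRing.lift (K := K) hg (algebraMap k K c) = _
  rw [this, HahnSeries.algebraMap_apply', PowerSeries.algebraMap_apply]
  rfl

end

/-- A Laurent expansion with `t ↦ X` exists at every rational place. -/
theorem exists_expansion_of_rational
    (hres : ∀ f : K, P.1 f ≤ 1 → ∃ c : k, P.1 (f - algebraMap k K c) < 1)
    (ht : P.1 t = exp (-1)) :
    ∃ φ : K →ₐ[k] LaurentSeries k, LocRes.IsExpansionAt P.1 φ ∧ φ t = HahnSeries.single 1 1 := by
  obtain ⟨φ, hφ⟩ := exists_expansion_aux hres ht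
  have ht0 : t ≠ 0 := K660.Ord.ne_zero_of_val P ht
  have htO : P.1 t ≤ 1 := by rw [ht, ← exp_zero, exp_le_exp]; omega
  have hφt : φ t = HahnSeries.single 1 1 := by
    have h1 := hφ ⟨t, (Valuation.mem_valuationSubring_iff _ _).mpr htO⟩
    have h2 : taylorHom hres ht ⟨t, (Valuation.mem_valuationSubring_iff _ _).mpr htO⟩ = X := by
      refine IsTaylor.unique ht (taylorHom_spec _ _ _) ?_
      have := isTaylor_aeval (P := P) (t := t) ht.le (Polynomial.X : Polynomial k)
      simpa using this
    rw [h2] at h1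
    rw [show φ t = _ from h1, PowerSeries.coe_X]
  have hunit : ∀ u : K, P.1 u = 1 → Valued.v (φ u) = 1 := by
    intro u hu
    have huO := (Valuation.mem_valuationSubring_iff P.1 u).mpr hu.le
    have h1 := hφ ⟨u, huO⟩
    have h1' : φ u = (taylorHom hres ht ⟨u, huO⟩ : PowerSeries k) := h1
    have h2 := taylorHom_spec hres ht ⟨u, huO⟩ 1
    rw [trunc_one_left, Polynomial.aeval_C] at h2
    apply le_antisymm
    · rw [h1', LaurentSeries.val_le_one_iff_eq_coe]
      exact ⟨_, rfl⟩
    · rw [← not_lt]
      intro hlt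
      have h3 := lt_one_le hlt
      have h4 := LaurentSeries.coeff_zero_of_lt_valuation (K := k) (n := 0) (D := 1) h3 (by norm_num)
      rw [h1', show ((0 : ℤ)) = ((0 : ℕ) : ℤ) from rfl, LaurentSeries.coeff_coe_powerSeries] at h4
      rw [h4, map_zero, sub_zero] at h2
      have h5 : P.1 u ≤ exp (-((1 : ℕ) : ℤ)) := h2
      rw [hu, ← exp_zero, exp_le_exp] at h5
      simp at h5
  refine ⟨φ, ⟨fun f => ?_, fun a => ?_, t, ht⟩, hφt⟩
  · by_cases hf : f = 0
    · rw [hf, map_zero, map_zero, map_zero]
    · have hu : P.1 (f / t ^ P.ord f) = 1 := by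
        rw [K660.Ord.val_eq_one_iff P (div_ne_zero hf (zpow_ne_zero _ ht0)),
          K660.Ord.ord_div P hf (zpow_ne_zero _ ht0), K660.Ord.ord_zpow,
          K660.Ord.ord_eq_of_val P ht]
        ring
      have h1 := hunit _ hu
      have h2 : φ (f / t ^ P.ord f) = φ f / (HahnSeries.single 1 1) ^ P.ord f := by
        rw [map_div₀, map_zpow₀, hφt]
      rw [h2, ← RatFunc.single_zpow, map_div₀, LaurentSeries.valuation_single_zpow,
        div_eq_one_iff_eq exp_ne_zero] at h1
      rw [h1, K660.Ord.val_eq_exp P hf]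
  · refine ⟨algebraMap k K a, P.2.1 a, ?_⟩
    rw [LocRes.map_algebraMap]
    simp

/-- Over an algebraically closed field of constants, a Laurent expansion with `t ↦ X` exists at every
place with local parameter `t`. -/
theorem exists_expansion [IsAlgClosed k] (hK : IsFunctionField k K) (P : Place k K) (t : K)
    (ht : P.1 t = exp (-1)) :
    ∃ φ : K →ₐ[k] LaurentSeries k, LocRes.IsExpansionAt P.1 φ ∧ φ t = HahnSeries.single 1 1 :=
  exists_expansion_of_rational (fun f hf => K666.Basic.exists_const hK P f hf) ht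

end K669.Expansion
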