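import Groth.Agent.FunFld.K667.Nondeg
import Groth.Agent.FunFld.K669.FinDiff
import Groth.Agent.FunFld.K660.Sep
import Groth.Agent.FunFld.K660.Weil

/-! The Weil differential of `u dv` from the residue theorem. -/

set_option autoImplicit false

namespace K669.DivDx

open FunFld WithZero

universe u v w

variable {k : Type u} {K : Type v} [Field k] [Field K] [Algebra k K]

section Lin

variable {F : Type w} [Field F] [Algebra k F]

theorem resExp_smul (φ : K →ₐ[k] LaurentSeries F) (c : k) (a v : K) :
    LocRes.resExp φ (c • a) v = c • LocRes.resExp φ a v := by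
  unfold LocRes.resExp
  rw [Algebra.smul_def, map_mul φ, LocRes.map_algebraMap, mul_assoc, HahnSeries.C_mul_eq_smul,
    map_smul, smul_eq_mul, ← Algebra.smul_def]

/-- `u ↦ Res(u dv)` is linear. -/
noncomputable def resL (φ : K →ₐ[k] LaurentSeries F) (v : K) : K →ₗ[k] k where
  toFun u := LocRes.locRes φ u v
  map_add' a b := by
    show Algebra.trace k F (LocRes.resExp φ (a + b) v) = _
    rw [LocRes.resExp, map_add φ, add_mul, map_add, map_add]
    rfl
  map_smul' c a := by
    show Algebra.trace k F (LocRes.resExp φ (c • a) v) = _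
    rw [resExp_smul, map_smul]
    rfl

theorem resL_apply (φ : K →ₐ[k] LaurentSeries F) (u v : K) :
    resL φ v u = LocRes.locRes φ u v := rfl

end Lin

section Family

variable {F : Place k K → Type w} [∀ P, Field (F P)] [∀ P, Algebra k (F P)]
  {φ : ∀ P : Place k K, K →ₐ[k] LaurentSeries (F P)}
  (hφ : ∀ P : Place k K, LocRes.IsExpansionAt P.1 (φ P))

/-- The residue pairing is locally finite on adeles. -/
theorem finite_locRes (hK : IsFunctionField k K) (hΩ : Module.finrank K (KaehlerDifferential k K) = 1)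
    (hφ : ∀ P : Place k K, LocRes.IsExpansionAt P.1 (φ P)) {u v : K} (hu : u ≠ 0)
    (hv : KaehlerDifferential.D k K v ≠ 0) (a : adele k K) :
    (Function.support fun P => LocRes.locRes (φ P) ((a : Place k K → K) P * u) v).Finite := by
  have h1 : {P : Place k K | ¬ P.1 ((a : Place k K → K) P) ≤ 1}.Finite := a.2
  have h2 := FinDiff.finite_support_ordDiff hK hΩ φ hφ hu hv
  refine (h1.union h2).subset ?_
  intro P hP
  by_contra hcon
  simp only [Set.mem_union, Set.mem_ofPred_eq, Function.mem_support, not_or, not_not] at hcon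
  apply hP
  refine K667.Nondeg.locRes_eq_zero_of_le ?_
  rw [DiffCalc.vDiff_mul (φ P) (hφ P)]
  refine mul_le_one' hcon.1 ?_
  have h3 := DiffCalc.vDiff_ne_zero hΩ (φ P) (hφ P) hu hv
  have h4 : LocRes.vDiff (φ P) u v = exp (- LocRes.ordDiff (φ P) u v) := by
    rw [LocRes.ordDiff, neg_neg, exp_log h3]
  rw [h4, hcon.2, neg_zero, exp_zero]

/-- The functional `a ↦ ∑_P Res_P(a_P u dv)` on adeles. -/
noncomputable def om (hK : IsFunctionField k K)
    (hΩ : Module.finrank K (KaehlerDifferential k K) = 1)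
    (hφ : ∀ P : Place k K, LocRes.IsExpansionAt P.1 (φ P)) {u v : K} (hu : u ≠ 0)
    (hv : KaehlerDifferential.D k K v ≠ 0) : Module.Dual k (adele k K) where
  toFun a := ∑ᶠ P, LocRes.locRes (φ P) ((a : Place k K → K) P * u) v
  map_add' a b := by
    rw [← finsum_add_distrib (finite_locRes hK hΩ hφ hu hv a) (finite_locRes hK hΩ hφ hu hv b)]
    refine finsum_congr fun P => ?_
    have := map_add (resL (φ P) v) ((a : Place k K → K) P * u) ((b : Place k K → K) P * u)
    rw [← add_mul] at this
    exact this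
  map_smul' c a := by
    rw [RingHom.id_apply, smul_finsum' c (finite_locRes hK hΩ hφ hu hv a)]
    refine finsum_congr fun P => ?_
    have := map_smul (resL (φ P) v) c ((a : Place k K → K) P * u)
    rw [← smul_mul_assoc] at this
    exact this

theorem om_apply (hK : IsFunctionField k K)
    (hΩ : Module.finrank K (KaehlerDifferential k K) = 1)
    (hφ : ∀ P : Place k K, LocRes.IsExpansionAt P.1 (φ P)) {u v : K} (hu : u ≠ 0)
    (hv : KaehlerDifferential.D k K v ≠ 0) (a : adele k K) :
    om hK hΩ hφ hu hv a = ∑ᶠ P, LocRes.locRes (φ P) ((a : Place k K → K) P * u) v := rfl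

variable [∀ P, FiniteDimensional k (F P)]

theorem vDiff_eq_exp (hΩ : Module.finrank K (KaehlerDifferential k K) = 1)
    (hφ : ∀ P : Place k K, LocRes.IsExpansionAt P.1 (φ P)) {u v : K} (hu : u ≠ 0)
    (hv : KaehlerDifferential.D k K v ≠ 0) (P : Place k K) :
    LocRes.vDiff (φ P) u v = exp (- LocRes.ordDiff (φ P) u v) := by
  rw [LocRes.ordDiff, neg_neg, exp_log (DiffCalc.vDiff_ne_zero hΩ (φ P) (hφ P) hu hv)]

theorem single_mem_adele (P : Place k K) (y : K) [DecidableEq (Place k K)] :
    (Pi.single P y : Place k K → K) ∈ adele k K := by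
  show {Q : Place k K | ¬ Q.1 ((Pi.single P y : Place k K → K) Q) ≤ 1}.Finite
  refine (Set.finite_singleton P).subset ?_
  intro Q hQ
  by_contra hne
  apply hQ
  have hne' : Q ≠ P := hne
  rw [Pi.single_eq_of_ne hne', map_zero]
  exact zero_le

/-- The functional is a Weil differential with divisor `[u dv]`. -/
theorem om_mem_WD_iff (hK : IsFunctionField k K)
    (hΩ : Module.finrank K (KaehlerDifferential k K) = 1)
    (hφ : ∀ P : Place k K, LocRes.IsExpansionAt P.1 (φ P)) {u v : K} (hu : u ≠ 0)
    (hv : KaehlerDifferential.D k K v ≠ 0)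
    (hres : ∀ x : K, ∑ᶠ P, LocRes.locRes (φ P) x v = 0) (E : Divisor k K) :
    om hK hΩ hφ hu hv ∈ WD E ↔ ∀ P, E P ≤ LocRes.ordDiff (φ P) u v := by
  classical
  constructor
  · intro h P
    by_contra hcon
    push Not at hcon
    have hsep := K667.ResField.isSeparable_coeff hΩ (hφ P)
    obtain ⟨y, hy1, hy2⟩ := K667.Nondeg.exists_locRes_ne_zero (hφ P)
      (WithZero.exp_log (DiffCalc.vDiff_ne_zero hΩ (φ P) (hφ P) one_ne_zero hv)).symm
    -- the adele concentrated at `P`
    let a : adele k K := ⟨Pi.single P (y / u), single_mem_adele P _⟩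
    have ha : a ∈ ADK E := by
      refine Submodule.mem_comap.2 (Submodule.mem_sup_left ?_)
      intro Q
      show Q.1 ((Pi.single P (y / u) : Place k K → K) Q) ≤ exp (E Q)
      by_cases hQ : Q = P
      · subst hQ
        rw [Pi.single_eq_same, map_div₀]
        have h1 := DiffCalc.ordDiff_mul hΩ Q (φ Q) (hφ Q) hu one_ne_zero hv
        rw [mul_one] at h1
        rw [K660.Ord.val_eq_exp Q hu]
        have h2 : Q.1 y ≤ exp (1 + LocRes.ordDiff (φ Q) 1 v) := by
          refine hy1.trans ?_
          rw [exp_le_exp, LocRes.ordDiff]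
          omega
        calc Q.1 y / exp (-(Q.ord u)) ≤ exp (1 + LocRes.ordDiff (φ Q) 1 v) / exp (-(Q.ord u)) :=
              div_le_div_of_nonneg_right h2 zero_le
          _ = exp (1 + LocRes.ordDiff (φ Q) 1 v + Q.ord u) := by
              rw [← exp_sub]; congr 1; ring
          _ ≤ exp (E Q) := by rw [exp_le_exp]; omega
      · rw [Pi.single_eq_of_ne hQ, map_zero]
        exact zero_le
    have h0 := (Submodule.mem_dualAnnihilator _).1 h a ha
    rw [om_apply, finsum_eq_single _ P (fun Q hQ => ?_)] at h0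
    · apply hy2
      have : ((a : Place k K → K) P) * u = y := by
        show (Pi.single P (y / u) : Place k K → K) P * u = y
        rw [Pi.single_eq_same, div_mul_cancel₀ _ hu]
      rwa [this] at h0
    · have : ((a : Place k K → K) Q) = 0 := Pi.single_eq_of_ne hQ _
      rw [this, zero_mul]
      exact map_zero (resL (φ Q) v)
  · intro h
    refine (Submodule.mem_dualAnnihilator _).2 fun a ha => ?_
    obtain ⟨b, hb, c, ⟨x, hx⟩, hbc⟩ := Submodule.mem_sup.1 (Submodule.mem_comap.1 ha)
    have hval : ∀ P, LocRes.locRes (φ P) ((a : Place k K → K) P * u) v =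
        LocRes.locRes (φ P) (x * u) v := by
      intro P
      have h1 : (a : Place k K → K) P = b P + x := by
        have h2 := congrFun hbc P
        rw [Pi.add_apply, ← hx] at h2
        exact h2.symm
      have h2 : LocRes.locRes (φ P) (b P * u) v = 0 := by
        refine K667.Nondeg.locRes_eq_zero_of_le ?_
        rw [DiffCalc.vDiff_mul (φ P) (hφ P), vDiff_eq_exp hΩ hφ hu hv P]
        have h3 : P.1 (b P) ≤ exp (E P) := hb P
        calc P.1 (b P) * exp (- LocRes.ordDiff (φ P) u v) ≤
              exp (E P) * exp (- LocRes.ordDiff (φ P) u v) := mul_le_mul_left h3 _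
          _ = exp (E P - LocRes.ordDiff (φ P) u v) := by rw [← exp_add, sub_eq_add_neg]
          _ ≤ 1 := by rw [← exp_zero, exp_le_exp]; have := h P; omega
      have h3 := map_add (resL (φ P) v) (b P * u) (x * u)
      rw [h1, add_mul]
      rw [resL_apply, resL_apply, resL_apply, h2, zero_add] at h3
      exact h3
    rw [om_apply, finsum_congr hval]
    exact hres (x * u)

theorem main (hK : IsFunctionField k K)
    (hΩ : Module.finrank K (KaehlerDifferential k K) = 1)
    (hφ : ∀ P : Place k K, LocRes.IsExpansionAt P.1 (φ P)) {u v : K} (hu : u ≠ 0)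
    (hv : KaehlerDifferential.D k K v ≠ 0)
    (hres : ∀ x : K, ∑ᶠ P, LocRes.locRes (φ P) x v = 0) :
    ∃ ω : Module.Dual k (FunFld.adele k K),
      (∀ a : FunFld.adele k K, (Function.support fun P => LocRes.locRes (φ P) ((a : FunFld.Place k K → K) P * u) v).Finite ∧
        ω a = ∑ᶠ P, LocRes.locRes (φ P) ((a : FunFld.Place k K → K) P * u) v) ∧
      FunFld.IsWeil ω ∧ ω ≠ 0 ∧
      (Function.support fun P => LocRes.ordDiff (φ P) u v).Finite ∧
      ∀ C : FunFld.Divisor k K, (∀ P, C P = LocRes.ordDiff (φ P) u v) → FunFld.IsDivOf ω C := by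
  have hfin := FinDiff.finite_support_ordDiff hK hΩ φ hφ hu hv
  have hdiv : ∀ C : Divisor k K, (∀ P, C P = LocRes.ordDiff (φ P) u v) →
      IsDivOf (om hK hΩ hφ hu hv) C := by
    intro C hC E
    rw [om_mem_WD_iff hK hΩ hφ hu hv hres E]
    refine forall_congr' fun P => ?_
    rw [hC P]
  let C₀ : Divisor k K := Finsupp.ofSupportFinite _ hfin
  have hC₀ : ∀ P, C₀ P = LocRes.ordDiff (φ P) u v := fun P => rfl
  refine ⟨om hK hΩ hφ hu hv, fun a => ⟨finite_locRes hK hΩ hφ hu hv a, rfl⟩, ⟨C₀, ?_⟩, ?_, hfin, hdiv⟩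
  · exact (hdiv C₀ hC₀ C₀).2 le_rfl
  · exact K660.Weil.ne_zero_of_isDivOf hK (hdiv C₀ hC₀)

end Family

end K669.DivDx
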