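import Groth.Prelude.Def_W4bk4goldsch45p2
import Mathlib.LinearAlgebra.Vandermonde
import Mathlib.RingTheory.Polynomial.Pochhammer

/-! Nonvanishing of determinants of binomial coefficients. -/

set_option autoImplicit false

namespace K669.BinomDet

open Polynomial

variable {k : Type*} [Field k]

theorem det_choose_ne_zero {n : ℕ} (v : Fin n → ℕ) (hv : Function.Injective fun i => (v i : k)) :
    (FunFld.binomMat k v (fun l : Fin n => (l : ℕ))).det ≠ 0 := by
  intro h0
  have h1 := Matrix.det_eval_matrixOfPolynomials_eq_det_vandermonde (fun i => (v i : k))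
    (fun i : Fin n => descPochhammer k (i : ℕ)) (fun i => descPochhammer_natDegree k _)
    (fun i => monic_descPochhammer k _)
  have h2 : (Matrix.of fun i j : Fin n => ((descPochhammer k (j : ℕ)).eval (v i : k))).det =
      (∏ j : Fin n, ((j : ℕ).factorial : k)) *
        (FunFld.binomMat k v (fun l : Fin n => (l : ℕ))).det := by
    rw [← Matrix.det_mul_row]
    congr 1
    ext i j
    rw [Matrix.of_apply, Matrix.of_apply, descPochhammer_eval_eq_descFactorial,
      Nat.descFactorial_eq_factorial_mul_choose, FunFld.binomMat, Matrix.of_apply]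
    push_cast
    ring
  rw [h2, h0, mul_zero] at h1
  exact (Matrix.det_vandermonde_ne_zero_iff.mpr hv) h1

theorem det_choose_succ_ne_zero {n : ℕ} (v : Fin n → ℕ) (hv : Function.Injective fun i => (v i : k))
    (hv0 : ∀ i, (v i : k) ≠ 0) :
    (FunFld.binomMat k v (fun l : Fin n => (l : ℕ) + 1)).det ≠ 0 := by
  intro h0
  have hdeg : ∀ i : Fin n, ((descPochhammer k (i : ℕ)).comp (X - 1)).natDegree = i := fun i => by
    rw [natDegree_comp, descPochhammer_natDegree]
    have : (X - 1 : k[X]).natDegree = 1 := by
      have := natDegree_X_sub_C (1 : k)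
      simpa using this
    rw [this, mul_one]
  have hmonic : ∀ i : Fin n, ((descPochhammer k (i : ℕ)).comp (X - 1)).Monic := fun i => by
    have h := (monic_descPochhammer k (i : ℕ)).comp_X_sub_C (1 : k)
    simpa using h
  have h1 := Matrix.det_eval_matrixOfPolynomials_eq_det_vandermonde (fun i => (v i : k))
    (fun i : Fin n => (descPochhammer k (i : ℕ)).comp (X - 1)) hdeg hmonic
  have h2 : (∏ i : Fin n, (v i : k)) *
      (Matrix.of fun i j : Fin n => (((descPochhammer k (j : ℕ)).comp (X - 1)).eval (v i : k))).det =
      (∏ j : Fin n, (((j : ℕ) + 1).factorial : k)) *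
        (FunFld.binomMat k v (fun l : Fin n => (l : ℕ) + 1)).det := by
    rw [← Matrix.det_mul_column, ← Matrix.det_mul_row]
    congr 1
    ext i j
    rw [Matrix.of_apply, Matrix.of_apply, Matrix.of_apply, FunFld.binomMat, Matrix.of_apply]
    have h3 : (v i : k) * ((descPochhammer k (j : ℕ)).comp (X - 1)).eval (v i : k) =
        (descPochhammer k ((j : ℕ) + 1)).eval (v i : k) := by
      rw [descPochhammer_succ_left, eval_mul, eval_X]
    rw [h3, descPochhammer_eval_eq_descFactorial, Nat.descFactorial_eq_factorial_mul_choose]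
    push_cast
    ring
  rw [h0, mul_zero] at h2
  have h3 := (mul_eq_zero.mp h2).resolve_left (Finset.prod_ne_zero_iff.mpr fun i _ => hv0 i)
  rw [h3] at h1
  exact (Matrix.det_vandermonde_ne_zero_iff.mpr hv) h1

end K669.BinomDet
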