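import Groth.Agent.FunFld.K669.FixedPos
import Groth.Agent.FunFld.K669.BinomDet
import Groth.Agent.FunFld.K660.Compare

/-! Classical orders in characteristic zero or large. -/

set_option autoImplicit false

namespace K669.Classical

open FunFld WithZero K668.Orders

variable {k K : Type*} [Field k] [Field K] [Algebra k K]

theorem coe_le_deg_of_nonneg (hK : IsFunctionField k K) {D : Divisor k K} (hD : 0 ≤ D)
    (P : Place k K) : D P ≤ D.deg := by
  have h1 : Finsupp.single P (D P) ≤ D := by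
    intro Q
    by_cases h : P = Q
    · subst h; rw [Finsupp.single_eq_same]
    · rw [Finsupp.single_eq_of_ne (Ne.symm h)]; exact hD Q
  have h2 := K660.Compare.deg_mono h1
  have h3 : Divisor.deg (Finsupp.single P (D P)) = D P * (P.deg : ℤ) :=
    K660.Compare.deg_single P (D P)
  have h4 := K660.Compare.place_deg_pos hK P
  have h5 : 0 ≤ D P := hD P
  nlinarith

/-- Orders of functions of a normalized system are at most the degree. -/
theorem order_le_deg (hK : IsFunctionField k K) {n : ℕ} {φ : Fin (n + 1) → K}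
    (hφ : LinearIndependent k φ) (P : Place k K)
    (heff : (1 : K) ∈ Submodule.span k (Set.range φ)) (hnorm : ∀ i, P.1 (φ i) ≤ 1)
    {f : K} (hf : f ∈ Submodule.span k (Set.range φ)) {j : ℕ} (hfj : P.1 f = exp (-(j : ℤ))) :
    (j : ℤ) ≤ (mapDiv k φ).deg := by
  have hg := MapDiv.good_of_linearIndependent hφ
  have hf0 : f ≠ 0 := K660.Ord.ne_zero_of_val P hfj
  have h1 : 0 ≤ div k f + mapDiv k φ := by
    intro Q
    rw [Finsupp.add_apply, MapDiv.div_apply hK]
    have := MapDiv.neg_le_ord_of_mem_span hK hg Q hf hf0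
    show (0 : ℤ) ≤ _
    omega
  have h2 := coe_le_deg_of_nonneg hK h1 P
  rw [Finsupp.add_apply, MapDiv.div_apply hK, MapDiv.mapDiv_eq_zero_of_normalized hK hg P heff hnorm,
    K660.Ord.ord_eq_of_val P hfj, K660.Compare.deg_add, K660.Compare.deg_div hK] at h2
  omega

/-- Integers between `0` and the characteristic are nonzero. -/
theorem cast_ne_zero {m : ℕ} (hm : 0 < m) {d : ℤ} (hmd : (m : ℤ) ≤ d)
    (hchar : ringChar k = 0 ∨ d < ringChar k) : (m : k) ≠ 0 := by
  intro h
  have h1 : ringChar k ∣ m := (ringChar.spec k m).mp h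
  rcases hchar with h0 | h0
  · rw [h0, zero_dvd_iff] at h1
    omega
  · have := Nat.le_of_dvd hm h1
    omega

theorem cast_injective {n : ℕ} {v : Fin n → ℕ} (hv : StrictMono v) {d : ℤ} (hd : ∀ i, (v i : ℤ) ≤ d)
    (hchar : ringChar k = 0 ∨ d < ringChar k) : Function.Injective fun i => (v i : k) := by
  have key : ∀ i j, i < j → (v i : k) ≠ v j := by
    intro i j hij h
    have h1 := hv hij
    have h2 : ((v j - v i : ℕ) : k) = 0 := by
      rw [Nat.cast_sub h1.le, h, sub_self]
    refine cast_ne_zero (k := k) (m := v j - v i) (by omega) (d := d) ?_ hchar h2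
    have := hd j
    omega
  intro i j hij
  rcases lt_trichotomy i j with h | h | h
  · exact absurd hij (key i j h)
  · exact h
  · exact absurd hij.symm (key j i h)

theorem le_of_strictMono {n : ℕ} {J : Fin n → ℕ} (hJ : StrictMono J) (l : Fin n) : (l : ℕ) ≤ J l := by
  obtain ⟨l, hl⟩ := l
  induction l with
  | zero => exact Nat.zero_le _
  | succ l ih =>
    have h1 := ih (by omega)
    have h2 : J ⟨l, by omega⟩ < J ⟨l + 1, hl⟩ := hJ (by rw [Fin.lt_def]; simp)
    simp only [] at h1 ⊢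
    omega

variable [IsAlgClosed k]

/-- Orders at `P` exist and are bounded by the degree. -/
theorem ordersAt_le_deg (hK : IsFunctionField k K) (P : Place k K) {n : ℕ} {φ : Fin (n + 1) → K}
    (hφ : LinearIndependent k φ)
    (heff : (1 : K) ∈ Submodule.span k (Set.range φ)) (hnorm : ∀ i, P.1 (φ i) ≤ 1)
    {t : K} (ht : P.1 t = exp (-1)) (Ht : K →ₐ[k] PowerSeries K) (hHt : LocRes.IsHasseFamily t Ht)
    {J' : Fin n → ℕ} (hJ' : IsOrders (IsLocalRing.ResidueField P.O) (hcolAt P Ht φ) J') (l : Fin n) :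
    (J' l : ℤ) ≤ (mapDiv k φ).deg := by
  obtain ⟨f, hf, hfj⟩ := (Adapted.order_iff hK P φ heff hnorm ht Ht hHt hJ' (J' l)).mp
    (Or.inr ⟨l, rfl⟩)
  exact order_le_deg hK hφ P heff hnorm hf hfj

/-- Degree is unchanged by normalization. -/
theorem deg_smul (hK : IsFunctionField k K) {n : ℕ} {φ : Fin (n + 1) → K}
    (hφ : LinearIndependent k φ) {y : K} (hy : y ≠ 0) :
    (mapDiv k (y • φ)).deg = (mapDiv k φ).deg := by
  rw [MapDiv.mapDiv_smul hK hy (MapDiv.good_of_linearIndependent hφ)
    (MapDiv.good_smul hy fun i => hφ.ne_zero i), sub_eq_add_neg, K660.Compare.deg_add,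
    ← MapDiv.div_inv hK, K660.Compare.deg_div hK, add_zero]

/-- Orders do not change under normalization and change of the variable. -/
theorem isOrders_iff (hK : IsFunctionField k K) {n : ℕ} {φ : Fin (n + 1) → K}
    (hφ : LinearIndependent k φ) (τ : K →ₐ[k] K) {s : K} (H : K →ₐ[k] PowerSeries K)
    (hH : LocRes.IsHasseFamily s H) {t : K} (Ht : K →ₐ[k] PowerSeries K)
    (hHt : LocRes.IsHasseFamily t Ht) {y : K} (hy : y ≠ 0) (J : Fin n → ℕ) :
    IsOrders K (hcol τ Ht (y • φ)) J ↔ IsOrders K (hcol τ H φ) J := by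
  rw [(Groth.Agent.S12597.result k K hK φ hφ τ t Ht hHt y hy).1 J,
    (Groth.Agent.S12598.result k K hK φ hφ τ s H hH t Ht hHt).1 J]

/-- Classical orders for the identity. -/
theorem classical_id (hK : IsFunctionField k K) {n : ℕ} {φ : Fin (n + 1) → K}
    (hφ : LinearIndependent k φ)
    (hchar : ringChar k = 0 ∨ (mapDiv k φ).deg < ringChar k)
    {s : K} (H : K →ₐ[k] PowerSeries K) (hH : LocRes.IsHasseFamily s H) :
    IsOrders K (hcol (AlgHom.id k K) H φ) (fun l : Fin n => (l : ℕ) + 1) := by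
  obtain ⟨P⟩ := K660.Places.nonempty_place hK
  obtain ⟨t, Ht, ht, hHt⟩ := Normalize.exists_parameter hK P H hH
  obtain ⟨y, hy, heff, hnorm, hli⟩ := Normalize.exists_normalization hK hφ P
  rw [← isOrders_iff hK hφ (AlgHom.id k K) H hH Ht hHt hy]
  obtain ⟨J', hJ'⟩ := Normalize.exists_ordersAt hK P hli heff hnorm ht Ht hHt
  have hle : ∀ l, (J' l : ℤ) ≤ (mapDiv k φ).deg := fun l => by
    rw [← deg_smul hK hφ hy]
    exact ordersAt_le_deg hK P hli heff hnorm ht Ht hHt hJ' l
  have hI : StrictMono (fun l : Fin n => (l : ℕ) + 1) := fun a b hab => by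
    show (a : ℕ) + 1 < (b : ℕ) + 1
    have : (a : ℕ) < b := hab
    omega
  have hdet : (binomMat k J' (fun l : Fin n => (l : ℕ) + 1)).det ≠ 0 :=
    BinomDet.det_choose_succ_ne_zero J' (cast_injective hJ'.1 hle hchar) fun i =>
      cast_ne_zero (Adapted.orders_pos P hHt hJ' i) (hle i) hchar
  have h1 := ((Groth.Agent.S12605.result k K hK (AlgHom.id k K) P (WDivFixed.isFixedPt_id P) (y • φ) hli
    heff hnorm t ht Ht hHt J' hJ' _ hI).2 (Or.inl fun l => Nat.succ_pos _)).mpr hdet
  have h2 : (wrMat (AlgHom.id k K) Ht (y • φ) (fun l : Fin n => (l : ℕ) + 1)).det ≠ 0 := by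
    intro h
    rw [h, map_zero] at h1
    exact exp_ne_zero h1.symm
  obtain ⟨J, hJ, -⟩ := Groth.Agent.S12600.result k K hK (y • φ) hli (AlgHom.id k K) t Ht hHt
  have h3 := Groth.Agent.S12601.result k K hK (y • φ) hli (AlgHom.id k K) t Ht hHt J hJ _ hI h2
  have h4 : J = fun l : Fin n => (l : ℕ) + 1 := by
    funext l
    apply le_antisymm (h3 l)
    have h5 : StrictMono (fun l => J l - 1) := fun a b hab => by
      have := hJ.1 hab
      have := WDivFixed.pos_of_isOrders_id hHt hJ a
      show J a - 1 < J b - 1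
      omega
    have h6 : (l : ℕ) ≤ J l - 1 := le_of_strictMono h5 l
    have := WDivFixed.pos_of_isOrders_id hHt hJ l
    show (l : ℕ) + 1 ≤ J l
    omega
  rw [← h4]
  exact hJ

/-- Classical orders for an endomorphism with a strong fixed point. -/
theorem classical_strong (hK : IsFunctionField k K) {n : ℕ} {φ : Fin (n + 1) → K}
    (hφ : LinearIndependent k φ)
    (hchar : ringChar k = 0 ∨ (mapDiv k φ).deg < ringChar k)
    (τ : K →ₐ[k] K) (P : Place k K) (hP : IsStrongFixedPt τ P)
    {s : K} (H : K →ₐ[k] PowerSeries K) (hH : LocRes.IsHasseFamily s H) :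
    IsOrders K (hcol τ H φ) (fun l : Fin n => (l : ℕ)) := by
  obtain ⟨t, Ht, ht, hHt⟩ := Normalize.exists_parameter hK P H hH
  obtain ⟨y, hy, heff, hnorm, hli⟩ := Normalize.exists_normalization hK hφ P
  rw [← isOrders_iff hK hφ τ H hH Ht hHt hy]
  obtain ⟨J', hJ'⟩ := Normalize.exists_ordersAt hK P hli heff hnorm ht Ht hHt
  have hle : ∀ l, (J' l : ℤ) ≤ (mapDiv k φ).deg := fun l => by
    rw [← deg_smul hK hφ hy]
    exact ordersAt_le_deg hK P hli heff hnorm ht Ht hHt hJ' l
  have hI : StrictMono (fun l : Fin n => (l : ℕ)) := fun a b hab => hab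
  have hdet : (binomMat k J' (fun l : Fin n => (l : ℕ))).det ≠ 0 :=
    BinomDet.det_choose_ne_zero J' (cast_injective hJ'.1 hle hchar)
  have h1 := ((Groth.Agent.S12605.result k K hK τ P (WDivFixed.isStrong_isFixed hP) (y • φ) hli
    heff hnorm t ht Ht hHt J' hJ' _ hI).2 (Or.inr hP)).mpr hdet
  have h2 : (wrMat τ Ht (y • φ) (fun l : Fin n => (l : ℕ))).det ≠ 0 := by
    intro h
    rw [h, map_zero] at h1
    exact exp_ne_zero h1.symm
  obtain ⟨J, hJ, -⟩ := Groth.Agent.S12600.result k K hK (y • φ) hli τ t Ht hHt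
  have h3 := Groth.Agent.S12601.result k K hK (y • φ) hli τ t Ht hHt J hJ _ hI h2
  have h4 : J = fun l : Fin n => (l : ℕ) := by
    funext l
    exact le_antisymm (h3 l) (le_of_strictMono hJ.1 l)
  rw [← h4]
  exact hJ

end K669.Classical
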