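import Groth.Agent.S12596
import Groth.Agent.S12597
import Groth.Agent.S12598
import Groth.Agent.S12600
import Groth.Agent.FunFld.K669.DivDiff

/-! Invariance of the Weierstrass divisor. -/

set_option autoImplicit false

namespace K669.WDivEquiv

open FunFld WithZero

theorem isOrders_unique {R M : Type*} [Semiring R] [AddCommMonoid M] [Module R M] {c : ℕ → M} {n : ℕ}
    {J J' : Fin n → ℕ} (h : IsOrders R c J) (h' : IsOrders R c J') : J = J' := by
  have : Set.range J = Set.range J' := by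
    ext j
    rw [h.2, h'.2]
  exact (h.1.range_inj h'.1).1 this

variable {k K : Type*} [Field k] [IsAlgClosed k] [Field K] [Algebra k K]

theorem det_ne_zero (hK : IsFunctionField k K) {n : ℕ} {φ : Fin (n + 1) → K}
    (hφ : LinearIndependent k φ) (τ : K →ₐ[k] K) {s : K} (H : K →ₐ[k] PowerSeries K)
    (hH : LocRes.IsHasseFamily s H) {J : Fin n → ℕ} (hJ : IsOrders K (hcol τ H φ) J) :
    (wrMat τ H φ J).det ≠ 0 := by
  obtain ⟨J', h1, h2⟩ := Groth.Agent.S12600.result k K hK φ hφ τ s H hH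
  rwa [isOrders_unique hJ h1]

theorem main (hK : FunFld.IsFunctionField k K) {n : ℕ} (φ : Fin (n + 1) → K) (hφ : LinearIndependent k φ)
    (τ : K →ₐ[k] K) (s : K) (Hs : K →ₐ[k] PowerSeries K) (hHs : LocRes.IsHasseFamily s Hs)
    (t : K) (Ht : K →ₐ[k] PowerSeries K) (hHt : LocRes.IsHasseFamily t Ht)
    (J : Fin n → ℕ) (hJ : FunFld.IsOrders K (FunFld.hcol τ Hs φ) J)
    (A : Matrix (Fin (n + 1)) (Fin (n + 1)) k) (hA : A.det ≠ 0) (y : K) (hy : y ≠ 0)
    (φ' : Fin (n + 1) → K) (hφ' : ∀ i, φ' i = y * ∑ j, A i j • φ j)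
    (Φ : FunFld.Place k K → (K →ₐ[k] LaurentSeries k))
    (hΦ : ∀ P : FunFld.Place k K, LocRes.IsExpansionAt P.1 (Φ P)) :
    IsOrders K (hcol τ Ht φ') J ∧ FunFld.wDiv τ Ht Φ t φ' J = FunFld.wDiv τ Hs Φ s φ J := by
  obtain ⟨c1, c2⟩ := Groth.Agent.S12598.result k K hK φ hφ τ s Hs hHs t Ht hHt
  have hJt : IsOrders K (hcol τ Ht φ) J := (c1 J).mpr hJ
  have c3 := c2 J hJ
  set ψ : Fin (n + 1) → K := fun i => ∑ j, A i j • φ j with hψ
  obtain ⟨d1, d2⟩ := Groth.Agent.S12596.result k K hK φ hφ τ t Ht hHt A hA ψ (fun i => rfl)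
  have hJψ : IsOrders K (hcol τ Ht ψ) J := (d1 J).mpr hJt
  have hψli : LinearIndependent k ψ := MapDiv.linearIndependent_of_matrix A hA hφ (fun i => rfl)
  obtain ⟨e1, e2⟩ := Groth.Agent.S12597.result k K hK ψ hψli τ t Ht hHt y hy
  have hφ'eq : φ' = y • ψ := by
    funext i
    rw [hφ' i]
    rfl
  have e3 := e2 J hJψ
  refine ⟨by rw [hφ'eq]; exact (e1 J).mpr hJψ, ?_⟩
  have hw : (wrMat τ Hs φ J).det ≠ 0 := det_ne_zero hK hφ τ Hs hHs hJ
  have hs0 : KaehlerDifferential.D k K s ≠ 0 := DiffCalc.D_ne_zero_of_isHasseFamily Hs hHs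
  obtain ⟨hds, hdiv⟩ := DivDiff.divDiff_one_eq hK Φ hΦ Ht hHt hs0
  have hτinj : ∀ z : K, z ≠ 0 → τ z ≠ 0 := fun z hz => (map_ne_zero τ).mpr hz
  -- the Wronskian
  have hdet : div k (wrMat τ Ht φ' J).det = div k (τ y) + n • div k y + (∑ l, J l) •
      div k (LocRes.hasseD Ht 1 s) + div k (wrMat τ Hs φ J).det := by
    rw [hφ'eq, e3, d2 J, c3]
    have hA' : algebraMap k K A.det ≠ 0 := by
      rw [Ne, FaithfulSMul.algebraMap_eq_zero_iff]; exact hA
    have h1 : LocRes.hasseD Ht 1 s ^ (∑ l, J l) ≠ 0 := pow_ne_zero _ hds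
    have h2 : algebraMap k K A.det * (LocRes.hasseD Ht 1 s ^ (∑ l, J l) * (wrMat τ Hs φ J).det) ≠ 0 :=
      mul_ne_zero hA' (mul_ne_zero h1 hw)
    rw [MapDiv.div_mul hK (mul_ne_zero (hτinj y hy) (pow_ne_zero n hy)) h2,
      MapDiv.div_mul hK (hτinj y hy) (pow_ne_zero n hy), MapDiv.div_pow hK,
      MapDiv.div_mul hK hA' (mul_ne_zero h1 hw), MapDiv.div_algebraMap hK,
      MapDiv.div_mul hK h1 hw, MapDiv.div_pow hK]
    abel
  -- the divisor of the map
  have hmap : mapDiv k φ' = mapDiv k φ - div k y := by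
    rw [hφ'eq, MapDiv.mapDiv_smul hK hy (MapDiv.good_of_linearIndependent hψli)
      (MapDiv.good_smul hy fun i => hψli.ne_zero i),
      MapDiv.mapDiv_eq_of_span_eq hK (MapDiv.good_of_linearIndependent hψli)
      (MapDiv.good_of_linearIndependent hφ) (MapDiv.span_eq_of_matrix A hA fun i => rfl)]
  have hmapτ : mapDiv k (τ ∘ φ') = mapDiv k (τ ∘ φ) - div k (τ y) := by
    have h1 : τ ∘ φ' = τ y • (τ ∘ ψ) := by
      funext i
      rw [hφ'eq]
      show τ (y * ψ i) = τ y * τ (ψ i)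
      rw [map_mul]
    have g1 : MapDiv.Good (τ ∘ ψ) := Or.inl fun i => hτinj _ (hψli.ne_zero i)
    have g2 : MapDiv.Good (τ ∘ φ) := Or.inl fun i => hτinj _ (hφ.ne_zero i)
    rw [h1, MapDiv.mapDiv_smul hK (hτinj y hy) g1
      (MapDiv.good_smul (hτinj y hy) fun i => hτinj _ (hψli.ne_zero i)),
      MapDiv.mapDiv_eq_of_span_eq hK g1 g2 (MapDiv.span_eq_of_matrix A hA fun i => ?_)]
    show τ (∑ j, A i j • φ j) = ∑ j, A i j • τ (φ j)
    simp only [map_sum, map_smul]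
  rw [wDiv, wDiv, hdet, hmap, hmapτ, hdiv]
  have hJsum : (Finset.univ.sum fun l => (J l : ℤ)) = ((∑ l, J l : ℕ) : ℤ) := by push_cast; rfl
  rw [hJsum]
  simp only [smul_sub, smul_add, natCast_zsmul]
  abel

end K669.WDivEquiv
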