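import Groth.Agent.S12605
import Groth.Agent.FunFld.K669.WDivEquiv
import Groth.Agent.FunFld.K666.Basic

/-! The Weierstrass divisor at a fixed point of the endomorphism. -/

set_option autoImplicit false

namespace K669.WDivFixed

open FunFld WithZero

variable {k K : Type*} [Field k] [IsAlgClosed k] [Field K] [Algebra k K]

theorem val_le_one_of_isFixedPt (hK : IsFunctionField k K) {τ : K →ₐ[k] K} {P : Place k K}
    (hP : IsFixedPt τ P) {z : K} (hz : P.1 z ≤ 1) : P.1 (τ z) ≤ 1 := by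
  obtain ⟨c, hc⟩ := K666.Basic.exists_const hK P z hz
  have h1 := hP _ hc
  rw [map_sub, AlgHom.commutes] at h1
  have : τ z = (τ z - algebraMap k K c) + algebraMap k K c := by ring
  rw [this]
  exact (P.1.map_add _ _).trans (max_le h1.le (P.2.1 c))

omit [IsAlgClosed k] in
theorem map_mem_span {τ : K →ₐ[k] K} {ι : Type*} {φ : ι → K} {f : K}
    (hf : f ∈ Submodule.span k (Set.range φ)) : τ f ∈ Submodule.span k (Set.range (τ ∘ φ)) := by
  have h1 : τ.toLinearMap f ∈ (Submodule.span k (Set.range φ)).map τ.toLinearMap :=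
    Submodule.mem_map_of_mem hf
  rw [Submodule.map_span, ← Set.range_comp] at h1
  exact h1

theorem isStrong_isFixed {τ : K →ₐ[k] K} {P : Place k K} (hP : IsStrongFixedPt τ P) :
    IsFixedPt τ P := fun z hz => (hP z hz).trans_lt (by rw [← exp_zero, exp_lt_exp]; omega)

theorem isFixedPt_id (P : Place k K) : IsFixedPt (AlgHom.id k K) P := fun z hz => hz

/-- The coefficient of the Weierstrass divisor at a fixed point for a normalized tuple. -/
theorem wDiv_apply (hK : IsFunctionField k K) {τ : K →ₐ[k] K} {P : Place k K} (hP : IsFixedPt τ P)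
    {n : ℕ} {φ : Fin (n + 1) → K} (hφ : LinearIndependent k φ)
    (heff : (1 : K) ∈ Submodule.span k (Set.range φ)) (hnorm : ∀ i, P.1 (φ i) ≤ 1)
    {t : K} (ht : P.1 t = exp (-1))
    (Ht : K →ₐ[k] PowerSeries K) (hHt : LocRes.IsHasseFamily t Ht) (J : Fin n → ℕ)
    (Φ : Place k K → (K →ₐ[k] LaurentSeries k))
    (hΦ : ∀ P : Place k K, LocRes.IsExpansionAt P.1 (Φ P)) :
    wDiv τ Ht Φ t φ J P = P.ord (wrMat τ Ht φ J).det := by
  have hτinj : ∀ z : K, z ≠ 0 → τ z ≠ 0 := fun z hz => (map_ne_zero τ).mpr hz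
  have h1 : mapDiv k φ P = 0 :=
    MapDiv.mapDiv_eq_zero_of_normalized hK (MapDiv.good_of_linearIndependent hφ) P heff hnorm
  have h2 : mapDiv k (τ ∘ φ) P = 0 := by
    apply MapDiv.mapDiv_eq_zero_of_normalized hK (Or.inl fun i => hτinj _ (hφ.ne_zero i)) P
    · have := map_mem_span (τ := τ) heff
      rwa [map_one] at this
    · intro i
      exact val_le_one_of_isFixedPt hK hP (hnorm i)
  have h3 : divDiff Φ 1 t P = 0 := by
    rw [DivDiff.divDiff_apply hK Φ hΦ one_ne_zero (DiffCalc.D_ne_zero_of_isHasseFamily Ht hHt),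
      DiffCalc.ordDiff_one_of_val (Φ P) (hΦ P) ht]
  rw [wDiv]
  simp only [Finsupp.add_apply, Finsupp.smul_apply, h1, h2, h3, MapDiv.div_apply hK]
  simp

omit [IsAlgClosed k] in
/-- The orders (for the identity) are positive. -/
theorem pos_of_isOrders_id {n : ℕ} {φ : Fin (n + 1) → K} {s : K} {H : K →ₐ[k] PowerSeries K}
    (hH : LocRes.IsHasseFamily s H) {J : Fin n → ℕ} (hJ : IsOrders K (hcol (AlgHom.id k K) H φ) J)
    (l : Fin n) : 0 < J l := by
  by_contra h
  have h0 : J l = 0 := by omega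
  have h1 := (hJ.2 (J l)).mp ⟨l, rfl⟩
  rw [h0] at h1
  apply h1
  have h2 : hcol (AlgHom.id k K) H φ (0 + 1) = hcol (AlgHom.id k K) H φ 0 := by
    funext i
    show LocRes.hasseD H 0 (φ i) = φ i
    rw [LocRes.hasseD, PowerSeries.coeff_zero_eq_constantCoeff]
    exact hH.2 _
  rw [h2]
  exact Submodule.subset_span ⟨0, by simp, rfl⟩

theorem main (hK : FunFld.IsFunctionField k K) (τ : K →ₐ[k] K) (P : FunFld.Place k K) (hP : FunFld.IsFixedPt τ P)
    {n : ℕ} (φ : Fin (n + 1) → K) (hφ : LinearIndependent k φ)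
    (heff : (1 : K) ∈ Submodule.span k (Set.range φ)) (hnorm : ∀ i, P.1 (φ i) ≤ 1)
    (t : K) (ht : P.1 t = WithZero.exp (-1))
    (Ht : K →ₐ[k] PowerSeries K) (hHt : LocRes.IsHasseFamily t Ht)
    (J : Fin n → ℕ) (hJ : FunFld.IsOrders K (FunFld.hcol τ Ht φ) J)
    (J' : Fin n → ℕ) (hJ' : FunFld.IsOrders (IsLocalRing.ResidueField P.O) (FunFld.hcolAt P Ht φ) J')
    (Φ : FunFld.Place k K → (K →ₐ[k] LaurentSeries k))
    (hΦ : ∀ P : FunFld.Place k K, LocRes.IsExpansionAt P.1 (Φ P)) :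
    (∑ l, ((J' l : ℤ) - J l)) ≤ FunFld.wDiv τ Ht Φ t φ J P ∧
    ((τ = AlgHom.id k K ∨ FunFld.IsStrongFixedPt τ P) →
      (FunFld.wDiv τ Ht Φ t φ J P = ∑ l, ((J' l : ℤ) - J l) ↔ (FunFld.binomMat k J' J).det ≠ 0)) := by
  obtain ⟨h1, h2⟩ := Groth.Agent.S12605.result k K hK τ P hP φ hφ heff hnorm t ht Ht hHt J' hJ' J hJ.1
  have h0 := WDivEquiv.det_ne_zero hK hφ τ Ht hHt hJ
  rw [wDiv_apply hK hP hφ heff hnorm ht Ht hHt J Φ hΦ]
  refine ⟨?_, fun hc => ?_⟩
  · rw [K660.Ord.val_le_exp_iff P h0] at h1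
    linarith
  · rw [← h2 ?_, K660.Ord.val_eq_exp_iff P h0, neg_neg]
    rcases hc with rfl | hc
    · left
      exact fun l => pos_of_isOrders_id hHt hJ l
    · right; exact hc

end K669.WDivFixed
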