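import Groth.Agent.FunFld.K669.Local
import Mathlib.LinearAlgebra.Dual.Lemmas

/-! Orders of a linear system at a place: jumps are the orders of the functions of the system. -/

set_option autoImplicit false

namespace K669.Adapted

open FunFld WithZero

variable {k K : Type*} [Field k] [Field K] [Algebra k K]

theorem linearIndependent_of_val (P : Place k K) {n : ℕ} (f : Fin n → K) (h0 : ∀ i, f i ≠ 0)
    (h : ∀ i j, i < j → P.1 (f j) < P.1 (f i)) : LinearIndependent k f := by
  classical
  rw [Fintype.linearIndependent_iff]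
  intro g hg
  by_contra hne
  push Not at hne
  obtain ⟨i₁, hi₁⟩ := hne
  obtain ⟨i₀, hi₀, hmin⟩ := (Finset.univ.filter fun i => g i ≠ 0).exists_min_image id
    ⟨i₁, by simpa using hi₁⟩
  simp only [Finset.mem_filter, Finset.mem_univ, true_and, id] at hi₀ hmin
  rw [← Finset.add_sum_erase Finset.univ _ (Finset.mem_univ i₀)] at hg
  have h1 : P.1 (∑ x ∈ Finset.univ.erase i₀, g x • f x) < P.1 (f i₀) := by
    apply P.1.map_sum_lt ((Valuation.ne_zero_iff _).mpr (h0 i₀))
    intro i hi
    by_cases hgi : g i = 0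
    · rw [hgi, zero_smul, map_zero]
      exact zero_lt_iff.mpr ((Valuation.ne_zero_iff _).mpr (h0 i₀))
    · have h2 : i₀ < i := lt_of_le_of_ne (hmin i hgi) (Finset.ne_of_mem_erase hi).symm
      rw [Algebra.smul_def, map_mul, K660.Ord.val_algebraMap P hgi, one_mul]
      exact h i₀ i h2
  have h2 : P.1 (g i₀ • f i₀) = P.1 (f i₀) := by
    rw [Algebra.smul_def, map_mul, K660.Ord.val_algebraMap P hi₀, one_mul]
  rw [← h2] at h1
  have h3 := Valuation.map_add_eq_of_lt_left P.1 h1
  rw [hg, map_zero, h2] at h3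
  exact (Valuation.ne_zero_iff _).mpr (h0 i₀) h3.symm

variable [IsAlgClosed k]

theorem surj_residue (hK : IsFunctionField k K) (P : Place k K) :
    Function.Surjective (algebraMap k (IsLocalRing.ResidueField P.O)) := by
  intro x
  obtain ⟨⟨z, hz⟩, rfl⟩ := IsLocalRing.residue_surjective x
  have hz' : P.1 z ≤ 1 := (Valuation.mem_valuationSubring_iff P.1 z).mp hz
  obtain ⟨c, hc⟩ := K666.Basic.exists_const hK P z hz'
  refine ⟨c, ?_⟩
  rw [← Local.evalP_algebraMap P c, ← Local.evalP_eq P hz', ← sub_eq_zero,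
    ← Local.evalP_sub P (P.2.1 c) hz', Local.evalP_eq_zero_iff P
      ((P.1.map_sub _ _).trans (max_le (P.2.1 c) hz')), Valuation.map_sub_swap]
  exact hc

omit [IsAlgClosed k] in
theorem val_le_one_of_mem_span {P : Place k K} {ι : Type*} {φ : ι → K} (hnorm : ∀ i, P.1 (φ i) ≤ 1)
    {f : K} (hf : f ∈ Submodule.span k (Set.range φ)) : P.1 f ≤ 1 := by
  induction hf using Submodule.span_induction with
  | mem x hx => obtain ⟨i, rfl⟩ := hx; exact hnorm i
  | zero => rw [map_zero]; exact zero_le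
  | add x y _ _ hx hy => exact (P.1.map_add x y).trans (max_le hx hy)
  | smul c x _ hx =>
    rw [Algebra.smul_def, map_mul]
    exact (mul_le_mul' (P.2.1 c) hx).trans_eq (one_mul _)

omit [IsAlgClosed k] in
theorem val_eq_iff_coeff {P : Place k K} {Ψ : K →ₐ[k] LaurentSeries k}
    (hΨ : LocRes.IsExpansionAt P.1 Ψ) {z : K} (hz : P.1 z ≤ 1) (j : ℕ) :
    P.1 z = exp (-(j : ℤ)) ↔ (∀ n : ℕ, n < j → (Ψ z).coeff (n : ℤ) = 0) ∧ (Ψ z).coeff (j : ℤ) ≠ 0 := by
  rw [← Local.val_le_iff_coeff hΨ hz]
  constructor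
  · intro h
    refine ⟨h.le, fun h1 => ?_⟩
    have h2 : P.1 z ≤ exp (-((j + 1 : ℕ) : ℤ)) := by
      rw [Local.val_le_iff_coeff hΨ hz]
      intro n hn
      rcases Nat.lt_succ_iff_lt_or_eq.mp hn with h3 | rfl
      · exact (Local.val_le_iff_coeff hΨ hz j).mp h.le n h3
      · exact h1
    rw [h, exp_le_exp] at h2
    push_cast at h2
    omega
  · rintro ⟨h1, h2⟩
    apply le_antisymm h1
    rw [← not_lt]
    intro h3
    apply h2
    have h4 : P.1 z ≤ exp (-((j + 1 : ℕ) : ℤ)) := by
      rw [K660.Ord.lt_exp_iff_le] at h3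
      refine h3.trans (le_of_eq ?_)
      congr 1
      push_cast
      ring
    exact (Local.val_le_iff_coeff hΨ hz (j + 1)).mp h4 j (Nat.lt_succ_self j)

/-- For `j ≥ 1`, the column of `j`-th Hasse derivatives is a jump exactly when some function of the
system has order `j` at `P`. -/
theorem isJump_iff (hK : IsFunctionField k K) (P : Place k K) {n : ℕ} (φ : Fin (n + 1) → K)
    (hnorm : ∀ i, P.1 (φ i) ≤ 1) {t : K} (ht : P.1 t = exp (-1))
    (Ht : K →ₐ[k] PowerSeries K) (hHt : LocRes.IsHasseFamily t Ht) {j : ℕ} (hj : 1 ≤ j) :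
    IsJump (IsLocalRing.ResidueField P.O) (hcolAt P Ht φ) (j + 1) ↔
      ∃ f ∈ Submodule.span k (Set.range φ), P.1 f = exp (-(j : ℤ)) := by
  classical
  obtain ⟨Ψ, hΨ, -, hval⟩ := Local.exists_expansion_hasse hK P ht Ht hHt
  let κ := IsLocalRing.ResidueField P.O
  have hinj : Function.Injective (algebraMap k κ) := FaithfulSMul.algebraMap_injective k κ
  have hc0 : ∀ i, hcolAt P Ht φ 0 i = algebraMap k κ ((Ψ (φ i)).coeff ((0 : ℕ) : ℤ)) := fun i =>
    Local.evalP_eq_coeff hΨ (hnorm i)
  have hc : ∀ m i, hcolAt P Ht φ (m + 1) i = algebraMap k κ ((Ψ (φ i)).coeff (m : ℤ)) := fun m i =>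
    (hval (φ i) m (hnorm i)).2
  have hcoeff : ∀ (μ : Fin (n + 1) → k) (m : ℤ), (Ψ (∑ i, μ i • φ i)).coeff m =
      ∑ i, μ i * (Ψ (φ i)).coeff m := by
    intro μ m
    rw [map_sum, HahnSeries.coeff_sum]
    refine Finset.sum_congr rfl fun i _ => ?_
    rw [Algebra.smul_def, map_mul, LocRes.map_algebraMap, HahnSeries.C_mul_eq_smul]
    rfl
  constructor
  · intro h
    obtain ⟨g, hg1, hg2⟩ := Submodule.exists_le_ker_of_notMem h
    have hμ : ∀ i, ∃ μ : k, algebraMap k κ μ = g (Pi.single i 1) := fun i =>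
      surj_residue hK P _
    choose μ hμ using hμ
    have hgv : ∀ v : Fin (n + 1) → κ, g v = ∑ i, v i * algebraMap k κ (μ i) := by
      intro v
      conv_lhs => rw [pi_eq_sum_univ' v]
      rw [map_sum]
      refine Finset.sum_congr rfl fun i _ => ?_
      rw [map_smul, smul_eq_mul, hμ]
    have hgc : ∀ m, g (hcolAt P Ht φ (m + 1)) =
        algebraMap k κ ((Ψ (∑ i, μ i • φ i)).coeff (m : ℤ)) := by
      intro m
      rw [hgv, hcoeff, map_sum]
      refine Finset.sum_congr rfl fun i _ => ?_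
      rw [hc, map_mul, mul_comm]
    have hmem : ∑ i, μ i • φ i ∈ Submodule.span k (Set.range φ) :=
      Submodule.sum_mem _ fun i _ => Submodule.smul_mem _ _ (Submodule.subset_span ⟨i, rfl⟩)
    refine ⟨_, hmem, ?_⟩
    rw [val_eq_iff_coeff hΨ (val_le_one_of_mem_span hnorm hmem)]
    constructor
    · intro m hm
      have h1 : g (hcolAt P Ht φ (m + 1)) = 0 :=
        LinearMap.mem_ker.mp (hg2 (Submodule.subset_span ⟨m + 1, by simpa using hm, rfl⟩))
      rw [hgc] at h1
      exact hinj (by rw [h1, map_zero])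
    · intro h0
      apply hg1
      rw [hgc, h0, map_zero]
  · rintro ⟨f, hf, hfval⟩ hmem
    obtain ⟨μ, rfl⟩ := (Submodule.mem_span_range_iff_exists_fun k).mp hf
    have hf' := (val_eq_iff_coeff hΨ (val_le_one_of_mem_span hnorm hf) j).mp hfval
    let g : (Fin (n + 1) → κ) →ₗ[κ] κ :=
      { toFun := fun v => ∑ i, algebraMap k κ (μ i) * v i
        map_add' := fun v w => by simp [mul_add, Finset.sum_add_distrib]
        map_smul' := fun c v => by
          rw [RingHom.id_apply, smul_eq_mul, Finset.mul_sum]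
          refine Finset.sum_congr rfl fun i _ => ?_
          rw [Pi.smul_apply, smul_eq_mul]
          ring }
    have hgc : ∀ m, g (hcolAt P Ht φ (m + 1)) =
        algebraMap k κ ((Ψ (∑ i, μ i • φ i)).coeff (m : ℤ)) := by
      intro m
      show ∑ i, algebraMap k κ (μ i) * hcolAt P Ht φ (m + 1) i = _
      rw [hcoeff, map_sum]
      refine Finset.sum_congr rfl fun i _ => ?_
      rw [hc, map_mul]
    have hgc0 : g (hcolAt P Ht φ 0) =
        algebraMap k κ ((Ψ (∑ i, μ i • φ i)).coeff ((0 : ℕ) : ℤ)) := by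
      show ∑ i, algebraMap k κ (μ i) * hcolAt P Ht φ 0 i = _
      rw [hcoeff, map_sum]
      refine Finset.sum_congr rfl fun i _ => ?_
      rw [hc0, map_mul]
    have hker : Submodule.span κ (hcolAt P Ht φ '' Set.Iio (j + 1)) ≤ LinearMap.ker g := by
      rw [Submodule.span_le]
      rintro _ ⟨m, hm, rfl⟩
      rw [SetLike.mem_coe, LinearMap.mem_ker]
      cases m with
      | zero => rw [hgc0, hf'.1 0 (by omega), map_zero]
      | succ m =>
        rw [hgc, hf'.1 m (by simpa using hm), map_zero]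
    have := hker hmem
    rw [LinearMap.mem_ker, hgc] at this
    exact hf'.2 (hinj (by rw [this, map_zero]))

omit [IsAlgClosed k] in
theorem not_isJump_one (P : Place k K) {n : ℕ} (φ : Fin (n + 1) → K)
    {t : K} (Ht : K →ₐ[k] PowerSeries K) (hHt : LocRes.IsHasseFamily t Ht) :
    ¬ IsJump (IsLocalRing.ResidueField P.O) (hcolAt P Ht φ) (0 + 1) := by
  intro h
  apply h
  have h2 : hcolAt P Ht φ (0 + 1) = hcolAt P Ht φ 0 := by
    funext i
    show evalP P (LocRes.hasseD Ht 0 (φ i)) = evalP P (φ i)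
    rw [LocRes.hasseD, PowerSeries.coeff_zero_eq_constantCoeff]
    congr 1
    exact hHt.2 _
  rw [h2]
  exact Submodule.subset_span ⟨0, by simp, rfl⟩

/-- The orders at `P` are the orders of the functions of the system. -/
theorem order_iff (hK : IsFunctionField k K) (P : Place k K) {n : ℕ} (φ : Fin (n + 1) → K)
    (heff : (1 : K) ∈ Submodule.span k (Set.range φ)) (hnorm : ∀ i, P.1 (φ i) ≤ 1)
    {t : K} (ht : P.1 t = exp (-1))
    (Ht : K →ₐ[k] PowerSeries K) (hHt : LocRes.IsHasseFamily t Ht)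
    {J' : Fin n → ℕ} (hJ' : IsOrders (IsLocalRing.ResidueField P.O) (hcolAt P Ht φ) J') (j : ℕ) :
    (j = 0 ∨ j ∈ Set.range J') ↔
      ∃ f ∈ Submodule.span k (Set.range φ), P.1 f = exp (-(j : ℤ)) := by
  rcases Nat.eq_zero_or_pos j with rfl | hj
  · simp only [true_or, true_iff]
    exact ⟨1, heff, by simp⟩
  · rw [← isJump_iff hK P φ hnorm ht Ht hHt hj, ← hJ'.2]
    constructor
    · rintro (h | h)
      · omega
      · exact h
    · exact Or.inr

theorem orders_pos (P : Place k K) {n : ℕ} {φ : Fin (n + 1) → K}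
    {t : K} {Ht : K →ₐ[k] PowerSeries K} (hHt : LocRes.IsHasseFamily t Ht)
    {J' : Fin n → ℕ} (hJ' : IsOrders (IsLocalRing.ResidueField P.O) (hcolAt P Ht φ) J') (l : Fin n) :
    0 < J' l := by
  by_contra h
  have h0 : J' l = 0 := by omega
  have h1 := (hJ'.2 (J' l)).mp ⟨l, rfl⟩
  rw [h0] at h1
  exact not_isJump_one P φ Ht hHt h1

theorem exists_adapted (hK : IsFunctionField k K) (P : Place k K) {n : ℕ} (φ : Fin (n + 1) → K)
    (hφ : LinearIndependent k φ)
    (heff : (1 : K) ∈ Submodule.span k (Set.range φ)) (hnorm : ∀ i, P.1 (φ i) ≤ 1)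
    {t : K} (ht : P.1 t = exp (-1))
    (Ht : K →ₐ[k] PowerSeries K) (hHt : LocRes.IsHasseFamily t Ht)
    {J' : Fin n → ℕ} (hJ' : IsOrders (IsLocalRing.ResidueField P.O) (hcolAt P Ht φ) J') :
    ∃ φ' : Fin (n + 1) → K,
      Submodule.span k (Set.range φ') = Submodule.span k (Set.range φ) ∧
      P.1 (φ' 0) = 1 ∧ evalP P (φ' 0) = 1 ∧
      ∀ l : Fin n, P.1 (φ' l.succ) = exp (-(J' l : ℤ)) ∧ evalP P (φ' l.succ / t ^ J' l) = 1 := by
  obtain ⟨Ψ, hΨ, -, hval⟩ := Local.exists_expansion_hasse hK P ht Ht hHt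
  have ht0 : t ≠ 0 := K660.Ord.ne_zero_of_val P ht
  have hex : ∀ l : Fin n, ∃ f ∈ Submodule.span k (Set.range φ), P.1 f = exp (-(J' l : ℤ)) ∧
      evalP P (f / t ^ J' l) = 1 := by
    intro l
    obtain ⟨f, hf, hfv⟩ := (order_iff hK P φ heff hnorm ht Ht hHt hJ' (J' l)).mp (Or.inr ⟨l, rfl⟩)
    have hf0 : f ≠ 0 := K660.Ord.ne_zero_of_val P hfv
    have h1 : P.1 (f / t ^ J' l) = 1 := by
      rw [map_div₀, map_pow, hfv, ht, ← exp_nsmul, ← exp_sub]
      simp
    have h2 := Local.evalP_eq_coeff hΨ h1.le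
    have h3 : evalP P (f / t ^ J' l) ≠ 0 := by
      rw [Ne, Local.evalP_eq_zero_iff P h1.le, h1]
      exact lt_irrefl _
    set c := (Ψ (f / t ^ J' l)).coeff 0 with hc
    have hc0 : c ≠ 0 := by
      intro h
      rw [h2, h, map_zero] at h3
      exact h3 rfl
    refine ⟨c⁻¹ • f, Submodule.smul_mem _ _ hf, ?_, ?_⟩
    · rw [Algebra.smul_def, map_mul, K660.Ord.val_algebraMap P (inv_ne_zero hc0), one_mul, hfv]
    · have h4 : (c⁻¹ • f) / t ^ J' l = algebraMap k K c⁻¹ * (f / t ^ J' l) := by
        rw [Algebra.smul_def, mul_div_assoc]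
      rw [h4, Local.evalP_mul P (P.2.1 _) h1.le, Local.evalP_algebraMap, h2, ← map_mul,
        inv_mul_cancel₀ hc0, map_one]
  choose g hg1 hg2 hg3 using hex
  have hli : LinearIndependent k (Fin.cons 1 g : Fin (n + 1) → K) := by
    apply linearIndependent_of_val P
    · intro i
      induction i using Fin.cases with
      | zero => exact one_ne_zero
      | succ i =>
        rw [Fin.cons_succ]
        exact K660.Ord.ne_zero_of_val P (hg2 i)
    · intro i j hij
      induction j using Fin.cases with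
      | zero => exact absurd hij (Fin.not_lt_zero i)
      | succ j =>
        rw [Fin.cons_succ, hg2]
        induction i using Fin.cases with
        | zero =>
          rw [Fin.cons_zero, map_one, ← exp_zero, exp_lt_exp]
          have := orders_pos P hHt hJ' j
          omega
        | succ i =>
          rw [Fin.cons_succ, hg2, exp_lt_exp]
          have := hJ'.1 (Fin.succ_lt_succ_iff.mp hij)
          omega
  refine ⟨Fin.cons 1 g, ?_, ?_, ?_, fun l => ?_⟩
  · have := FiniteDimensional.span_of_finite k (Set.finite_range φ)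
    apply Submodule.eq_of_le_of_finrank_eq
    · rw [Submodule.span_le]
      rintro _ ⟨i, rfl⟩
      induction i using Fin.cases with
      | zero => exact heff
      | succ i => rw [Fin.cons_succ]; exact hg1 i
    · rw [finrank_span_eq_card hli, finrank_span_eq_card hφ]
  · rw [Fin.cons_zero, map_one]
  · rw [Fin.cons_zero, Local.evalP_one]
  · rw [Fin.cons_succ]
    exact ⟨hg2 l, hg3 l⟩

/-- `isOrders` gives the first order one at a nonsingular place. -/
theorem exists_order_one (hK : IsFunctionField k K) (P : Place k K) {n : ℕ} (φ : Fin (n + 1) → K)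
    (heff : (1 : K) ∈ Submodule.span k (Set.range φ)) (hnorm : ∀ i, P.1 (φ i) ≤ 1)
    (hns : IsNonsingularAt φ P) : ∃ f ∈ Submodule.span k (Set.range φ), P.1 f = exp (-1) := by
  by_contra hcon
  push Not at hcon
  -- every function of the system is a constant modulo the square
  have h1 : ∀ f ∈ Submodule.span k (Set.range φ), ∃ c : k, P.1 (f - algebraMap k K c) ≤ exp (-2) := by
    intro f hf
    obtain ⟨c, hc⟩ := K666.Basic.exists_const hK P f (val_le_one_of_mem_span hnorm hf)
    refine ⟨c, ?_⟩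
    have h2 : f - algebraMap k K c ∈ Submodule.span k (Set.range φ) := by
      rw [Algebra.algebraMap_eq_smul_one]
      exact Submodule.sub_mem _ hf (Submodule.smul_mem _ _ heff)
    have h3 := hcon _ h2
    rw [K660.Ord.lt_one_iff_le] at hc
    have h4 := lt_of_le_of_ne hc h3
    rwa [K660.Ord.lt_exp_iff_le] at h4
  -- elements congruent to a constant modulo the square form a subalgebra
  let S : Subalgebra k K :=
    { carrier := {f | ∃ c : k, P.1 (f - algebraMap k K c) ≤ exp (-2)}
      mul_mem' := by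
        rintro f g ⟨c, hc⟩ ⟨d, hd⟩
        refine ⟨c * d, ?_⟩
        have hf1 : P.1 f ≤ 1 := by
          have : f = (f - algebraMap k K c) + algebraMap k K c := by ring
          rw [this]
          refine (P.1.map_add _ _).trans (max_le (hc.trans ?_) (P.2.1 c))
          rw [← exp_zero, exp_le_exp]; omega
        have : f * g - algebraMap k K (c * d) = f * (g - algebraMap k K d) +
            (f - algebraMap k K c) * algebraMap k K d := by rw [map_mul]; ring
        rw [this]
        refine (P.1.map_add _ _).trans (max_le ?_ ?_)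
        · rw [map_mul]; exact (mul_le_mul' hf1 hd).trans_eq (one_mul _)
        · rw [map_mul]; exact (mul_le_mul' hc (P.2.1 d)).trans_eq (mul_one _)
      add_mem' := by
        rintro f g ⟨c, hc⟩ ⟨d, hd⟩
        refine ⟨c + d, ?_⟩
        have : f + g - algebraMap k K (c + d) = (f - algebraMap k K c) +
            (g - algebraMap k K d) := by rw [map_add]; ring
        rw [this]
        exact (P.1.map_add _ _).trans (max_le hc hd)
      algebraMap_mem' := fun c => ⟨c, by simp⟩ }
  have hinvS : ∀ w ∈ S, P.1 w = 1 → w⁻¹ ∈ S := by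
    rintro w ⟨c, hc⟩ hw
    have hw0 : w ≠ 0 := by
      rintro rfl
      rw [map_zero] at hw
      exact zero_ne_one hw
    have hc0 : c ≠ 0 := by
      rintro rfl
      rw [map_zero, sub_zero, hw, ← exp_zero, exp_le_exp] at hc
      omega
    refine ⟨c⁻¹, ?_⟩
    have hcK : algebraMap k K c ≠ 0 := by
      rw [Ne, FaithfulSMul.algebraMap_eq_zero_iff]; exact hc0
    have : w⁻¹ - algebraMap k K c⁻¹ = -(w - algebraMap k K c) * (w⁻¹ * algebraMap k K c⁻¹) := by
      rw [map_inv₀]
      field_simp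
      ring
    rw [this, map_mul, Valuation.map_neg, map_mul, map_inv₀, hw, K660.Ord.val_algebraMap P (inv_ne_zero hc0)]
    simpa using hc
  obtain ⟨t, ht⟩ := K660.Ord.exists_unif P
  obtain ⟨j, hj0, hjmax, u, hu, w, hw, hw1, huw⟩ := hns t (by rw [ht, ← exp_zero, exp_le_exp]; omega)
  have hφS : ∀ i, φ i ∈ S := fun i => h1 _ (Submodule.subset_span ⟨i, rfl⟩)
  have hj1 : P.1 (φ j) = 1 := by
    apply le_antisymm (hnorm j)
    -- the maximum of the valuations is one since `1` is in the span
    have h2 : ∀ f ∈ Submodule.span k (Set.range φ), P.1 f ≤ P.1 (φ j) := by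
      intro f hf
      induction hf using Submodule.span_induction with
      | mem x hx => obtain ⟨i, rfl⟩ := hx; exact hjmax i
      | zero => rw [map_zero]; exact zero_le
      | add x y _ _ hx hy => exact (P.1.map_add x y).trans (max_le hx hy)
      | smul c x _ hx =>
        rw [Algebra.smul_def, map_mul]
        exact (mul_le_mul' (P.2.1 c) hx).trans_eq (one_mul _)
    have := h2 1 heff
    rwa [map_one] at this
  have hadj : Algebra.adjoin k (Set.range fun i => φ i / φ j) ≤ S := by
    rw [Algebra.adjoin_le_iff]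
    rintro _ ⟨i, rfl⟩
    show φ i / φ j ∈ S
    rw [div_eq_mul_inv]
    exact S.mul_mem (hφS i) (hinvS _ (hφS j) hj1)
  have hw0 : w ≠ 0 := by
    rintro rfl
    rw [map_zero] at hw1
    exact zero_ne_one hw1
  have htS : t ∈ S := by
    have : t = u * w⁻¹ := by rw [← huw]; field_simp
    rw [this]
    exact S.mul_mem (hadj hu) (hinvS _ (hadj hw) hw1)
  obtain ⟨c, hc⟩ := htS
  by_cases hc0 : c = 0
  · subst hc0
    rw [map_zero, sub_zero, ht, exp_le_exp] at hc
    omega
  · have h5 : P.1 (algebraMap k K c) ≤ exp (-1) := by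
      have : algebraMap k K c = t - (t - algebraMap k K c) := by ring
      rw [this]
      refine (P.1.map_sub _ _).trans (max_le ht.le (hc.trans ?_))
      rw [exp_le_exp]; omega
    rw [K660.Ord.val_algebraMap P hc0, ← exp_zero, exp_le_exp] at h5
    omega

theorem first_order_eq_one (hK : IsFunctionField k K) (P : Place k K) {n : ℕ} (hn : 0 < n)
    (φ : Fin (n + 1) → K)
    (heff : (1 : K) ∈ Submodule.span k (Set.range φ)) (hnorm : ∀ i, P.1 (φ i) ≤ 1)
    (hns : IsNonsingularAt φ P)
    {t : K} (ht : P.1 t = exp (-1))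
    (Ht : K →ₐ[k] PowerSeries K) (hHt : LocRes.IsHasseFamily t Ht)
    {J' : Fin n → ℕ} (hJ' : IsOrders (IsLocalRing.ResidueField P.O) (hcolAt P Ht φ) J') :
    J' ⟨0, hn⟩ = 1 := by
  obtain ⟨f, hf, hfv⟩ := exists_order_one hK P φ heff hnorm hns
  have h1 := (order_iff hK P φ heff hnorm ht Ht hHt hJ' 1).mpr ⟨f, hf, by exact_mod_cast hfv⟩
  rcases h1 with h1 | ⟨l, hl⟩
  · omega
  · have h2 := orders_pos P hHt hJ' ⟨0, hn⟩
    have h3 : J' ⟨0, hn⟩ ≤ J' l := hJ'.1.monotone (by rw [Fin.le_def]; simp)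
    omega

end K669.Adapted
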