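import Groth.Prelude.Def_LocRes
import Groth.Agent.FunFld.K669.DiffCalc
import Mathlib.RingTheory.PowerSeries.Substitution

/-! Existence of a Hasse family with respect to another element. -/

set_option autoImplicit false

namespace K669.HasseExists

open PowerSeries

variable {k K : Type*} [Field k] [Field K] [Algebra k K]

theorem exists_isHasseFamily (H : K →ₐ[k] PowerSeries K) {s : K} (hH : LocRes.IsHasseFamily s H)
    {t : K} (ht : LocRes.hasseD H 1 t ≠ 0) :
    ∃ Ht : K →ₐ[k] PowerSeries K, LocRes.IsHasseFamily t Ht := by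
  set P : PowerSeries K := H t - C t with hP
  have hP0 : constantCoeff P = 0 := by
    rw [hP, map_sub, hH.2 t, constantCoeff_C, sub_self]
  have hP1 : IsUnit (coeff 1 P) := by
    rw [hP, map_sub, isUnit_iff_ne_zero]
    have : coeff 1 (C t : PowerSeries K) = 0 := by rw [coeff_C]; simp
    rw [this, sub_zero]
    exact ht
  set w := substInvOfIsUnit P hP1 with hw
  have hws : HasSubst w := HasSubst.substInvOfIsUnit P hP1
  have hw0 : constantCoeff w = 0 := constantCoeff_substInvOfIsUnit P hP1
  have hinv : subst w P = X := subst_substInvOfIsUnit_right P hP0 hP1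
  let σ : PowerSeries K →ₐ[K] PowerSeries K := substAlgHom hws
  have hσ : ∀ f, σ f = subst w f := fun f => congrFun (coe_substAlgHom hws) f
  let Ht : K →ₐ[k] PowerSeries K :=
    { (σ.toRingHom.comp H.toRingHom) with
      commutes' := fun c => by
        show σ (H (algebraMap k K c)) = _
        rw [AlgHom.commutes]
        have h1 : algebraMap k (PowerSeries K) c = algebraMap K (PowerSeries K) (algebraMap k K c) := by
          rw [PowerSeries.algebraMap_apply, PowerSeries.algebraMap_apply]
          rfl
        rw [h1, AlgHom.commutes] }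
  have hHt : ∀ y, Ht y = subst w (H y) := fun y => hσ (H y)
  refine ⟨Ht, ?_, fun y => ?_⟩
  · have h1 : H t = C t + P := by rw [hP]; ring
    rw [hHt, h1, subst_add hws, hinv]
    congr 1
    exact subst_C t
  · rw [hHt]
    have h1 : H y = C y + (H y - C y) := by ring
    have h2 : constantCoeff (subst w (H y - C y) : PowerSeries K) = 0 := by
      apply constantCoeff_subst_eq_zero
      · exact hw0
      · rw [map_sub, hH.2 y, constantCoeff_C, sub_self]
    rw [h1, subst_add hws, map_add, h2, add_zero]
    have h3 : (subst w (C y) : PowerSeries K) = C y := subst_C y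
    rw [h3, constantCoeff_C]

theorem exists_isHasseFamily_of_D_ne_zero
    (hΩ : Module.finrank K (KaehlerDifferential k K) = 1)
    (H : K →ₐ[k] PowerSeries K) {s : K} (hH : LocRes.IsHasseFamily s H)
    {t : K} (ht : KaehlerDifferential.D k K t ≠ 0) :
    ∃ Ht : K →ₐ[k] PowerSeries K, LocRes.IsHasseFamily t Ht := by
  apply exists_isHasseFamily H hH
  intro h0
  apply ht
  rw [DiffCalc.D_eq_hasseD_smul hΩ H hH t, h0, zero_smul]

/-- A local parameter has nonzero differential. -/
theorem D_ne_zero_of_val {F : Type*} [Field F] [Algebra k F]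
    {w : Valuation K (WithZero (Multiplicative ℤ))} (φ : K →ₐ[k] LaurentSeries F)
    (hφ : LocRes.IsExpansionAt w φ) {t : K} (ht : w t = WithZero.exp (-1)) :
    KaehlerDifferential.D k K t ≠ 0 := by
  intro h
  have h1 := DiffCalc.vDiff_one_of_val φ hφ ht
  have h2 : LocRes.vDiff φ 1 t = LocRes.vDiff φ 0 t :=
    DiffCalc.vDiff_congr φ (by rw [h, smul_zero, smul_zero])
  rw [h2, DiffCalc.vDiff_zero] at h1
  exact zero_ne_one h1

end K669.HasseExists
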