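import Groth.Agent.S12601
import Groth.Agent.FunFld.K669.Adapted
import Groth.Agent.FunFld.K669.WDivFixed

/-! Orders at a place against orders. -/

set_option autoImplicit false

namespace K669.OrdersAt

open FunFld WithZero K668.Orders

variable {k K : Type*} [Field k] [Field K] [Algebra k K]

/-- The value of a determinant is the determinant of the values. -/
theorem evalP_det (P : Place k K) {m : ℕ} (M : Matrix (Fin m) (Fin m) K) (hM : ∀ i j, P.1 (M i j) ≤ 1) :
    P.1 M.det ≤ 1 ∧ evalP P M.det = (Matrix.of fun i j => evalP P (M i j)).det := by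
  let M' : Matrix (Fin m) (Fin m) P.O :=
    Matrix.of fun i j => ⟨M i j, (Valuation.mem_valuationSubring_iff P.1 _).mpr (hM i j)⟩
  have h1 : ((M'.det : P.O) : K) = M.det := by
    have := RingHom.map_det (algebraMap P.O K) M'
    have h2 : (algebraMap P.O K).mapMatrix M' = M := by
      ext i j
      rfl
    rw [h2] at this
    exact this
  have h2 : P.1 M.det ≤ 1 := by
    rw [← h1]
    exact (Valuation.mem_valuationSubring_iff P.1 _).mp M'.det.2
  refine ⟨h2, ?_⟩
  rw [Local.evalP_eq P h2]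
  have h3 : (⟨M.det, (Valuation.mem_valuationSubring_iff P.1 _).mpr h2⟩ : P.O) = M'.det :=
    Subtype.ext h1.symm
  rw [h3, RingHom.map_det]
  congr 1
  ext i j
  rw [RingHom.mapMatrix_apply, Matrix.map_apply, Matrix.of_apply, Local.evalP_eq P (hM i j)]
  rfl

variable [IsAlgClosed k]

theorem hcolAt_zero_ne (hK : IsFunctionField k K) (P : Place k K) {n : ℕ} (φ : Fin (n + 1) → K)
    (heff : (1 : K) ∈ Submodule.span k (Set.range φ)) (hnorm : ∀ i, P.1 (φ i) ≤ 1)
    (Ht : K →ₐ[k] PowerSeries K) : hcolAt P Ht φ 0 ≠ 0 := by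
  intro h
  have h1 : ∀ i, P.1 (φ i) < 1 := fun i => by
    rw [← Local.evalP_eq_zero_iff P (hnorm i)]
    exact congrFun h i
  have h2 : P.1 (1 : K) ≤ exp (-1) := by
    have h3 : ∀ f ∈ Submodule.span k (Set.range φ), P.1 f ≤ exp (-1) := by
      intro f hf
      induction hf using Submodule.span_induction with
      | mem x hx => obtain ⟨i, rfl⟩ := hx; exact K660.Ord.lt_one_iff_le.mp (h1 i)
      | zero => rw [map_zero]; exact zero_le
      | add x y _ _ hx hy => exact (P.1.map_add x y).trans (max_le hx hy)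
      | smul c x _ hx =>
        rw [Algebra.smul_def, map_mul]
        exact (mul_le_mul' (P.2.1 c) hx).trans_eq (one_mul _)
    exact h3 1 heff
  rw [map_one, ← exp_zero, exp_le_exp] at h2
  omega

theorem hcol_zero_ne {n : ℕ} {φ : Fin (n + 1) → K} (hφ : LinearIndependent k φ)
    (τ : K →ₐ[k] K) (H : K →ₐ[k] PowerSeries K) : hcol τ H φ 0 ≠ 0 := by
  intro h
  have := congrFun h 0
  exact (map_ne_zero τ).mpr (hφ.ne_zero 0) this

/-- The value at `P` of the generalized Wronskian. -/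
theorem evalP_wrMat (hK : IsFunctionField k K) (P : Place k K) {n : ℕ} (φ : Fin (n + 1) → K)
    (hnorm : ∀ i, P.1 (φ i) ≤ 1) {t : K} (ht : P.1 t = exp (-1))
    (Ht : K →ₐ[k] PowerSeries K) (hHt : LocRes.IsHasseFamily t Ht) (I : Fin n → ℕ) :
    P.1 (wrMat (AlgHom.id k K) Ht φ I).det ≤ 1 ∧
      evalP P (wrMat (AlgHom.id k K) Ht φ I).det = (colMat (hcolAt P Ht φ) (jmp I)).det := by
  have hM : ∀ i j, P.1 (wrMat (AlgHom.id k K) Ht φ I i j) ≤ 1 := by
    intro i j
    induction j using Fin.cases with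
    | zero => exact hnorm i
    | succ j => exact Local.val_hasseD_le hK P ht Ht hHt (hnorm i) _
  obtain ⟨h1, h2⟩ := evalP_det P _ hM
  refine ⟨h1, h2.trans ?_⟩
  congr 1
  ext i j
  induction j using Fin.cases with
  | zero => rfl
  | succ j => rfl

theorem main (hK : FunFld.IsFunctionField k K) (P : FunFld.Place k K) {n : ℕ} (φ : Fin (n + 1) → K) (hφ : LinearIndependent k φ)
    (heff : (1 : K) ∈ Submodule.span k (Set.range φ)) (hnorm : ∀ i, P.1 (φ i) ≤ 1)
    (t : K) (ht : P.1 t = WithZero.exp (-1))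
    (Ht : K →ₐ[k] PowerSeries K) (hHt : LocRes.IsHasseFamily t Ht)
    (J : Fin n → ℕ) (hJ : FunFld.IsOrders K (FunFld.hcol (AlgHom.id k K) Ht φ) J)
    (J' : Fin n → ℕ) (hJ' : FunFld.IsOrders (IsLocalRing.ResidueField P.O) (FunFld.hcolAt P Ht φ) J')
    (Φ : FunFld.Place k K → (K →ₐ[k] LaurentSeries k))
    (hΦ : ∀ P : FunFld.Place k K, LocRes.IsExpansionAt P.1 (Φ P)) :
    (∀ l, J l ≤ J' l) ∧
    ((∀ l, J' l = J l) ↔ FunFld.evalP P (FunFld.wrMat (AlgHom.id k K) Ht φ J).det ≠ 0) ∧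
    ((∀ l, J' l = J l) ↔ FunFld.wDiv (AlgHom.id k K) Ht Φ t φ J P = 0) := by
  have hEnum : Enum (IsLocalRing.ResidueField P.O) (hcolAt P Ht φ) (jmp J') :=
    (enum_jmp_iff (hcolAt_zero_ne hK P φ heff hnorm Ht) J').mpr hJ'
  have h1 : ∀ l, J l ≤ J' l := by
    apply Groth.Agent.S12601.result k K hK φ hφ (AlgHom.id k K) t Ht hHt J hJ J' hJ'.1
    intro h0
    obtain ⟨-, h2⟩ := evalP_wrMat hK P φ hnorm ht Ht hHt J'
    rw [h0] at h2
    apply hEnum.det_ne_zero
    rw [← h2, Local.evalP_eq_zero_iff P (by rw [map_zero]; exact zero_le), map_zero]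
    exact zero_lt_one
  have h2 : (∀ l, J' l = J l) ↔ FunFld.evalP P (FunFld.wrMat (AlgHom.id k K) Ht φ J).det ≠ 0 := by
    rw [(evalP_wrMat hK P φ hnorm ht Ht hHt J).2]
    constructor
    · intro h
      have : J' = J := funext h
      rw [← this]
      exact hEnum.det_ne_zero
    · intro h l
      apply le_antisymm _ (h1 l)
      have h3 := hEnum.le_of_det_ne_zero (strictMono_jmp hJ.1) h l.succ
      rw [jmp_succ, jmp_succ] at h3
      omega
  refine ⟨h1, h2, h2.trans ?_⟩
  rw [WDivFixed.wDiv_apply hK (WDivFixed.isFixedPt_id P) hφ heff hnorm ht Ht hHt J Φ hΦ]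
  have h3 := (evalP_wrMat hK P φ hnorm ht Ht hHt J).1
  have h4 := WDivEquiv.det_ne_zero hK hφ (AlgHom.id k K) Ht hHt hJ
  rw [Ne, Local.evalP_eq_zero_iff P h3, ← K660.Ord.val_eq_one_iff P h4]
  constructor
  · intro h; exact le_antisymm h3 (not_lt.mp h)
  · intro h; rw [h]; exact lt_irrefl _

end K669.OrdersAt
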