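import Groth.Agent.S12599
import Groth.Agent.FunFld.K669.OrdersAt
import Groth.Agent.FunFld.K669.HasseExists
import Groth.Agent.FunFld.K668.Rank

/-! Normalization of a tuple at a place, existence of local parameters with Hasse families, existence of
the orders at a place. -/

set_option autoImplicit false

namespace K669.Normalize

open FunFld WithZero K668.Orders

variable {k K : Type*} [Field k] [Field K] [Algebra k K]

theorem linearIndependent_smul {ι : Type*} {φ : ι → K} (hφ : LinearIndependent k φ) {y : K}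
    (hy : y ≠ 0) : LinearIndependent k (y • φ) := by
  have h := hφ.map' (LinearMap.mulLeft k y) (LinearMap.ker_eq_bot.mpr (mul_right_injective₀ hy))
  exact h

/-- Normalization at a place. -/
theorem exists_normalization (hK : IsFunctionField k K) {n : ℕ} {φ : Fin (n + 1) → K}
    (hφ : LinearIndependent k φ) (P : Place k K) :
    ∃ y : K, y ≠ 0 ∧ (1 : K) ∈ Submodule.span k (Set.range (y • φ)) ∧
      (∀ i, P.1 ((y • φ) i) ≤ 1) ∧ LinearIndependent k (y • φ) := by
  have hg := MapDiv.good_of_linearIndependent hφ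
  obtain ⟨i, hi0, hi⟩ := MapDiv.exists_val_eq hK hg P
  refine ⟨(φ i)⁻¹, inv_ne_zero hi0, ?_, fun j => ?_, linearIndependent_smul hφ (inv_ne_zero hi0)⟩
  · exact Submodule.subset_span ⟨i, inv_mul_cancel₀ hi0⟩
  · have h1 := (MapDiv.mapDiv_le_iff' hK hg P _).mp le_rfl j
    rw [Pi.smul_apply, smul_eq_mul, map_mul, map_inv₀, hi]
    rw [inv_mul_le_iff₀ (by exact exp_pos), mul_one]
    exact h1

variable [IsAlgClosed k]

/-- A local parameter at `P` with its Hasse family. -/
theorem exists_parameter (hK : IsFunctionField k K) (P : Place k K) (H : K →ₐ[k] PowerSeries K) {s : K}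
    (hH : LocRes.IsHasseFamily s H) : ∃ (t : K) (Ht : K →ₐ[k] PowerSeries K),
      P.1 t = exp (-1) ∧ LocRes.IsHasseFamily t Ht := by
  obtain ⟨t, ht⟩ := K660.Ord.exists_unif P
  obtain ⟨φ, hφ, -⟩ := Expansion.exists_expansion hK P t ht
  obtain ⟨Ht, hHt⟩ := HasseExists.exists_isHasseFamily_of_D_ne_zero (DivDiff.finrank_kaehler hK) H hH
    (HasseExists.D_ne_zero_of_val φ hφ ht)
  exact ⟨t, Ht, ht, hHt⟩

/-- Orders at a place exist. -/
theorem exists_ordersAt (hK : IsFunctionField k K) (P : Place k K) {n : ℕ} {φ : Fin (n + 1) → K}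
    (hφ : LinearIndependent k φ)
    (heff : (1 : K) ∈ Submodule.span k (Set.range φ)) (hnorm : ∀ i, P.1 (φ i) ≤ 1)
    {t : K} (ht : P.1 t = exp (-1)) (Ht : K →ₐ[k] PowerSeries K) (hHt : LocRes.IsHasseFamily t Ht) :
    ∃ J' : Fin n → ℕ, IsOrders (IsLocalRing.ResidueField P.O) (hcolAt P Ht φ) J' := by
  have h1 := Groth.Agent.S12599.result k K hK φ hφ P hnorm t ht Ht hHt
  have h2 : Submodule.span (IsLocalRing.ResidueField P.O) (Set.range (hcolAt P Ht φ)) = ⊤ := by
    have h3 := K668.Orders.span_eq_top_of_rows (R := IsLocalRing.ResidueField P.O)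
      (fun (j : ℕ) (i : Fin (n + 1)) => evalP P (LocRes.hasseD Ht j (φ i))) h1
    rw [eq_top_iff, ← h3]
    apply Submodule.span_mono
    rintro _ ⟨j, rfl⟩
    exact ⟨j + 1, rfl⟩
  obtain ⟨J, hJ, -⟩ := K668.Orders.exists_isOrders (R := IsLocalRing.ResidueField P.O)
    (M := Fin (n + 1) → IsLocalRing.ResidueField P.O) (n := n) (by simp) (hcolAt P Ht φ) h2
    (OrdersAt.hcolAt_zero_ne hK P φ heff hnorm Ht)
  exact ⟨J, hJ⟩

end K669.Normalize
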