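import Groth.Agent.S12602
import Groth.Agent.FunFld.K669.Normalize

/-! Fixed places are Weierstrass points. -/

set_option autoImplicit false

namespace K669.FixedPos

open FunFld WithZero K668.Orders

/-- A counting principle for strictly increasing sequences. -/
theorem le_of_card_le {n : ℕ} {J : Fin n → ℕ} (hJ : StrictMono J) (l : Fin n) (x : ℕ) (S : Finset ℕ)
    (hS : ∀ s ∈ S, s ∈ Set.range J ∧ s ≤ x) (hcard : (l : ℕ) + 1 ≤ S.card) : J l ≤ x := by
  classical
  by_contra hlt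
  push Not at hlt
  have h1 : S ⊆ (Finset.univ.filter fun i : Fin n => i < l).image J := by
    intro s hs
    obtain ⟨⟨i, rfl⟩, hsx⟩ := hS s hs
    rw [Finset.mem_image]
    refine ⟨i, ?_, rfl⟩
    rw [Finset.mem_filter]
    refine ⟨Finset.mem_univ _, ?_⟩
    exact hJ.lt_iff_lt.mp (lt_of_le_of_lt hsx hlt)
  have h2 := Finset.card_le_card h1
  have h3 : ((Finset.univ.filter fun i : Fin n => i < l).image J).card ≤ (l : ℕ) := by
    refine Finset.card_image_le.trans ?_
    have : (Finset.univ.filter fun i : Fin n => i < l) = Finset.Iio l := by ext; simp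
    rw [this, Fin.card_Iio]
  omega

variable {k K : Type*} [Field k] [Field K] [Algebra k K]

theorem n_pos (hK : IsFunctionField k K) {n : ℕ} {φ : Fin (n + 1) → K} (h0 : φ 0 ≠ 0)
    (hbir : IntermediateField.adjoin k (Set.range fun i => φ i / φ 0) = ⊤) : 0 < n := by
  rcases Nat.eq_zero_or_pos n with rfl | h
  · exfalso
    obtain ⟨P⟩ := K660.Places.nonempty_place hK
    obtain ⟨t, ht⟩ := K660.Ord.exists_unif P
    have h1 : IntermediateField.adjoin k (Set.range fun i => φ i / φ 0) = ⊥ := by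
      rw [eq_bot_iff, IntermediateField.adjoin_le_iff]
      rintro _ ⟨i, rfl⟩
      have : i = 0 := Fin.ext (by omega)
      subst this
      show φ 0 / φ 0 ∈ (⊥ : IntermediateField k K)
      rw [div_self h0]
      exact one_mem _
    rw [h1] at hbir
    have h2 : t ∈ (⊥ : IntermediateField k K) := by rw [hbir]; exact IntermediateField.mem_top
    rw [IntermediateField.mem_bot] at h2
    obtain ⟨c, rfl⟩ := h2
    have h3 : P.ord (algebraMap k K c) = 0 := K660.Ord.ord_algebraMap P c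
    rw [K660.Ord.ord_eq_of_val P ht] at h3
    omega
  · exact h

/-- From the description of the `τ`-orders by the orders. -/
theorem orders_le {n : ℕ} (hn : 0 < n) {J J0 : Fin n → ℕ} (hJ : StrictMono J) (hJ0 : StrictMono J0)
    (hpos : ∀ l, 0 < J0 l) (m : Fin n)
    (h : ∀ j : ℕ, j ∈ Set.range J ↔ (j = 0 ∨ ∃ l, l ≠ m ∧ J0 l = j)) :
    (∀ l, J l ≤ J0 l) ∧ J ⟨0, hn⟩ = 0 := by
  classical
  constructor
  · intro l
    apply le_of_card_le hJ l (J0 l) (insert 0 ((Finset.univ.filter fun i : Fin n => i ≤ l ∧ i ≠ m).image J0))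
    · intro s hs
      rw [Finset.mem_insert, Finset.mem_image] at hs
      rcases hs with rfl | ⟨i, hi, rfl⟩
      · exact ⟨(h 0).mpr (Or.inl rfl), Nat.zero_le _⟩
      · rw [Finset.mem_filter] at hi
        exact ⟨(h _).mpr (Or.inr ⟨i, hi.2.2, rfl⟩), hJ0.monotone hi.2.1⟩
    · rw [Finset.card_insert_of_notMem, Finset.card_image_of_injective _ hJ0.injective]
      · have h1 : (Finset.univ.filter fun i : Fin n => i ≤ l ∧ i ≠ m) = (Finset.Iic l).erase m := by
          ext i
          simp [and_comm]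
        rw [h1]
        have h2 := Finset.pred_card_le_card_erase (s := Finset.Iic l) (a := m)
        rw [Fin.card_Iic] at h2
        omega
      · rw [Finset.mem_image]
        rintro ⟨i, -, hi⟩
        have := hpos i
        omega
  · obtain ⟨i, hi⟩ := (h 0).mpr (Or.inl rfl)
    have h2 : J ⟨0, hn⟩ ≤ J i := hJ.monotone (by rw [Fin.le_def]; simp)
    omega

variable [IsAlgClosed k]

theorem main (hK : FunFld.IsFunctionField k K) {n : ℕ} (φ : Fin (n + 1) → K) (hφ : LinearIndependent k φ)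
    (h0 : φ 0 ≠ 0) (hbir : IntermediateField.adjoin k (Set.range fun i => φ i / φ 0) = ⊤)
    (τ : K →ₐ[k] K) (hτ : τ ≠ AlgHom.id k K) (P : FunFld.Place k K) (hP : FunFld.IsFixedPt τ P)
    (s : K) (H : K →ₐ[k] PowerSeries K) (hH : LocRes.IsHasseFamily s H)
    (J : Fin n → ℕ) (hJ : FunFld.IsOrders K (FunFld.hcol τ H φ) J)
    (Φ : FunFld.Place k K → (K →ₐ[k] LaurentSeries k))
    (hΦ : ∀ P : FunFld.Place k K, LocRes.IsExpansionAt P.1 (Φ P)) :
    0 < FunFld.wDiv τ H Φ s φ J P := by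
  have hn := n_pos hK h0 hbir
  obtain ⟨t, Ht, ht, hHt⟩ := Normalize.exists_parameter hK P H hH
  obtain ⟨y, hy, heff, hnorm, hli⟩ := Normalize.exists_normalization hK hφ P
  obtain ⟨hJ1, hw⟩ := WDivEquiv.main hK φ hφ τ s H hH t Ht hHt J hJ 1 (by simp) y hy (y • φ)
    (fun i => by simp [Matrix.one_apply]) Φ hΦ
  obtain ⟨J', hJ'⟩ := Normalize.exists_ordersAt hK P hli heff hnorm ht Ht hHt
  obtain ⟨J0, hJ0, -⟩ := Groth.Agent.S12600.result k K hK (y • φ) hli (AlgHom.id k K) t Ht hHt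
  have hle := (OrdersAt.main hK P (y • φ) hli heff hnorm t ht Ht hHt J0 hJ0 J' hJ' Φ hΦ).1
  have h0' : (y • φ) 0 ≠ 0 := mul_ne_zero hy h0
  have hbir' : IntermediateField.adjoin k (Set.range fun i => (y • φ) i / (y • φ) 0) = ⊤ := by
    rw [← hbir]
    congr 2
    funext i
    exact mul_div_mul_left _ _ hy
  obtain ⟨m, hm⟩ := Groth.Agent.S12602.result k K hK hn (y • φ) hli h0' hbir' τ hτ t Ht hHt J0 hJ0
  have hrange : ∀ j : ℕ, j ∈ Set.range J ↔ (j = 0 ∨ ∃ l, l ≠ m ∧ J0 l = j) := fun j => by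
    rw [hJ1.2, hm]
  obtain ⟨h1, h2⟩ := orders_le hn hJ1.1 hJ0.1 (fun l => WDivFixed.pos_of_isOrders_id hHt hJ0 l) m hrange
  have h3 := (WDivFixed.main hK τ P hP (y • φ) hli heff hnorm t ht Ht hHt J hJ1 J' hJ' Φ hΦ).1
  rw [← hw]
  refine lt_of_lt_of_le ?_ h3
  apply Finset.sum_pos'
  · intro l _
    have := (h1 l).trans (hle l)
    omega
  · refine ⟨⟨0, hn⟩, Finset.mem_univ _, ?_⟩
    have h4 := Adapted.orders_pos P hHt hJ' ⟨0, hn⟩
    rw [h2]
    omega

end K669.FixedPos
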