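import Groth.Agent.FunFld.K660.CrvFin
import Groth.Agent.FunFld.K663.AlgC
import Groth.Agent.FunFld.K665.Nonsing
import Groth.Agent.FunFld.K661.GeomFF
import Groth.Agent.FunFld.K661.OverFF
import Groth.Agent.FunFld.K669.FinDiff
import Mathlib.RingTheory.DedekindDomain.Different

/-! The different and conductors in a function field: for `y` integral over `k[x]` generating `K`, with
minimal polynomial `g`, `ord g'(y) - ord dx` is nonnegative at a place `Q` integral at `x`, and vanishes
iff the local ring of `(x, y)` at `Q` is the valuation ring. -/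

set_option autoImplicit false

namespace K669.AdjCore

open FunFld WithZero K660.Places IsDedekindDomain Polynomial K665.LocRing

section Conductor

variable {k K : Type*} [Field k] [Field K] [Algebra k K]

attribute [local instance] instDed instFrac

open scoped IntermediateField.algebraAdjoinAdjoin in
theorem conductor_mul (x : K) [hx : Fact (IsGen k K x)]
    [Algebra.IsSeparable (IntermediateField.adjoin k {x}) K]
    (y : integralClosure (Algebra.adjoin k {x}) K)
    (hy : Algebra.adjoin (IntermediateField.adjoin k {x}) {(y : K)} = ⊤) :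
    conductor (Algebra.adjoin k {x}) y *
        differentIdeal (Algebra.adjoin k {x}) (integralClosure (Algebra.adjoin k {x}) K) =
      Ideal.span {aeval y (derivative (minpoly (Algebra.adjoin k {x}) y))} := by
  have := hx.1.fin
  have : IsPrincipalIdealRing (Algebra.adjoin k {x}) := K660.Ded.isPrincipalIdealRing_adjoin hx.1.tr
  exact conductor_mul_differentIdeal (Algebra.adjoin k {x}) (IntermediateField.adjoin k {x}) K y hy

/-- Elements of the conductors of two generators are proportional to the derivatives. -/
theorem conductor_swap (x : K) [hx : Fact (IsGen k K x)]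
    [Algebra.IsSeparable (IntermediateField.adjoin k {x}) K]
    (y s : integralClosure (Algebra.adjoin k {x}) K)
    (hy : Algebra.adjoin (IntermediateField.adjoin k {x}) {(y : K)} = ⊤)
    (hs : Algebra.adjoin (IntermediateField.adjoin k {x}) {(s : K)} = ⊤)
    {w : integralClosure (Algebra.adjoin k {x}) K} (hw : w ∈ conductor (Algebra.adjoin k {x}) s) :
    ∃ c ∈ conductor (Algebra.adjoin k {x}) y,
      w * aeval y (derivative (minpoly (Algebra.adjoin k {x}) y)) =
        c * aeval s (derivative (minpoly (Algebra.adjoin k {x}) s)) := by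
  have h1 : w * aeval y (derivative (minpoly (Algebra.adjoin k {x}) y)) ∈
      conductor (Algebra.adjoin k {x}) y *
        Ideal.span {aeval s (derivative (minpoly (Algebra.adjoin k {x}) s))} := by
    rw [← conductor_mul x s hs, mul_left_comm, conductor_mul x y hy]
    exact Ideal.mul_mem_mul hw (Ideal.mem_span_singleton_self _)
  rw [Ideal.mem_mul_span_singleton] at h1
  obtain ⟨c, hc, h2⟩ := h1
  exact ⟨c, hc, h2.symm⟩

/-- Polynomials in `y` over `k[x]`. -/
theorem mem_adjoin_iff (x : K) (y p : integralClosure (Algebra.adjoin k {x}) K) :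
    p ∈ Algebra.adjoin (Algebra.adjoin k {x}) {y} ↔ (p : K) ∈ Algebra.adjoin k {x, (y : K)} := by
  have hle : Algebra.adjoin k {x} ≤ Algebra.adjoin k {x, (y : K)} :=
    Algebra.adjoin_mono (by simp)
  constructor
  · intro hp
    induction hp using Algebra.adjoin_induction with
    | mem z hz =>
      rw [Set.mem_singleton_iff] at hz
      rw [hz]
      exact Algebra.subset_adjoin (by simp)
    | algebraMap r => exact hle r.2
    | add a b _ _ ha hb => exact add_mem ha hb
    | mul a b _ _ ha hb => exact mul_mem ha hb
  · intro hp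
    have key : ∀ c ∈ Algebra.adjoin k {x, (y : K)},
        ∃ q ∈ Algebra.adjoin (Algebra.adjoin k {x}) {y}, (q : K) = c := by
      intro c hc
      induction hc using Algebra.adjoin_induction with
      | mem z hz =>
        rw [Set.mem_insert_iff, Set.mem_singleton_iff] at hz
        rcases hz with rfl | rfl
        · exact ⟨algebraMap (Algebra.adjoin k {z}) _ ⟨z, Algebra.self_mem_adjoin_singleton k z⟩,
            Subalgebra.algebraMap_mem _ _, rfl⟩
        · exact ⟨y, Algebra.self_mem_adjoin_singleton _ _, rfl⟩
      | algebraMap r =>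
        exact ⟨algebraMap (Algebra.adjoin k {x}) _ (algebraMap k _ r),
          Subalgebra.algebraMap_mem _ _, rfl⟩
      | add a b _ _ ha hb =>
        obtain ⟨qa, hqa, rfl⟩ := ha
        obtain ⟨qb, hqb, rfl⟩ := hb
        exact ⟨qa + qb, add_mem hqa hqb, rfl⟩
      | mul a b _ _ ha hb =>
        obtain ⟨qa, hqa, rfl⟩ := ha
        obtain ⟨qb, hqb, rfl⟩ := hb
        exact ⟨qa * qb, mul_mem hqa hqb, rfl⟩
    obtain ⟨q, hq, hqp⟩ := key _ hp
    rwa [← Subtype.ext hqp]

theorem mem_conductor_iff' (x : K) (y w : integralClosure (Algebra.adjoin k {x}) K) :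
    w ∈ conductor (Algebra.adjoin k {x}) y ↔
      ∀ b : integralClosure (Algebra.adjoin k {x}) K,
        (w : K) * (b : K) ∈ Algebra.adjoin k {x, (y : K)} := by
  rw [mem_conductor_iff]
  refine forall_congr' fun b => ?_
  rw [mem_adjoin_iff]
  rfl

variable (Q : Place k K)

theorem val_le_one_of_mem {x : K} (hQ : Q.1 x ≤ 1) (b : integralClosure (Algebra.adjoin k {x}) K) :
    Q.1 (b : K) ≤ 1 := val_le_one_of_isIntegral Q (val_adjoin_le Q hQ) b.2

/-- An integral element at `Q` is a fraction of integral elements with denominator a unit. -/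
theorem exists_frac {x : K} [hx : Fact (IsGen k K x)] (hQ : Q.1 x ≤ 1) {z : K} (hz : Q.1 z ≤ 1) :
    ∃ b c : integralClosure (Algebra.adjoin k {x}) K, Q.1 (c : K) = 1 ∧ z * (c : K) = b := by
  obtain ⟨p, rfl⟩ := exists_ofPrime_eq (t := x) Q hQ
  obtain ⟨n, d, h⟩ := p.exists_primeCompl_mul_eq_of_integer z hz
  refine ⟨n, d, ?_, h⟩
  have h1 : (d : integralClosure (Algebra.adjoin k {x}) K) ∉ p.asIdeal := d.2
  have h2 : p.valuation K (algebraMap _ K (d : integralClosure (Algebra.adjoin k {x}) K)) ≤ 1 :=
    p.valuation_le_one _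
  refine le_antisymm h2 (not_lt.1 fun h3 => h1 ?_)
  exact (p.valuation_lt_one_iff_mem _).1 h3

/-- The conductor is not contained in the prime of `Q` iff the local ring is the valuation ring. -/
theorem exists_mem_conductor_iff {x : K} [hx : Fact (IsGen k K x)] (hQ : Q.1 x ≤ 1)
    (y : integralClosure (Algebra.adjoin k {x}) K) :
    (∃ w ∈ conductor (Algebra.adjoin k {x}) y, Q.1 (w : K) = 1) ↔
      ∀ z : K, Q.1 z ≤ 1 → z ∈ loc (Algebra.adjoin k {x, (y : K)}) Q := by
  constructor
  · rintro ⟨w, hw, hw1⟩ z hz
    rw [mem_conductor_iff'] at hw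
    obtain ⟨b, c, hc, h⟩ := exists_frac Q hQ hz
    refine ⟨(w : K) * (b : K), hw b, (w : K) * (c : K), hw c, ?_, ?_⟩
    · rw [map_mul, hw1, hc, one_mul]
    · rw [← h]; ring
  · intro h
    have hfin := K660.Ded.finite_integralClosure hx.1.tr hx.1.fin
    obtain ⟨S, hS⟩ := hfin.fg_top
    have hS1 : ∀ b : integralClosure (Algebra.adjoin k {x}) K,
        ∃ w ∈ Algebra.adjoin k {x, (y : K)}, Q.1 w = 1 ∧
          w * (b : K) ∈ Algebra.adjoin k {x, (y : K)} := by
      intro b
      obtain ⟨u, hu, w, hw, hw1, e⟩ := h (b : K) (val_le_one_of_mem Q hQ b)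
      exact ⟨w, hw, hw1, by rw [mul_comm, e]; exact hu⟩
    choose f hf1 hf2 hf3 using hS1
    classical
    have hprod : ∏ b ∈ S, f b ∈ Algebra.adjoin k {x, (y : K)} := Subalgebra.prod_mem _ fun b _ => hf1 b
    have hint : IsIntegral (Algebra.adjoin k {x}) (∏ b ∈ S, f b) := by
      have hle : (Algebra.adjoin k {x, (y : K)} : Set K) ⊆
          (integralClosure (Algebra.adjoin k {x}) K : Set K) := by
        intro c hc
        have hc' : c ∈ Algebra.adjoin k {x, (y : K)} := hc
        induction hc' using Algebra.adjoin_induction with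
        | mem z hz =>
          rw [Set.mem_insert_iff, Set.mem_singleton_iff] at hz
          rcases hz with rfl | rfl
          · exact isIntegral_algebraMap (x := (⟨z, Algebra.self_mem_adjoin_singleton k z⟩ :
              Algebra.adjoin k {z}))
          · exact y.2
        | algebraMap r => exact isIntegral_algebraMap (x := algebraMap k (Algebra.adjoin k {x}) r)
        | add a b ha0 hb0 ha hb => exact add_mem (ha ha0) (hb hb0)
        | mul a b ha0 hb0 ha hb => exact mul_mem (ha ha0) (hb hb0)
      exact hle hprod
    refine ⟨⟨∏ b ∈ S, f b, hint⟩, ?_, ?_⟩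
    · rw [mem_conductor_iff']
      intro b
      have hb : b ∈ Submodule.span (Algebra.adjoin k {x})
          (S : Set (integralClosure (Algebra.adjoin k {x}) K)) := by rw [hS]; trivial
      show (∏ b ∈ S, f b) * (b : K) ∈ _
      induction hb using Submodule.span_induction with
      | mem s hs =>
        rw [← Finset.prod_erase_mul S f (by exact_mod_cast hs : s ∈ S), mul_assoc]
        exact mul_mem (Subalgebra.prod_mem _ fun b _ => hf1 b) (hf3 s)
      | zero => simp
      | add u v _ _ h1 h2 =>
        rw [Subalgebra.coe_add, mul_add]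
        exact add_mem h1 h2
      | smul a u _ h1 =>
        have : ((a • u : integralClosure (Algebra.adjoin k {x}) K) : K) = (a : K) * (u : K) := rfl
        rw [this, mul_left_comm]
        exact mul_mem (Algebra.adjoin_mono (by simp) a.2) h1
    · show Q.1 (∏ b ∈ S, f b) = 1
      rw [map_prod]
      exact Finset.prod_eq_one fun b _ => hf2 b

end Conductor

end K669.AdjCore
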