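import Groth.Agent.FunFld.K669.AdjCore

/-! `ord_Q dx = ord_Q g'(s)` for a suitable local parameter `s`. -/

set_option autoImplicit false

namespace K669.AdjDer

open FunFld WithZero K660.Places IsDedekindDomain Polynomial K665.LocRing K669.AdjCore

section Der

variable {k K : Type*} [Field k] [Field K] [Algebra k K]

theorem exists_poly {x s c : K} (hc : c ∈ Algebra.adjoin k {x, s}) :
    ∃ V : (Algebra.adjoin k {x})[X], aeval s V = c := by
  induction hc using Algebra.adjoin_induction with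
  | mem z hz =>
    rw [Set.mem_insert_iff, Set.mem_singleton_iff] at hz
    rcases hz with rfl | rfl
    · exact ⟨C ⟨z, Algebra.self_mem_adjoin_singleton k z⟩, by rw [aeval_C]; rfl⟩
    · exact ⟨X, aeval_X _⟩
  | algebraMap r => exact ⟨C (algebraMap k _ r), by rw [aeval_C]; rfl⟩
  | add a b _ _ ha hb =>
    obtain ⟨A, rfl⟩ := ha
    obtain ⟨B, rfl⟩ := hb
    exact ⟨A + B, map_add _ _ _⟩
  | mul a b _ _ ha hb =>
    obtain ⟨A, rfl⟩ := ha
    obtain ⟨B, rfl⟩ := hb
    exact ⟨A * B, map_mul _ _ _⟩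

/-- The derivative of the coefficients of a polynomial, evaluated at `s`. -/
noncomputable def eps {x : K} (δ : Derivation k K K) (s : K) (p : (Algebra.adjoin k {x})[X]) : K :=
  δ (aeval s p) - aeval s (derivative p) * δ s

theorem eps_add {x : K} (δ : Derivation k K K) (s : K) (p q : (Algebra.adjoin k {x})[X]) :
    eps δ s (p + q) = eps δ s p + eps δ s q := by
  unfold eps
  simp only [map_add]
  ring

theorem eps_mul {x : K} (δ : Derivation k K K) (s : K) (p q : (Algebra.adjoin k {x})[X]) :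
    eps δ s (p * q) = aeval s p * eps δ s q + aeval s q * eps δ s p := by
  unfold eps
  rw [derivative_mul, map_mul, Derivation.leibniz, map_add, map_mul, map_mul, smul_eq_mul, smul_eq_mul]
  ring

theorem eps_C {x : K} (δ : Derivation k K K) (s : K) (a : Algebra.adjoin k {x}) :
    eps δ s (C a) = δ (a : K) := by
  unfold eps
  rw [derivative_C, map_zero, zero_mul, sub_zero, aeval_C]
  rfl

theorem eps_X {x : K} (δ : Derivation k K K) (s : K) :
    eps δ s (X : (Algebra.adjoin k {x})[X]) = 0 := by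
  unfold eps
  rw [derivative_X, map_one, one_mul, aeval_X, sub_self]

theorem val_aeval_le {x s : K} {Q : Place k K} (hQ : Q.1 x ≤ 1) (hs : Q.1 s ≤ 1)
    (p : (Algebra.adjoin k {x})[X]) : Q.1 (aeval s p) ≤ 1 := by
  induction p using Polynomial.induction_on with
  | C a => rw [aeval_C]; exact val_adjoin_le Q hQ a
  | add p q hp hq => rw [map_add]; exact (Q.1.map_add _ _).trans (max_le hp hq)
  | monomial n a h =>
    rw [pow_succ, ← mul_assoc, map_mul, aeval_X, map_mul]
    exact mul_le_one' h hs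

theorem val_eps_le {x s : K} {Q : Place k K} (hQ : Q.1 x ≤ 1) (hs : Q.1 s ≤ 1)
    {δ : Derivation k K K} (hδ : δ x = 1) (p : (Algebra.adjoin k {x})[X]) :
    Q.1 (eps δ s p) ≤ 1 := by
  have hC : ∀ a : Algebra.adjoin k {x}, Q.1 (eps δ s (C a)) ≤ 1 := fun a => by
    rw [eps_C]
    exact val_adjoin_le Q hQ ⟨δ (a : K), FinDiff.der_adjoin hδ _ a.2⟩
  induction p using Polynomial.induction_on with
  | C a => exact hC a
  | add p q hp hq => rw [eps_add]; exact (Q.1.map_add _ _).trans (max_le hp hq)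
  | monomial n a h =>
    rw [pow_succ, ← mul_assoc, eps_mul, eps_X, mul_zero, zero_add, aeval_X, map_mul]
    exact mul_le_one' hs h

/-- For a local parameter `s` such that `k[x, s]` localizes to the valuation ring of `Q`,
`v_Q(dx) = v_Q(g'(s))`. -/
theorem vDiff_eq (hΩ : Module.finrank K (KaehlerDifferential k K) = 1)
    {F : Type*} [Field F] [Algebra k F] {x : K} (hD : KaehlerDifferential.D k K x ≠ 0)
    (htr : Transcendental k x)
    {Q : Place k K} (hQ : Q.1 x ≤ 1) (ψ : K →ₐ[k] LaurentSeries F)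
    (hψ : LocRes.IsExpansionAt Q.1 ψ) {a : k} (ha : Q.1 (x - algebraMap k K a) < 1)
    {s : K} (hint : IsIntegral (Algebra.adjoin k {x}) s) (hs : Q.1 s = exp (-1 : ℤ))
    (hns : ∀ z : K, Q.1 z ≤ 1 → z ∈ loc (Algebra.adjoin k {x, s}) Q) :
    LocRes.vDiff ψ 1 x = Q.1 (aeval s (derivative (minpoly (Algebra.adjoin k {x}) s))) := by
  have hprin : IsPrincipalIdealRing (Algebra.adjoin k {x}) :=
    K660.Ded.isPrincipalIdealRing_adjoin htr
  obtain ⟨δ, hδ, hδ'⟩ := FinDiff.exists_der hΩ hD
  have hs1 : Q.1 s < 1 := by rw [hs, ← exp_zero, exp_lt_exp]; omega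
  have hs0 : s ≠ 0 := K660.Ord.ne_zero_of_val Q hs
  set g := minpoly (Algebra.adjoin k {x}) s with hg
  -- `(x - a) w = s u`
  obtain ⟨u, hu, w, hw, hw1, hwu⟩ := hns ((x - algebraMap k K a) / s) (by
    rw [map_div₀]
    have h1 : Q.1 (x - algebraMap k K a) ≤ exp (-1 : ℤ) := K660.Ord.lt_one_iff_le.mp ha
    rw [hs]
    exact div_le_one_of_le₀ h1 zero_le)
  have hwu' : (x - algebraMap k K a) * w = s * u := by
    rw [← hwu]
    field_simp
  obtain ⟨V, hV⟩ := exists_poly hw
  obtain ⟨U, hU⟩ := exists_poly hu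
  let xa : Algebra.adjoin k {x} := ⟨x, Algebra.self_mem_adjoin_singleton k x⟩ - algebraMap k _ a
  have hxa : (xa : K) = x - algebraMap k K a := rfl
  have hδxa : δ (xa : K) = 1 := by
    rw [hxa, map_sub, hδ, Derivation.map_algebraMap, sub_zero]
  set H : (Algebra.adjoin k {x})[X] := C xa * V - X * U with hH
  have hH0 : aeval s H = 0 := by
    rw [hH, map_sub, map_mul, map_mul, aeval_C, aeval_X, hV, hU]
    show (xa : K) * w - s * u = 0
    rw [hxa, hwu', sub_self]
  obtain ⟨h, hh⟩ := minpoly.isIntegrallyClosed_dvd hint hH0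
  have hg0 : aeval s g = 0 := minpoly.aeval _ _
  have e1 : eps δ s H = aeval s h * eps δ s g := by
    rw [hh, eps_mul, hg0, zero_mul, zero_add]
  have e2 : eps δ s g = - (aeval s (derivative g) * δ s) := by
    unfold eps
    rw [hg0, map_zero, zero_sub]
  have e3 : eps δ s H = w + ((x - algebraMap k K a) * eps δ s V - s * eps δ s U) := by
    have h1 : eps δ s H = eps δ s (C xa * V) - eps δ s (X * U) := by
      rw [hH, sub_eq_add_neg, eps_add]
      unfold eps
      simp only [map_neg]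
      ring
    rw [h1, eps_mul, eps_mul, eps_C, eps_X, aeval_C, aeval_X, hV, hδxa]
    show (xa : K) * _ + _ - _ = _
    rw [hxa]
    ring
  have hval : Q.1 (eps δ s H) = 1 := by
    rw [e3]
    have h1 : Q.1 ((x - algebraMap k K a) * eps δ s V - s * eps δ s U) < 1 := by
      refine Q.1.map_sub_lt ?_ ?_
      · rw [map_mul]
        exact mul_lt_one_of_lt_of_le ha (val_eps_le hQ hs1.le hδ V)
      · rw [map_mul]
        exact mul_lt_one_of_lt_of_le hs1 (val_eps_le hQ hs1.le hδ U)
    rw [Valuation.map_add_eq_of_lt_left _ (by rw [hw1]; exact h1), hw1]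
  have hgε : Q.1 (eps δ s g) = 1 := by
    have h1 : Q.1 (aeval s h) ≤ 1 := val_aeval_le hQ hs1.le h
    have h2 : Q.1 (eps δ s g) ≤ 1 := val_eps_le hQ hs1.le hδ g
    rw [e1, map_mul] at hval
    refine le_antisymm h2 ?_
    calc (1 : WithZero (Multiplicative ℤ)) = Q.1 (aeval s h) * Q.1 (eps δ s g) := hval.symm
      _ ≤ 1 * Q.1 (eps δ s g) := mul_le_mul_left h1 _
      _ = _ := one_mul _
  rw [e2, Valuation.map_neg, map_mul] at hgε
  have h3 : LocRes.vDiff ψ 1 s = 1 := DiffCalc.vDiff_one_of_val ψ hψ hs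
  have h4 : LocRes.vDiff ψ 1 s = LocRes.vDiff ψ (δ s * 1) x :=
    DiffCalc.vDiff_congr ψ (by rw [one_smul, mul_one, hδ'])
  rw [h4, DiffCalc.vDiff_mul ψ hψ] at h3
  have h5 : Q.1 (δ s) ≠ 0 := by
    intro h5
    rw [h5, zero_mul] at h3
    exact zero_ne_one h3
  apply mul_left_cancel₀ h5
  rw [h3, mul_comm, hgε]

end Der

end K669.AdjDer
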