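import Groth.Agent.FunFld.K669.AdjDer
import Groth.Agent.FunFld.K669.DivDiff
import Groth.Agent.FunFld.K665.MapDiv

/-! For `y` integral over `k[x]` generating `K`, with minimal polynomial `g`: `ord g'(y) - ord dx` is
nonnegative at a place `Q` integral at `x`, and vanishes iff the local ring of `(x, y)` at `Q` is the
valuation ring. -/

set_option autoImplicit false

namespace K669.AdjFin

open FunFld WithZero K660.Places IsDedekindDomain Polynomial K665.LocRing K669.AdjCore

variable {k K : Type*} [Field k] [IsAlgClosed k] [Field K] [Algebra k K]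

omit [IsAlgClosed k] in
/-- A local parameter at `Q`, integral over `k[x]`, which is `1` at the other zeros of `x - a`. -/
theorem exists_s (hK : IsFunctionField k K) {x : K} (hx : IsGen k K x) (Q : Place k K)
    (a : k) :
    ∃ s : K, IsIntegral (Algebra.adjoin k {x}) s ∧ (Q.1 (x - algebraMap k K a) < 1 →
      Q.1 s = exp (-1 : ℤ)) ∧ ∀ Q' : Place k K, Q'.1 (x - algebraMap k K a) < 1 → Q' ≠ Q →
        Q'.1 s = 1 := by
  classical
  set π := x - algebraMap k K a with hπ
  have hπ0 : π ≠ 0 := by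
    intro h
    apply hx.tr
    rw [sub_eq_zero.1 h]
    exact isAlgebraic_algebraMap a
  obtain ⟨t, ht⟩ := K660.Ord.exists_val_eq Q (-1)
  set tgt : Place k K → K := fun P => if P = Q then t else 1 with htgt
  set α : Place k K → K := fun P => if P.1 π < 1 then tgt P / π ^ 2 else 0 with hα
  have hfin : {P : Place k K | ¬ P.1 (α P) ≤ 1}.Finite := by
    refine (K665.MapDiv.finite_zeros hK hπ0).subset ?_
    intro P hP
    by_contra hcon
    apply hP
    have h1 : ¬ P.1 π < 1 := hcon
    simp only [hα, if_neg h1, map_zero, zero_le]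
  obtain ⟨f, hf⟩ := K660.CrvFin.exists_approx_places hx α hfin
  have key : ∀ P : Place k K, P.1 π < 1 → P.1 (π ^ 2 * f - tgt P) ≤ exp (-2 : ℤ) := by
    intro P hP
    have hPx : P.1 x ≤ 1 := by
      have : x = π + algebraMap k K a := by rw [hπ]; ring
      rw [this]
      exact (P.1.map_add _ _).trans (max_le hP.le (P.2.1 a))
    have h1 := hf P hPx
    simp only [hα, if_pos hP] at h1
    have h2 : π ^ 2 * f - tgt P = - (π ^ 2 * (tgt P / π ^ 2 - f)) := by
      field_simp
      ring
    rw [h2, Valuation.map_neg, map_mul, map_pow]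
    have h3 : P.1 π ≤ exp (-1 : ℤ) := K660.Ord.lt_one_iff_le.mp hP
    calc P.1 π ^ 2 * P.1 (tgt P / π ^ 2 - f) ≤ (exp (-1 : ℤ)) ^ 2 * 1 :=
          mul_le_mul' (pow_le_pow_left' h3 2) h1
      _ = exp (-2 : ℤ) := by rw [mul_one, ← exp_nsmul]; norm_num
  have hint : ∀ P : Place k K, P.1 x ≤ 1 → P.1 (π ^ 2 * f) ≤ 1 := by
    intro P hP
    by_cases h : P.1 π < 1
    · have h1 := key P h
      have h2 : P.1 (tgt P) ≤ 1 := by
        simp only [htgt]
        split_ifs with hPQ
        · rw [hPQ, ht, ← exp_zero, exp_le_exp]; omega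
        · rw [map_one]
      have h3 : π ^ 2 * f = (π ^ 2 * f - tgt P) + tgt P := by ring
      rw [h3]
      refine (P.1.map_add _ _).trans (max_le (h1.trans ?_) h2)
      rw [← exp_zero, exp_le_exp]; omega
    · have h1 := hf P hP
      simp only [hα, if_neg h] at h1
      rw [zero_sub, Valuation.map_neg] at h1
      have h2 : P.1 π ≤ 1 := (P.1.map_sub _ _).trans (max_le hP (P.2.1 a))
      rw [map_mul, map_pow]
      exact mul_le_one' (pow_le_one' h2 2) h1
  refine ⟨π ^ 2 * f, ?_, ?_, ?_⟩
  · apply K665.FiniteIC.isIntegral_of_forall_le hK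
    intro P hP
    exact hint P (hP x (Algebra.self_mem_adjoin_singleton k x))
  · intro hQ
    have h1 := key Q hQ
    simp only [htgt, if_true] at h1
    have h2 : π ^ 2 * f = t + (π ^ 2 * f - t) := by ring
    rw [h2, Valuation.map_add_eq_of_lt_left _ ?_, ht]
    rw [ht]
    refine lt_of_le_of_lt h1 ?_
    rw [exp_lt_exp]; omega
  · intro P hP hPQ
    have h1 := key P hP
    simp only [htgt, if_neg hPQ] at h1
    have h2 : π ^ 2 * f = 1 + (π ^ 2 * f - 1) := by ring
    rw [h2, Valuation.map_add_eq_of_lt_left _ ?_, map_one]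
    rw [map_one]
    refine lt_of_le_of_lt h1 ?_
    rw [← exp_zero, exp_lt_exp]; omega

/-- Such a local parameter generates `K` over `k(x)`. -/
theorem adjoin_eq_top (hK : IsFunctionField k K) {x : K} (hx : IsGen k K x) {Q : Place k K}
    {a : k} (ha : Q.1 (x - algebraMap k K a) < 1) {s : K} (hs : Q.1 s = exp (-1 : ℤ))
    (hs' : ∀ Q' : Place k K, Q'.1 (x - algebraMap k K a) < 1 → Q' ≠ Q → Q'.1 s = 1) :
    IntermediateField.adjoin k {x, s} = ⊤ := by
  classical
  set K₁ := IntermediateField.adjoin k {x, s} with hK₁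
  have hxm : x ∈ K₁ := IntermediateField.subset_adjoin _ _ (by simp)
  have hsm : s ∈ K₁ := IntermediateField.subset_adjoin _ _ (by simp)
  have hgen : IsGen k K₁ (⟨x, hxm⟩ : K₁) := K661.GeomFF.isGen_of_algebraMap (K' := K) hx
  have hle : IntermediateField.adjoin k {x} ≤ K₁ := by
    rw [IntermediateField.adjoin_simple_le_iff]; exact hxm
  have hfin : FiniteDimensional K₁ K := by
    have := hx.fin
    let _ : Algebra (IntermediateField.adjoin k {x}) K₁ :=
      (IntermediateField.inclusion hle).toRingHom.toAlgebra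
    have : IsScalarTower (IntermediateField.adjoin k {x}) K₁ K :=
      IsScalarTower.of_algebraMap_eq fun x => rfl
    exact Module.Finite.of_restrictScalars_finite (IntermediateField.adjoin k {x}) K₁ K
  obtain ⟨P, hP⟩ := K661.Place.exists_below (k := k) (K := K₁) (K' := K) Q
  have hP1 : P.1 (⟨s, hsm⟩ : K₁) < 1 := by
    rw [← K661.Place.val_algebraMap_lt_one_iff hP]
    show Q.1 s < 1
    rw [hs, ← exp_zero, exp_lt_exp]; omega
  have hP2 : P.1 ((⟨x, hxm⟩ : K₁) - algebraMap k K₁ a) < 1 := by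
    rw [← K661.Place.val_algebraMap_lt_one_iff hP]
    exact ha
  have hQs : ∀ Q' : Place k K, Q' ∈ ({Q} : Finset (Place k K)) ↔ IsOver Q' P := by
    intro Q'
    rw [Finset.mem_singleton]
    constructor
    · rintro rfl; exact hP
    · intro h
      by_contra hne
      have h1 : Q'.1 (x - algebraMap k K a) < 1 :=
        (K661.Place.val_algebraMap_lt_one_iff h ((⟨x, hxm⟩ : K₁) - algebraMap k K₁ a)).2 hP2
      have h2 : Q'.1 s < 1 := (K661.Place.val_algebraMap_lt_one_iff h (⟨s, hsm⟩ : K₁)).2 hP1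
      rw [hs' Q' h1 hne] at h2
      exact lt_irrefl _ h2
  have hsum := K661.OverFF.sum_ramIdx_mul_deg (K := K₁) (K' := K) ⟨_, hgen⟩ P {Q} hQs
  rw [Finset.sum_singleton, K663.AlgC.place_deg_one hK Q, mul_one] at hsum
  have hram : ramIdx Q P = 1 := by
    have h1 := K661.Place.ord_algebraMap hP (⟨s, hsm⟩ : K₁)
    have h2 : Q.ord (algebraMap K₁ K (⟨s, hsm⟩ : K₁)) = 1 := by
      show Q.ord s = 1
      rw [Place.ord, hs, log_exp, neg_neg]
    rw [h2] at h1
    have h3 : (ramIdx Q P : ℤ) ∣ 1 := ⟨_, h1⟩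
    have h4 := Int.eq_one_of_dvd_one (by positivity) h3
    exact_mod_cast h4
  rw [hram] at hsum
  have h1 : Module.finrank K₁ K = 1 := Nat.eq_one_of_mul_eq_one_right hsum.symm
  exact IntermediateField.finrank_eq_one_iff_eq_top.1 h1

theorem lt_one_of_forall_le (hK : IsFunctionField k K) {A : Subalgebra k K} {Q Q' : Place k K}
    (h : ∀ r ∈ loc A Q, Q'.1 r ≤ 1) {z : K} (hz : z ∈ loc A Q) (hz1 : Q.1 z < 1) : Q'.1 z < 1 := by
  obtain ⟨c, hc⟩ := K663.AlgC.exists_const hK Q' (h z hz)
  rcases eq_or_ne c 0 with rfl | hc0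
  · rwa [map_zero, sub_zero] at hc
  · exfalso
    have h1 : Q.1 (z - algebraMap k K c) = 1 := by
      have h2 := K661.Place.val_const Q hc0
      rw [Valuation.map_sub_swap, Valuation.map_sub_eq_of_lt_left _ (by rw [h2]; exact hz1), h2]
    have h3 := inv_mem_loc (sub_mem hz ((loc A Q).algebraMap_mem c)) h1
    have h4 := h _ h3
    rw [map_inv₀] at h4
    have h5 : z - algebraMap k K c ≠ 0 := ne_zero_of_val_one Q h1
    have h6 : Q'.1 (z - algebraMap k K c) ≠ 0 := (Valuation.ne_zero_iff _).2 h5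
    have h7 : (1 : WithZero (Multiplicative ℤ)) < (Q'.1 (z - algebraMap k K c))⁻¹ :=
      (one_lt_inv₀ (zero_lt_iff.2 h6)).2 hc
    exact not_lt.2 h4 h7

/-- The local ring of `(x, s)` at `Q` is the valuation ring. -/
theorem mem_loc_s (hK : IsFunctionField k K) {x : K} (hx : IsGen k K x) {Q : Place k K}
    {a : k} (ha : Q.1 (x - algebraMap k K a) < 1) {s : K} (hs : Q.1 s = exp (-1 : ℤ))
    (hs' : ∀ Q' : Place k K, Q'.1 (x - algebraMap k K a) < 1 → Q' ≠ Q → Q'.1 s = 1)
    (z : K) (hz : Q.1 z ≤ 1) : z ∈ loc (Algebra.adjoin k {x, s}) Q := by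
  have htop := adjoin_eq_top hK hx ha hs hs'
  have hxm : x ∈ Algebra.adjoin k {x, s} := Algebra.subset_adjoin (by simp)
  have hsm : s ∈ Algebra.adjoin k {x, s} := Algebra.subset_adjoin (by simp)
  have hs1 : Q.1 s < 1 := by rw [hs, ← exp_zero, exp_lt_exp]; omega
  refine K665.Nonsing.mem_of_unique_of_uniformizer hK _ ?_ ?_ Q ?_ s (le_loc _ _ hsm) hs z hz
  · exact Subalgebra.fg_def.mpr ⟨{x, s}, (Set.finite_singleton s).insert x, rfl⟩
  · intro z
    have : z ∈ IntermediateField.adjoin k {x, s} := by rw [htop]; trivial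
    obtain ⟨a, ha, b, hb, h⟩ := IntermediateField.mem_adjoin_iff_div.mp this
    exact ⟨a, ha, b, hb, h⟩
  · intro Q' hQ'
    by_contra hne
    have h1 := lt_one_of_forall_le hK hQ'
      (sub_mem (le_loc _ Q hxm) ((loc (Algebra.adjoin k {x, s}) Q).algebraMap_mem a)) ha
    have h2 := lt_one_of_forall_le hK hQ' (le_loc _ Q hsm) hs1
    rw [hs' Q' h1 hne] at h2
    exact lt_irrefl _ h2

omit [IsAlgClosed k] in
/-- Generators over `k(x)` as algebra generators. -/
theorem algebra_adjoin_eq_top {x : K} (hx : IsGen k K x) {y : K}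
    (h : IntermediateField.adjoin k {x, y} = ⊤) :
    Algebra.adjoin (IntermediateField.adjoin k {x}) {y} = ⊤ := by
  have := hx.fin
  have hy : IsAlgebraic (IntermediateField.adjoin k {x}) y := Algebra.IsAlgebraic.isAlgebraic y
  rw [← IntermediateField.adjoin_simple_toSubalgebra_of_isAlgebraic hy]
  have h1 : IntermediateField.adjoin (IntermediateField.adjoin k {x}) {y} = ⊤ := by
    have h2 : (IntermediateField.adjoin (IntermediateField.adjoin k {x}) {y}).restrictScalars k = ⊤ := by
      rw [eq_top_iff, ← h, IntermediateField.adjoin_le_iff]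
      rintro z hz
      rw [Set.mem_insert_iff, Set.mem_singleton_iff] at hz
      rcases hz with rfl | rfl
      · exact IntermediateField.algebraMap_mem _
          (⟨z, IntermediateField.mem_adjoin_simple_self k z⟩ : IntermediateField.adjoin k {z})
      · exact IntermediateField.mem_adjoin_simple_self _ z
    rw [eq_top_iff]
    intro z _
    have h3 : z ∈ (IntermediateField.adjoin (IntermediateField.adjoin k {x}) {y}).restrictScalars k := by
      rw [h2]; trivial
    exact h3
  rw [h1]
  rfl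

attribute [local instance] instDed instFrac

/-- Main statement at finite distance, in integral position. -/
theorem main (hK : IsFunctionField k K) {x : K} (hx : IsGen k K x)
    (hsep : Algebra.IsSeparable (IntermediateField.adjoin k {x}) K)
    (hD : KaehlerDifferential.D k K x ≠ 0) {y : K} (hy : IsIntegral (Algebra.adjoin k {x}) y)
    (hxy : IntermediateField.adjoin k {x, y} = ⊤) {Q : Place k K} (hQ : Q.1 x ≤ 1)
    (ψ : K →ₐ[k] LaurentSeries k) (hψ : LocRes.IsExpansionAt Q.1 ψ) :
    aeval y (derivative (minpoly (Algebra.adjoin k {x}) y)) ≠ 0 ∧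
    0 ≤ Q.ord (aeval y (derivative (minpoly (Algebra.adjoin k {x}) y))) - LocRes.ordDiff ψ 1 x ∧
    (Q.ord (aeval y (derivative (minpoly (Algebra.adjoin k {x}) y))) - LocRes.ordDiff ψ 1 x = 0 ↔
      ∀ z : K, Q.1 z ≤ 1 → z ∈ loc (Algebra.adjoin k {x, y}) Q) := by
  have hfact : Fact (IsGen k K x) := ⟨hx⟩
  have hprin : IsPrincipalIdealRing (Algebra.adjoin k {x}) := K660.Ded.isPrincipalIdealRing_adjoin hx.tr
  obtain ⟨a, ha⟩ := K663.AlgC.exists_const hK Q hQ
  obtain ⟨s, hsint, hs, hs'⟩ := exists_s hK hx Q a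
  replace hs := hs ha
  have htop := adjoin_eq_top hK hx ha hs hs'
  have hns := mem_loc_s hK hx ha hs hs'
  have hval := AdjDer.vDiff_eq (DivDiff.finrank_kaehler hK) hD hx.tr hQ ψ hψ ha hsint hs hns
  let yB : integralClosure (Algebra.adjoin k {x}) K := ⟨y, hy⟩
  let sB : integralClosure (Algebra.adjoin k {x}) K := ⟨s, hsint⟩
  have hminy : minpoly (Algebra.adjoin k {x}) yB = minpoly (Algebra.adjoin k {x}) y :=
    (minpoly.algebraMap_eq (IsFractionRing.injective _ K) yB).symm
  have hmins : minpoly (Algebra.adjoin k {x}) sB = minpoly (Algebra.adjoin k {x}) s :=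
    (minpoly.algebraMap_eq (IsFractionRing.injective _ K) sB).symm
  have hyK : ((aeval yB (derivative (minpoly (Algebra.adjoin k {x}) yB)) :
      integralClosure (Algebra.adjoin k {x}) K) : K) =
        aeval y (derivative (minpoly (Algebra.adjoin k {x}) y)) := by
    rw [hminy]
    exact (aeval_algebraMap_apply K yB _).symm
  have hsK : ((aeval sB (derivative (minpoly (Algebra.adjoin k {x}) sB)) :
      integralClosure (Algebra.adjoin k {x}) K) : K) =
        aeval s (derivative (minpoly (Algebra.adjoin k {x}) s)) := by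
    rw [hmins]
    exact (aeval_algebraMap_apply K sB _).symm
  set dy := aeval y (derivative (minpoly (Algebra.adjoin k {x}) y)) with hdy
  set ds := aeval s (derivative (minpoly (Algebra.adjoin k {x}) s)) with hds
  have hvne : LocRes.vDiff ψ 1 x ≠ 0 :=
    DiffCalc.vDiff_ne_zero (DivDiff.finrank_kaehler hK) ψ hψ one_ne_zero hD
  have hds0 : ds ≠ 0 := by
    intro h
    rw [h, map_zero] at hval
    exact hvne hval
  have hord : LocRes.ordDiff ψ 1 x = Q.ord ds := by
    rw [LocRes.ordDiff, Place.ord, hval]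
  have hytop := algebra_adjoin_eq_top hx hxy
  have hstop := algebra_adjoin_eq_top hx htop
  obtain ⟨w, hw, hw1⟩ := (exists_mem_conductor_iff Q hQ sB).2 hns
  obtain ⟨c, hc, hcw⟩ := conductor_swap x yB sB hytop hstop hw
  have hcw' : (w : K) * dy = (c : K) * ds := by
    rw [← hyK, ← hsK]
    exact congrArg Subtype.val hcw
  -- nonvanishing
  have hdy0 : dy ≠ 0 := by
    intro h
    have hsepy : IsSeparable (IntermediateField.adjoin k {x}) y := Algebra.IsSeparable.isSeparable _ y
    have h1 : aeval y (derivative (minpoly (IntermediateField.adjoin k {x}) y)) ≠ 0 :=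
      hsepy.aeval_derivative_ne_zero (minpoly.aeval _ _)
    apply h1
    open scoped IntermediateField.algebraAdjoinAdjoin in
    rw [minpoly.isIntegrallyClosed_eq_field_fractions' (IntermediateField.adjoin k {x}) hy,
      derivative_map, aeval_map_algebraMap]
    exact h
  have hc0 : (c : K) ≠ 0 := by
    intro h
    rw [h, zero_mul] at hcw'
    rcases mul_eq_zero.1 hcw' with h1 | h1
    · rw [h1, map_zero] at hw1; exact zero_ne_one hw1
    · exact hdy0 h1
  have hw0 : (w : K) ≠ 0 := ne_zero_of_val_one Q hw1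
  have h1 : Q.ord dy = Q.ord (c : K) + Q.ord ds := by
    have h2 := congrArg Q.ord hcw'
    rw [K660.Ord.ord_mul Q hw0 hdy0, K660.Ord.ord_mul Q hc0 hds0] at h2
    have h3 : Q.ord (w : K) = 0 := by rw [Place.ord, hw1, log_one, neg_zero]
    rw [h3, zero_add] at h2
    exact h2
  have hcnn : 0 ≤ Q.ord (c : K) := by
    have h2 := val_le_one_of_mem Q hQ c
    rw [K660.Ord.val_eq_exp Q hc0, ← exp_zero, exp_le_exp] at h2
    omega
  rw [hord]
  refine ⟨hdy0, by omega, ?_⟩
  constructor
  · intro h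
    have h2 : Q.ord (c : K) = 0 := by omega
    have h3 : Q.1 (c : K) = 1 := by rw [K660.Ord.val_eq_exp Q hc0, h2, neg_zero, exp_zero]
    exact (exists_mem_conductor_iff Q hQ yB).1 ⟨c, hc, h3⟩
  · intro h
    obtain ⟨w', hw', hw1'⟩ := (exists_mem_conductor_iff Q hQ yB).2 h
    obtain ⟨c', hc', hcw2⟩ := conductor_swap x sB yB hstop hytop hw'
    have hcw3 : (w' : K) * ds = (c' : K) * dy := by
      rw [← hyK, ← hsK]
      exact congrArg Subtype.val hcw2
    have hw0' : (w' : K) ≠ 0 := ne_zero_of_val_one Q hw1'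
    have hc0' : (c' : K) ≠ 0 := by
      intro h
      rw [h, zero_mul] at hcw3
      exact (mul_ne_zero hw0' hds0) hcw3
    have h2 := congrArg Q.ord hcw3
    rw [K660.Ord.ord_mul Q hw0' hds0, K660.Ord.ord_mul Q hc0' hdy0] at h2
    have h3 : Q.ord (w' : K) = 0 := by rw [Place.ord, hw1', log_one, neg_zero]
    have h4 : 0 ≤ Q.ord (c' : K) := by
      have h2 := val_le_one_of_mem Q hQ c'
      rw [K660.Ord.val_eq_exp Q hc0', ← exp_zero, exp_le_exp] at h2
      omega
    omega

end K669.AdjFin
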