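import Groth.Agent.FunFld.K664.PlaneGenus
import Mathlib.RingTheory.Kaehler.Basic
import Mathlib.LinearAlgebra.Matrix.NonsingularInverse

/-! Good projective coordinates for a plane map at a place. -/

set_option autoImplicit false

namespace K669.AdjPos

open FunFld WithZero

variable {k K : Type*} [Field k] [IsAlgClosed k] [Field K] [Algebra k K]

omit [IsAlgClosed k] in
theorem det_ne_zero (a : Fin 3 → k) (j l l' : Fin 3) (hj : j ≠ l) (hj' : j ≠ l') (hl : l ≠ l')
    (ha : a l' ≠ 0) :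
    (Matrix.of ![Pi.single j (1 : k), a, Pi.single l (1 : k)] : Matrix (Fin 3) (Fin 3) k).det ≠ 0 := by
  rw [Matrix.det_fin_three]
  fin_cases j <;> fin_cases l <;> fin_cases l' <;>
    first
    | exact absurd rfl hj
    | exact absurd rfl hj'
    | exact absurd rfl hl
    | simpa [Pi.single_apply] using ha

theorem exists_third (j l' : Fin 3) : ∃ l : Fin 3, j ≠ l ∧ l ≠ l' := by
  fin_cases j <;> fin_cases l' <;> decide

theorem exists_position (hK : IsFunctionField k K) (x y : K)
    (hD : KaehlerDifferential.D k K x ≠ 0) (Q : Place k K) :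
    ∃ (B : Matrix (Fin 3) (Fin 3) k) (A : Matrix (Fin 3) (Fin 3) k) (u : Fin 3 → K) (j : Fin 3),
      A.det ≠ 0 ∧ (∀ i, ∑ l, algebraMap k K (A i l) * u l = ![(1 : K), x, y] i) ∧
      (∀ i, u i = ∑ l, algebraMap k K (B i l) * ![(1 : K), x, y] l) ∧
      u 0 = ![(1 : K), x, y] j ∧ u 0 ≠ 0 ∧
      (∀ i, Q.1 (![(1 : K), x, y] i) ≤ Q.1 (u 0)) ∧ (∀ i, Q.1 (u i) ≤ Q.1 (u 0)) ∧
      KaehlerDifferential.D k K (u 1 / u 0) ≠ 0 ∧
      ∀ P : Place k K, P.1 (u 2) ≤ max (P.1 (u 0)) (P.1 (u 1)) := by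
  classical
  set φ : Fin 3 → K := ![(1 : K), x, y] with hφ
  have hW := K664.bpf_plane hK x y
  rw [← hφ] at hW
  obtain ⟨j, hj⟩ := K664.exists_val_eq_of_one hK φ (i₀ := 0) rfl Q
  have hu0 : φ j ≠ 0 := by
    intro h
    rw [h, map_zero] at hj
    exact exp_ne_zero hj.symm
  have hmem : ∀ i, φ i ∈ Submodule.span k (Set.range φ) := fun i => Submodule.subset_span ⟨i, rfl⟩
  let T : K →ₗ[k] KaehlerDifferential k K :=
    (KaehlerDifferential.D k K).toLinearMap ∘ₗ LinearMap.mulLeft k (φ j)⁻¹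
  have hT : ∀ w, T w = KaehlerDifferential.D k K ((φ j)⁻¹ * w) := fun w => rfl
  have hnle : ¬ Submodule.span k (Set.range φ) ≤ LinearMap.ker T := by
    intro hle
    have h1 : T 1 = 0 := LinearMap.mem_ker.1 (hle (hmem 0))
    have h2 : T x = 0 := LinearMap.mem_ker.1 (hle (hmem 1))
    rw [hT, mul_one] at h1
    rw [hT] at h2
    have h3 : KaehlerDifferential.D k K (φ j) = 0 := by
      have h4 : KaehlerDifferential.D k K (φ j * (φ j)⁻¹) = 0 := by
        rw [mul_inv_cancel₀ hu0]
        exact Derivation.map_one_eq_zero _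
      rw [Derivation.leibniz, h1, smul_zero, zero_add] at h4
      exact (smul_eq_zero.1 h4).resolve_left (inv_ne_zero hu0)
    apply hD
    have h5 : x = φ j * ((φ j)⁻¹ * x) := by rw [mul_inv_cancel_left₀ hu0]
    rw [h5, Derivation.leibniz, h2, h3, smul_zero, smul_zero, add_zero]
  obtain ⟨v, hv, hv', hpen⟩ := hW.exists_pencil hK (hmem j) hu0 (LinearMap.ker T) hnle
  obtain ⟨a, ha⟩ := (Submodule.mem_span_range_iff_exists_fun k).1 hv
  obtain ⟨l', hjl', hal'⟩ : ∃ l', j ≠ l' ∧ a l' ≠ 0 := by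
    by_contra hcon
    push Not at hcon
    apply hv'
    rw [LinearMap.mem_ker, hT]
    have h1 : v = a j • φ j := by
      rw [← ha]
      exact Finset.sum_eq_single j (fun i _ hi => by rw [hcon i hi.symm, zero_smul])
        (fun h => absurd (Finset.mem_univ _) h)
    rw [h1, Algebra.smul_def, mul_left_comm, inv_mul_cancel₀ hu0, mul_one]
    exact Derivation.map_algebraMap _ _
  obtain ⟨l, hjl, hll'⟩ := exists_third j l'
  set B : Matrix (Fin 3) (Fin 3) k := Matrix.of ![Pi.single j (1 : k), a, Pi.single l (1 : k)] with hB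
  have hBdet : B.det ≠ 0 := det_ne_zero a j l l' hjl hjl' hll' hal'
  have hBu : IsUnit B.det := isUnit_iff_ne_zero.2 hBdet
  set u : Fin 3 → K := fun i => ∑ m, algebraMap k K (B i m) * φ m with hu
  have hsingle : ∀ i : Fin 3, ∑ m, algebraMap k K ((Pi.single i (1 : k) : Fin 3 → k) m) * φ m = φ i := by
    intro i
    rw [Finset.sum_eq_single i]
    · simp
    · intro m _ hm
      simp [hm]
    · exact fun h => absurd (Finset.mem_univ _) h
  have hu0' : u 0 = φ j := hsingle j
  have hu1 : u 1 = v := by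
    rw [← ha]
    exact Finset.sum_congr rfl fun m _ => (Algebra.smul_def _ _).symm
  have hu2 : u 2 = φ l := hsingle l
  have humem : ∀ i, u i ∈ Submodule.span k (Set.range φ) := by
    intro i
    refine Submodule.sum_mem _ fun m _ => ?_
    rw [← Algebra.smul_def]
    exact Submodule.smul_mem _ _ (hmem m)
  refine ⟨B, B⁻¹, u, j, ?_, ?_, fun i => rfl, hu0', ?_, ?_, ?_, ?_, ?_⟩
  · exact (Matrix.isUnit_nonsing_inv_det B hBu).ne_zero
  · intro i
    have h1 : ∀ l, algebraMap k K (B⁻¹ i l) * u l =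
        ∑ m, algebraMap k K (B⁻¹ i l * B l m) * φ m := by
      intro l
      rw [hu, Finset.mul_sum]
      exact Finset.sum_congr rfl fun m _ => by rw [map_mul, mul_assoc]
    simp only [h1]
    rw [Finset.sum_comm]
    have h2 : ∀ m, ∑ l, algebraMap k K (B⁻¹ i l * B l m) * φ m =
        algebraMap k K ((1 : Matrix (Fin 3) (Fin 3) k) i m) * φ m := by
      intro m
      rw [← Finset.sum_mul, ← map_sum, ← Matrix.mul_apply, Matrix.nonsing_inv_mul B hBu]
    simp only [h2]
    rw [Finset.sum_eq_single i]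
    · simp
    · intro m _ hm
      simp [hm.symm]
    · exact fun h => absurd (Finset.mem_univ _) h
  · rw [hu0']; exact hu0
  · intro i
    rw [hu0', hj]
    exact hW.1 (hmem i) Q
  · intro i
    rw [hu0', hj]
    exact hW.1 (humem i) Q
  · rw [hu0', hu1, div_eq_inv_mul]
    exact fun h => hv' (LinearMap.mem_ker.2 h)
  · intro P
    rw [hu0', hu2, hu1]
    refine (hW.1 (hmem l) P).trans ?_
    rcases hpen P with h | h
    · exact h.ge.trans (le_max_left _ _)
    · exact h.ge.trans (le_max_right _ _)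

end K669.AdjPos
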