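import Groth.Agent.FunFld.K669.PlaneDiff
import Groth.Agent.FunFld.K669.DivDiff
import Groth.Agent.FunFld.K660.Compare

/-! The adjoint divisor under a change of projective coordinates. -/

set_option autoImplicit false

namespace K669.AdjointChange

open FunFld WithZero

variable {k K : Type*} [Field k] [Field K] [Algebra k K]

theorem mapDiv_of_span_eq_map {ι κ : Type*} [Fintype ι] [Nonempty ι] [Fintype κ] [Nonempty κ]
    (hK : IsFunctionField k K) {φ : ι → K} {ψ : κ → K} (hφ : MapDiv.Good φ) (hψ : MapDiv.Good ψ)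
    {y : K} (hy : y ≠ 0)
    (h : Submodule.span k (Set.range ψ) = (Submodule.span k (Set.range φ)).map (LinearMap.mulLeft k y)) :
    mapDiv k ψ = mapDiv k φ - div k y := by
  ext P
  rw [Finsupp.sub_apply, MapDiv.div_apply hK]
  apply MapDiv.eq_of_forall_le_iff_int
  intro m
  rw [MapDiv.mapDiv_le_iff hK hψ, sub_le_iff_le_add, MapDiv.mapDiv_le_iff hK hφ, h]
  have key : ∀ f : K, P.1 (y * f) ≤ exp m ↔ P.1 f ≤ exp (m + P.ord y) := fun f => by
    rw [map_mul, K660.Ord.val_eq_exp P hy, exp_add, exp_neg, inv_mul_le_iff₀ (by exact exp_pos), mul_comm]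
  constructor
  · intro h1 f hf
    rw [← key]
    exact h1 _ ⟨f, hf, rfl⟩
  · rintro h1 _ ⟨f, hf, rfl⟩
    exact (key f).mpr (h1 f hf)

theorem main (k K : Type*) [Field k] [IsAlgClosed k] [Field K] [Algebra k K]
    (hK : FunFld.IsFunctionField k K) (f : MvPolynomial (Fin 3) k) (e : ℕ) (hf : f.IsHomogeneous e)
    (x y : K) (hfxy : MvPolynomial.aeval ![(1 : K), x, y] f = 0)
    (hdx : KaehlerDifferential.D k K x ≠ 0)
    (he : (FunFld.mapDiv k ![(1 : K), x, y]).deg = e)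
    (A : Matrix (Fin 3) (Fin 3) k) (hA : A.det ≠ 0)
    (u : Fin 3 → K) (hu : ∀ i, ∑ j, algebraMap k K (A i j) * u j = ![(1 : K), x, y] i)
    (hu0 : u 0 ≠ 0)
    (hfy : (MvPolynomial.aeval ![(1 : K), x, y] (MvPolynomial.pderiv 2 f)) ≠ 0)
    (hfy' : (MvPolynomial.aeval ![(1 : K), u 1 / u 0, u 2 / u 0] (MvPolynomial.pderiv 2 (MvPolynomial.aeval (fun i : Fin 3 => ∑ j, MvPolynomial.C (A i j) * MvPolynomial.X j) f))) ≠ 0)
    (Φ : FunFld.Place k K → (K →ₐ[k] LaurentSeries k))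
    (hΦ : ∀ P : FunFld.Place k K, LocRes.IsExpansionAt P.1 (Φ P)) :
    ((FunFld.mapDiv k ![(1 : K), x, y]).deg - 3) • FunFld.mapDiv k ![(1 : K), x, y] -
        FunFld.divDiff Φ (MvPolynomial.aeval ![(1 : K), x, y] (MvPolynomial.pderiv 2 f))⁻¹ x =
      ((FunFld.mapDiv k ![(1 : K), u 1 / u 0, u 2 / u 0]).deg - 3) •
          FunFld.mapDiv k ![(1 : K), u 1 / u 0, u 2 / u 0] -
        FunFld.divDiff Φ (MvPolynomial.aeval ![(1 : K), u 1 / u 0, u 2 / u 0] (MvPolynomial.pderiv 2 (MvPolynomial.aeval (fun i : Fin 3 => ∑ j, MvPolynomial.C (A i j) * MvPolynomial.X j) f)))⁻¹ (u 1 / u 0) := by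
  have hmain := PlaneDiff.main k K f e hf x y hfxy A u hu hu0 hfy hfy'
  set g := (MvPolynomial.aeval ![(1 : K), u 1 / u 0, u 2 / u 0] (MvPolynomial.pderiv 2 (MvPolynomial.aeval (fun i : Fin 3 => ∑ j, MvPolynomial.C (A i j) * MvPolynomial.X j) f))) with hg
  set fy := (MvPolynomial.aeval ![(1 : K), x, y] (MvPolynomial.pderiv 2 f)) with hfydef
  -- the divisor of the map
  have hmap : mapDiv k ![(1 : K), u 1 / u 0, u 2 / u 0] = mapDiv k ![(1 : K), x, y] + div k (u 0) := by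
    have g1 : MapDiv.Good (![(1 : K), x, y]) := Or.inr ⟨0, rfl⟩
    have g2 : MapDiv.Good (![(1 : K), u 1 / u 0, u 2 / u 0]) := Or.inr ⟨0, rfl⟩
    have h1 : Submodule.span k (Set.range ![(1 : K), x, y]) = Submodule.span k (Set.range u) :=
      MapDiv.span_eq_of_matrix A hA (fun i => by
        rw [← hu i]
        exact Finset.sum_congr rfl fun j _ => (Algebra.smul_def _ _).symm)
    have h2 : ![(1 : K), u 1 / u 0, u 2 / u 0] = LinearMap.mulLeft k (u 0)⁻¹ ∘ u := by
      funext i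
      fin_cases i
      · simp [hu0]
      · simp [div_eq_inv_mul]
      · simp [div_eq_inv_mul]
    have h3 := mapDiv_of_span_eq_map (k := k) hK g1 g2 (inv_ne_zero hu0) (by
      rw [h1, h2, Set.range_comp, Submodule.map_span])
    rw [h3, MapDiv.div_inv hK, sub_neg_eq_add]
  have hdeg : (mapDiv k ![(1 : K), u 1 / u 0, u 2 / u 0]).deg = e := by
    rw [hmap, K660.Compare.deg_add, K660.Compare.deg_div hK, add_zero, he]
  -- the divisor of the differential
  have hne : fy⁻¹ • KaehlerDifferential.D k K x ≠ 0 := smul_ne_zero (inv_ne_zero hfy) hdx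
  have hdx' : KaehlerDifferential.D k K (u 1 / u 0) ≠ 0 := by
    intro h
    rw [hmain, h, smul_zero] at hne
    exact hne rfl
  have hA' : algebraMap k K A.det ≠ 0 := by
    rw [Ne, FaithfulSMul.algebraMap_eq_zero_iff]; exact hA
  have hz : (u 0)⁻¹ ^ ((e : ℤ) - 3) ≠ 0 := zpow_ne_zero _ (inv_ne_zero hu0)
  have hdiff : divDiff Φ fy⁻¹ x = -((e : ℤ) - 3) • div k (u 0) + divDiff Φ g⁻¹ (u 1 / u 0) := by
    rw [DivDiff.divDiff_congr hK Φ hΦ (inv_ne_zero hfy) hdx hmain,
      DivDiff.divDiff_mul hK Φ hΦ (mul_ne_zero hA' hz) (inv_ne_zero hfy') hdx',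
      MapDiv.div_mul hK hA' hz, MapDiv.div_algebraMap hK, zero_add]
    congr 1
    ext P
    rw [MapDiv.div_apply hK, K660.Ord.ord_zpow, K660.Ord.ord_inv, Finsupp.smul_apply,
      MapDiv.div_apply hK, smul_eq_mul]
    ring
  rw [hdeg, he, hmap, hdiff]
  simp only [smul_add, neg_smul]
  abel

end K669.AdjointChange
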