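import Groth.Agent.FunFld.K669.MvPolyDer

/-! Homogenization of a polynomial in two variables. -/

set_option autoImplicit false

namespace K669.Homog

open MvPolynomial

variable {k : Type*} [Field k]

/-- The homogenization of a polynomial in two variables. -/
noncomputable def homog (f : MvPolynomial (Fin 2) k) : MvPolynomial (Fin 3) k :=
  ∑ i ∈ Finset.range (f.totalDegree + 1),
    X 0 ^ (f.totalDegree - i) * rename Fin.succ (homogeneousComponent i f)

theorem homog_isHomogeneous (f : MvPolynomial (Fin 2) k) : (homog f).IsHomogeneous f.totalDegree := by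
  apply IsHomogeneous.sum
  intro i hi
  have h1 : f.totalDegree = (f.totalDegree - i) + i := by
    have := Finset.mem_range.1 hi
    omega
  have h2 := (isHomogeneous_X k (0 : Fin 3)).pow (f.totalDegree - i)
  rw [one_mul] at h2
  have h3 := h2.mul ((homogeneousComponent_isHomogeneous i f).rename_isHomogeneous (f := Fin.succ))
  rwa [← h1] at h3

theorem aeval_rename_succ {K : Type*} [Field K] [Algebra k K] (x y : K) (p : MvPolynomial (Fin 2) k) :
    aeval ![(1 : K), x, y] (rename Fin.succ p) = aeval ![x, y] p := by
  rw [aeval_rename]
  rfl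

theorem aeval_homog {K : Type*} [Field K] [Algebra k K] (x y : K) (f : MvPolynomial (Fin 2) k) :
    aeval ![(1 : K), x, y] (homog f) = aeval ![x, y] f := by
  rw [homog, map_sum]
  have h : ∀ i, aeval ![(1 : K), x, y] (X 0 ^ (f.totalDegree - i) *
      rename Fin.succ (homogeneousComponent i f)) = aeval ![x, y] (homogeneousComponent i f) := by
    intro i
    rw [map_mul, aeval_rename_succ, map_pow, aeval_X, Matrix.cons_val_zero, one_pow, one_mul]
  simp only [h]
  rw [← map_sum, sum_homogeneousComponent]

theorem aeval_pderiv_homog {K : Type*} [Field K] [Algebra k K] (x y : K)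
    (f : MvPolynomial (Fin 2) k) :
    aeval ![(1 : K), x, y] (pderiv 2 (homog f)) = aeval ![x, y] (pderiv 1 f) := by
  rw [homog, map_sum, map_sum]
  have h : ∀ i, aeval ![(1 : K), x, y] (pderiv 2 (X 0 ^ (f.totalDegree - i) *
      rename Fin.succ (homogeneousComponent i f))) =
        aeval ![x, y] (pderiv 1 (homogeneousComponent i f)) := by
    intro i
    rw [Derivation.leibniz, Derivation.leibniz_pow, pderiv_X_of_ne (by decide), smul_zero, smul_zero,
      smul_zero, add_zero, smul_eq_mul, map_mul]
    have h1 : pderiv (2 : Fin 3) (rename Fin.succ (homogeneousComponent i f)) =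
        rename Fin.succ (pderiv 1 (homogeneousComponent i f)) :=
      pderiv_rename (R := k) (f := (Fin.succ : Fin 2 → Fin 3)) (Fin.succ_injective 2) 1
        (homogeneousComponent i f)
    rw [h1, aeval_rename_succ, map_pow, aeval_X, Matrix.cons_val_zero, one_pow, one_mul]
  simp only [h]
  rw [← map_sum, ← map_sum, sum_homogeneousComponent]

end K669.Homog
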