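import Groth.Agent.FunFld.K669.MvPolyDer
import Mathlib.Algebra.Polynomial.AlgebraMap
import Mathlib.Algebra.Polynomial.Derivation

/-! The polynomial `G(1, a, Y)` of a ternary form `G`. -/

set_option autoImplicit false

namespace K669.Spec

open Polynomial

variable {k A : Type*} [Field k] [CommRing A] [Algebra k A]

/-- `G(1, a, Y)`. -/
noncomputable def spec (a : A) (G : MvPolynomial (Fin 3) k) : A[X] :=
  MvPolynomial.aeval ![(1 : A[X]), C a, X] G

theorem aeval_spec {B : Type*} [CommRing B] [Algebra A B] [Algebra k B] [IsScalarTower k A B]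
    (a : A) (b : B) (G : MvPolynomial (Fin 3) k) :
    aeval b (spec a G) = MvPolynomial.aeval ![(1 : B), algebraMap A B a, b] G := by
  have h : ((aeval b : A[X] →ₐ[A] B).restrictScalars k).comp
      (MvPolynomial.aeval ![(1 : A[X]), C a, X] : MvPolynomial (Fin 3) k →ₐ[k] A[X]) =
      MvPolynomial.aeval ![(1 : B), algebraMap A B a, b] := by
    apply MvPolynomial.algHom_ext
    intro i
    fin_cases i
    · simp
    · simp
    · simp
  exact congrArg (fun f : MvPolynomial (Fin 3) k →ₐ[k] B => f G) h

theorem derivative_spec (a : A) (G : MvPolynomial (Fin 3) k) :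
    derivative (spec a G) = spec a (MvPolynomial.pderiv 2 G) := by
  let D : Derivation k A[X] A[X] := (Polynomial.derivative' (R := A)).restrictScalars k
  have h := MvPolyDer.deriv_aeval D ![(1 : A[X]), C a, X] G
  have hD : ∀ p : A[X], D p = derivative p := fun p => rfl
  rw [Fin.sum_univ_three] at h
  simp only [hD] at h
  unfold spec
  rw [h]
  simp

theorem natDegree_and_coeff (a : A) {G : MvPolynomial (Fin 3) k} {e : ℕ} (hG : G.IsHomogeneous e) :
    (spec a G).natDegree ≤ e ∧ ∃ c : k, (spec a G).coeff e = algebraMap k A c := by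
  have hexp : spec a G = ∑ m ∈ G.support,
      C (algebraMap k A (G.coeff m) * a ^ m 1) * X ^ m 2 := by
    unfold spec
    rw [MvPolynomial.aeval_def, MvPolynomial.eval₂_eq']
    refine Finset.sum_congr rfl fun m _ => ?_
    rw [Fin.prod_univ_three]
    simp only [Matrix.cons_val_zero, Matrix.cons_val_one, Matrix.cons_val_two, one_pow, one_mul,
      Matrix.tail_cons, Matrix.head_cons]
    rw [C_mul, C_pow, mul_assoc]
    rfl
  have hdeg : ∀ m ∈ G.support, m 0 + m 1 + m 2 = e := by
    intro m hm
    have h1 := hG.degree_eq_sum_deg_support hm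
    have h2 : ∑ i ∈ m.support, m i = ∑ i, m i :=
      Finset.sum_subset (Finset.subset_univ _) fun i _ hi => Finsupp.notMem_support_iff.1 hi
    rw [h1, h2, Fin.sum_univ_three]
  rw [hexp]
  constructor
  · apply natDegree_sum_le_of_forall_le
    intro m hm
    refine (natDegree_C_mul_X_pow_le _ _).trans ?_
    have := hdeg m hm
    omega
  · refine ⟨∑ m ∈ G.support, if m 2 = e then G.coeff m else 0, ?_⟩
    rw [finsetSum_coeff, map_sum]
    refine Finset.sum_congr rfl fun m hm => ?_
    rw [coeff_C_mul_X_pow]
    have h1 := hdeg m hm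
    by_cases h : m 2 = e
    · have h2 : m 1 = 0 := by omega
      rw [if_pos h.symm, if_pos h, h2, pow_zero, mul_one]
    · rw [if_neg (fun h' => h h'.symm), if_neg h, map_zero]

end K669.Spec
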