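import Groth.Agent.FunFld.K669.AdjFin
import Groth.Agent.FunFld.K669.AdjPos
import Groth.Agent.FunFld.K669.Homog
import Groth.Agent.FunFld.K669.Spec
import Groth.Agent.FunFld.K669.AdjointChange
import Groth.Agent.FunFld.K669.Expansion
import Groth.Agent.FunFld.K660.Rational
import Groth.Agent.FunFld.K668.Hasse

/-! The adjoint divisor of a birational plane map is effective, and vanishes exactly at the nonsingular
places. -/

set_option autoImplicit false

namespace K669.AdjMain

open FunFld WithZero K660.Places Polynomial K665.LocRing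

section Gen

variable {k K : Type*} [Field k] [Field K] [Algebra k K]

open MvPolynomial in
theorem pderiv_two_ne_zero
    (f : MvPolynomial (Fin 3) k) (e : ℕ) (hf : f.IsHomogeneous e)
    (x y : K) (hfxy : MvPolynomial.aeval ![(1 : K), x, y] f = 0)
    (A : Matrix (Fin 3) (Fin 3) k) (hA : A.det ≠ 0)
    (u : Fin 3 → K) (hu : ∀ i, ∑ j, algebraMap k K (A i j) * u j = ![(1 : K), x, y] i)
    (hu0 : u 0 ≠ 0)
    (hfy : MvPolynomial.aeval ![(1 : K), x, y] (MvPolynomial.pderiv 2 f) ≠ 0)
    (hd : KaehlerDifferential.D k K (u 1 / u 0) ≠ 0) :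
    MvPolynomial.aeval ![(1 : K), u 1 / u 0, u 2 / u 0]
      (MvPolynomial.pderiv 2
        (MvPolynomial.aeval (fun i : Fin 3 => ∑ j, MvPolynomial.C (A i j) * MvPolynomial.X j) f)) ≠ 0 := by
  have hg : (MvPolynomial.aeval ![(1 : K), u 1 / u 0, u 2 / u 0]
      (MvPolynomial.pderiv 2
        (MvPolynomial.aeval (fun i : Fin 3 => ∑ j, MvPolynomial.C (A i j) * MvPolynomial.X j) f))) =
      (u 0)⁻¹ ^ (e - 1) * (algebraMap k K (A 0 2) * MvPolynomial.aeval ![(1 : K), x, y] (pderiv 0 f) +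
        algebraMap k K (A 1 2) * MvPolynomial.aeval ![(1 : K), x, y] (pderiv 1 f) +
        algebraMap k K (A 2 2) * MvPolynomial.aeval ![(1 : K), x, y] (pderiv 2 f)) := by
    rw [MvPolyDer.pderiv_aeval, map_sum]
    have hval : ∀ i : Fin 3, MvPolynomial.aeval ![(1 : K), u 1 / u 0, u 2 / u 0]
        (MvPolynomial.aeval (fun i : Fin 3 => ∑ j, MvPolynomial.C (A i j) * MvPolynomial.X j)
          (pderiv i f)) =
        (u 0)⁻¹ ^ (e - 1) * MvPolynomial.aeval ![(1 : K), x, y] (pderiv i f) := by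
      intro i
      rw [← MvPolyDer.aeval_smul_of_isHomogeneous (u 0)⁻¹ ![(1 : K), x, y] (hf.pderiv (i := i)),
        ← AlgHom.comp_apply]
      refine congrFun (congrArg DFunLike.coe ?_) _
      apply MvPolynomial.algHom_ext
      intro l
      rw [AlgHom.comp_apply, MvPolynomial.aeval_X, MvPolynomial.aeval_X, ← hu l, map_sum, Finset.mul_sum]
      refine Finset.sum_congr rfl fun j _ => ?_
      rw [map_mul, MvPolynomial.aeval_X, MvPolynomial.aeval_C]
      fin_cases j
      · simp; field_simp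
      · simp; ring
      · simp; ring
    have hpd : ∀ i : Fin 3, MvPolynomial.aeval ![(1 : K), u 1 / u 0, u 2 / u 0]
        (pderiv (2 : Fin 3) (∑ j, MvPolynomial.C (A i j) * MvPolynomial.X j)) =
        algebraMap k K (A i 2) := by
      intro i
      simp [Fin.sum_univ_three, Derivation.leibniz, pderiv_X]
    simp only [map_mul, hval, hpd]
    rw [Fin.sum_univ_three]
    ring
  have hkey := PlaneDiff.key (KaehlerDifferential.D k K) A u
    (fun i => MvPolynomial.aeval ![(1 : K), x, y] (pderiv i f)) x y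
    (by have := hu 0; simpa [Fin.sum_univ_three] using this)
    (by have := hu 1; simpa [Fin.sum_univ_three] using this)
    (by have := hu 2; simpa [Fin.sum_univ_three] using this)
    (by
      have := MvPolyDer.sum_mul_aeval_pderiv ![(1 : K), x, y] hf
      rw [hfxy, mul_zero, Fin.sum_univ_three] at this
      simpa using this)
    (by
      have := MvPolyDer.deriv_aeval (KaehlerDifferential.D k K) ![(1 : K), x, y] f
      rw [hfxy, map_zero, Fin.sum_univ_three] at this
      simpa using this.symm)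
  have hdu : KaehlerDifferential.D k K (u 1 / u 0) = (u 0)⁻¹ ^ 2 •
      (u 0 • KaehlerDifferential.D k K (u 1) - u 1 • KaehlerDifferential.D k K (u 0)) :=
    Derivation.leibniz_div _ _ _
  rw [hg]
  refine mul_ne_zero (pow_ne_zero _ (inv_ne_zero hu0)) fun hG => ?_
  rw [hG, zero_smul] at hkey
  rcases smul_eq_zero.1 hkey.symm with h | h
  · rcases mul_eq_zero.1 h with h1 | h1
    · rw [FaithfulSMul.algebraMap_eq_zero_iff] at h1
      exact hA h1
    · exact hfy h1
  · rw [hdu, h, smul_zero] at hd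
    exact hd rfl

/-- The value of the transformed form. -/
theorem aeval_change (f : MvPolynomial (Fin 3) k) (e : ℕ) (hf : f.IsHomogeneous e)
    (x y : K) (hfxy : MvPolynomial.aeval ![(1 : K), x, y] f = 0)
    (A : Matrix (Fin 3) (Fin 3) k)
    (u : Fin 3 → K) (hu : ∀ i, ∑ j, algebraMap k K (A i j) * u j = ![(1 : K), x, y] i)
    (hu0 : u 0 ≠ 0) :
    MvPolynomial.aeval ![(1 : K), u 1 / u 0, u 2 / u 0]
        (MvPolynomial.aeval (fun i : Fin 3 => ∑ j, MvPolynomial.C (A i j) * MvPolynomial.X j) f) = 0 := by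
  have h1 : MvPolynomial.aeval ![(1 : K), u 1 / u 0, u 2 / u 0]
        (MvPolynomial.aeval (fun i : Fin 3 => ∑ j, MvPolynomial.C (A i j) * MvPolynomial.X j) f) =
        (u 0)⁻¹ ^ e * MvPolynomial.aeval ![(1 : K), x, y] f := by
    rw [← MvPolyDer.aeval_smul_of_isHomogeneous (u 0)⁻¹ ![(1 : K), x, y] hf, ← AlgHom.comp_apply]
    refine congrFun (congrArg DFunLike.coe ?_) _
    apply MvPolynomial.algHom_ext
    intro l
    rw [AlgHom.comp_apply, MvPolynomial.aeval_X, MvPolynomial.aeval_X, ← hu l, map_sum, Finset.mul_sum]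
    refine Finset.sum_congr rfl fun j _ => ?_
    rw [map_mul, MvPolynomial.aeval_X, MvPolynomial.aeval_C]
    fin_cases j
    · simp; field_simp
    · simp; ring
    · simp; ring
  rw [h1, hfxy, mul_zero]

theorem isHomogeneous_change (f : MvPolynomial (Fin 3) k) (e : ℕ) (hf : f.IsHomogeneous e)
    (A : Matrix (Fin 3) (Fin 3) k) :
    (MvPolynomial.aeval (fun i : Fin 3 => ∑ j, MvPolynomial.C (A i j) * MvPolynomial.X j) f :
      MvPolynomial (Fin 3) k).IsHomogeneous e := by
  have h := hf.aeval (fun i : Fin 3 => ∑ j, MvPolynomial.C (A i j) * MvPolynomial.X j) (n := 1)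
    (fun i => MvPolynomial.IsHomogeneous.sum _ _ _ fun j _ => by
      have := (MvPolynomial.isHomogeneous_C (Fin 3) (A i j)).mul (MvPolynomial.isHomogeneous_X k j)
      rwa [zero_add] at this)
  rwa [one_mul] at h

end Gen

variable {k K : Type*} [Field k] [IsAlgClosed k] [Field K] [Algebra k K]

/-- A relation of the right degree is a constant multiple of the minimal polynomial. -/
theorem exists_const_mul {x y : K} (hx : IsGen k K x) (hy : IsIntegral (Algebra.adjoin k {x}) y)
    (hxy : IntermediateField.adjoin k {x, y} = ⊤) {G : MvPolynomial (Fin 3) k} {e : ℕ}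
    (hG : G.IsHomogeneous e) (hG0 : MvPolynomial.aeval ![(1 : K), x, y] G = 0)
    (hG2 : MvPolynomial.aeval ![(1 : K), x, y] (MvPolynomial.pderiv 2 G) ≠ 0)
    (he : Module.finrank (IntermediateField.adjoin k {x}) K = e) :
    ∃ c : k, c ≠ 0 ∧ MvPolynomial.aeval ![(1 : K), x, y] (MvPolynomial.pderiv 2 G) =
      algebraMap k K c * aeval y (derivative (minpoly (Algebra.adjoin k {x}) y)) := by
  have hfin := hx.fin
  have hprin : IsPrincipalIdealRing (Algebra.adjoin k {x}) := K660.Ded.isPrincipalIdealRing_adjoin hx.tr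
  set x' : Algebra.adjoin k {x} := ⟨x, Algebra.self_mem_adjoin_singleton k x⟩ with hx'
  set P := Spec.spec x' G with hP
  set g := minpoly (Algebra.adjoin k {x}) y with hg
  have hmonic : g.Monic := minpoly.monic hy
  have hP0 : aeval y P = 0 := by
    rw [hP, Spec.aeval_spec]; exact hG0
  have hPd : aeval y (derivative P) = MvPolynomial.aeval ![(1 : K), x, y] (MvPolynomial.pderiv 2 G) := by
    rw [hP, Spec.derivative_spec, Spec.aeval_spec]; rfl
  have hPne : P ≠ 0 := by
    intro h
    apply hG2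
    rw [← hPd, h, derivative_zero, map_zero]
  obtain ⟨q, hq⟩ := minpoly.isIntegrallyClosed_dvd hy hP0
  rw [← hg] at hq
  have hqne : q ≠ 0 := by
    rintro rfl
    exact hPne (by rw [hq, mul_zero])
  have hdegg : g.natDegree = e := by
    have h1 : (minpoly (IntermediateField.adjoin k {x}) y).natDegree = e := by
      rw [← he]
      apply (Field.primitive_element_iff_minpoly_natDegree_eq (IntermediateField.adjoin k {x}) y).1
      have h2 := AdjFin.algebra_adjoin_eq_top hx hxy
      rw [eq_top_iff]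
      intro z _
      have h3 : z ∈ Algebra.adjoin (IntermediateField.adjoin k {x}) {y} := by rw [h2]; trivial
      exact IntermediateField.algebra_adjoin_le_adjoin _ _ h3
    rw [← h1]
    open scoped IntermediateField.algebraAdjoinAdjoin in
    rw [minpoly.isIntegrallyClosed_eq_field_fractions' (IntermediateField.adjoin k {x}) hy]
    exact (hmonic.natDegree_map _).symm
  obtain ⟨hdegP, c, hc⟩ := Spec.natDegree_and_coeff x' hG
  rw [← hP] at hdegP hc
  have hdegq : q.natDegree = 0 := by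
    have h1 : P.natDegree = g.natDegree + q.natDegree := by
      rw [hq, hmonic.natDegree_mul' hqne]
    omega
  obtain ⟨q0, hq0⟩ := natDegree_eq_zero.1 hdegq
  rw [← hq0] at hq
  have hq0c : q0 = algebraMap k (Algebra.adjoin k {x}) c := by
    rw [← hc, hq, coeff_mul_C, ← hdegg]
    rw [show g.coeff g.natDegree = 1 from hmonic, one_mul]
  refine ⟨c, ?_, ?_⟩
  · rintro rfl
    apply hqne
    rw [← hq0, hq0c, map_zero, C_0]
  · rw [← hPd, hq, derivative_mul, derivative_C, mul_zero, add_zero, map_mul, aeval_C, hq0c, mul_comm]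
    rfl

/-- The divisor of the map in good position. -/
theorem mapDiv_eq_zdiv (hK : IsFunctionField k K) {x y : K}
    (h : ∀ P : Place k K, P.1 y ≤ max 1 (P.1 x)) :
    mapDiv k ![(1 : K), x, y] = K659.DegZeros.zdiv k x⁻¹ := by
  have g1 : MapDiv.Good (![(1 : K), x, y]) := Or.inr ⟨0, rfl⟩
  ext P
  apply MapDiv.eq_of_forall_le_iff_int
  intro m
  rw [MapDiv.mapDiv_le_iff' hK g1, K659.DegZeros.zdiv_apply hK, K660.Ord.ord_inv, max_le_iff]
  constructor
  · intro h1
    have h2 : P.1 x ≤ exp m := h1 1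
    have h3 : P.1 (1 : K) ≤ exp m := h1 0
    rw [map_one, ← exp_zero, exp_le_exp] at h3
    refine ⟨?_, h3⟩
    rcases eq_or_ne x 0 with rfl | hx0
    · rw [K660.Ord.ord_zero]; omega
    · rw [K660.Ord.val_eq_exp P hx0, exp_le_exp] at h2; exact h2
  · rintro ⟨h2, h3⟩
    have hx1 : P.1 x ≤ exp m := by
      rcases eq_or_ne x 0 with rfl | hx0
      · simp
      · rw [K660.Ord.val_eq_exp P hx0, exp_le_exp]; exact h2
    have h1' : (1 : WithZero (Multiplicative ℤ)) ≤ exp m := by rw [← exp_zero, exp_le_exp]; exact h3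
    intro i
    fin_cases i
    · show P.1 (1 : K) ≤ exp m
      rw [map_one]; exact h1'
    · exact hx1
    · exact (h P).trans (max_le h1' hx1)

/-- The divisor of the map under a change of coordinates. -/
theorem mapDiv_change (hK : IsFunctionField k K) {x y : K} {A : Matrix (Fin 3) (Fin 3) k}
    (hA : A.det ≠ 0) {u : Fin 3 → K}
    (hu : ∀ i, ∑ j, algebraMap k K (A i j) * u j = ![(1 : K), x, y] i) (hu0 : u 0 ≠ 0) :
    mapDiv k ![(1 : K), u 1 / u 0, u 2 / u 0] = mapDiv k ![(1 : K), x, y] + div k (u 0) := by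
  have g1 : MapDiv.Good (![(1 : K), x, y]) := Or.inr ⟨0, rfl⟩
  have g2 : MapDiv.Good (![(1 : K), u 1 / u 0, u 2 / u 0]) := Or.inr ⟨0, rfl⟩
  have h1 : Submodule.span k (Set.range ![(1 : K), x, y]) = Submodule.span k (Set.range u) :=
    MapDiv.span_eq_of_matrix A hA (fun i => by
      rw [← hu i]
      exact Finset.sum_congr rfl fun j _ => (Algebra.smul_def _ _).symm)
  have h2 : ![(1 : K), u 1 / u 0, u 2 / u 0] = LinearMap.mulLeft k (u 0)⁻¹ ∘ u := by
    funext i
    fin_cases i
    · simp [hu0]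
    · simp [div_eq_inv_mul]
    · simp [div_eq_inv_mul]
  have h3 := AdjointChange.mapDiv_of_span_eq_map (k := k) hK g1 g2 (inv_ne_zero hu0) (by
    rw [h1, h2, Set.range_comp, Submodule.map_span])
  rw [h3, MapDiv.div_inv hK, sub_neg_eq_add]

theorem div_u_mem {S : Type*} [SetLike S K] [SubringClass S K] (T : S) {u : Fin 3 → K} (hu0 : u 0 ≠ 0)
    (h1 : u 1 / u 0 ∈ T) (h2 : u 2 / u 0 ∈ T) (l : Fin 3) : u l / u 0 ∈ T := by
  fin_cases l
  · show u 0 / u 0 ∈ T
    rw [div_self hu0]; exact one_mem T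
  · exact h1
  · exact h2

/-- The chart algebra in the new coordinates. -/
theorem chart_eq {φ u : Fin 3 → K} {A B : Matrix (Fin 3) (Fin 3) k}
    (hu : ∀ i, ∑ j, algebraMap k K (A i j) * u j = φ i)
    (hB : ∀ i, u i = ∑ l, algebraMap k K (B i l) * φ l) {j : Fin 3} (hj : u 0 = φ j) (hu0 : u 0 ≠ 0) :
    chart (k := k) φ j = Algebra.adjoin k {u 1 / u 0, u 2 / u 0} := by
  apply le_antisymm
  · apply Algebra.adjoin_le
    rintro _ ⟨i, rfl⟩
    have h1 : φ i / φ j = ∑ l, algebraMap k K (A i l) * (u l / u 0) := by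
      rw [← hu i, ← hj, Finset.sum_div]
      exact Finset.sum_congr rfl fun l _ => by rw [mul_div_assoc]
    show φ i / φ j ∈ Algebra.adjoin k {u 1 / u 0, u 2 / u 0}
    rw [h1]
    exact sum_mem fun l _ => mul_mem (Subalgebra.algebraMap_mem _ _)
      (div_u_mem _ hu0 (Algebra.subset_adjoin (by simp)) (Algebra.subset_adjoin (by simp)) l)
  · apply Algebra.adjoin_le
    have h1 : ∀ i, u i / u 0 ∈ chart (k := k) φ j := by
      intro i
      have h2 : u i / u 0 = ∑ l, algebraMap k K (B i l) * (φ l / φ j) := by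
        rw [hB i, hj, Finset.sum_div]
        exact Finset.sum_congr rfl fun l _ => by rw [mul_div_assoc]
      rw [h2]
      exact sum_mem fun l _ => mul_mem (Subalgebra.algebraMap_mem _ _)
        (Algebra.subset_adjoin ⟨l, rfl⟩)
    rintro z hz
    rw [Set.mem_insert_iff, Set.mem_singleton_iff] at hz
    rcases hz with rfl | rfl
    · exact h1 1
    · exact h1 2

theorem adjoin_eq_top' {x y : K} (hxy : IntermediateField.adjoin k ({x, y} : Set K) = ⊤)
    {u : Fin 3 → K} {A : Matrix (Fin 3) (Fin 3) k}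
    (hu : ∀ i, ∑ j, algebraMap k K (A i j) * u j = ![(1 : K), x, y] i) (hu0 : u 0 ≠ 0) :
    IntermediateField.adjoin k ({u 1 / u 0, u 2 / u 0} : Set K) = ⊤ := by
  set T := IntermediateField.adjoin k ({u 1 / u 0, u 2 / u 0} : Set K) with hT
  have h1 : ∀ l, u l / u 0 ∈ T := div_u_mem T hu0 (IntermediateField.subset_adjoin _ _ (by simp))
    (IntermediateField.subset_adjoin _ _ (by simp))
  have h2 : ∀ i, ![(1 : K), x, y] i / u 0 ∈ T := by
    intro i
    have h3 : ![(1 : K), x, y] i / u 0 = ∑ l, algebraMap k K (A i l) * (u l / u 0) := by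
      rw [← hu i, Finset.sum_div]
      exact Finset.sum_congr rfl fun l _ => by rw [mul_div_assoc]
    rw [h3]
    exact sum_mem fun l _ => mul_mem (T.algebraMap_mem _) (h1 l)
  have h3 : ∀ i, ![(1 : K), x, y] i ∈ T := by
    intro i
    have h4 := div_mem (h2 i) (h2 0)
    have h5 : ![(1 : K), x, y] i / u 0 / (![(1 : K), x, y] 0 / u 0) = ![(1 : K), x, y] i := by
      show ![(1 : K), x, y] i / u 0 / (1 / u 0) = _
      field_simp
    rwa [h5] at h4
  rw [eq_top_iff, ← hxy, IntermediateField.adjoin_le_iff]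
  intro z hz
  rw [Set.mem_insert_iff, Set.mem_singleton_iff] at hz
  rcases hz with rfl | rfl
  · exact h3 1
  · exact h3 2

theorem exists_family (hK : IsFunctionField k K) (Q : Place k K) (ΦQ : K →ₐ[k] LaurentSeries k)
    (hΦQ : LocRes.IsExpansionAt Q.1 ΦQ) :
    ∃ Φ : Place k K → (K →ₐ[k] LaurentSeries k),
      (∀ P : Place k K, LocRes.IsExpansionAt P.1 (Φ P)) ∧ Φ Q = ΦQ := by
  classical
  have h : ∀ P : Place k K, ∃ φ : K →ₐ[k] LaurentSeries k, LocRes.IsExpansionAt P.1 φ := by
    intro P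
    obtain ⟨t, ht⟩ := K660.Ord.exists_val_eq P (-1)
    obtain ⟨φ, hφ, -⟩ := Expansion.exists_expansion hK P t ht
    exact ⟨φ, hφ⟩
  choose Ψ hΨ using h
  refine ⟨fun P => if P = Q then ΦQ else Ψ P, fun P => ?_, if_pos rfl⟩
  by_cases hP : P = Q
  · subst hP
    simp only [if_true]
    exact hΦQ
  · simp only [if_neg hP]
    exact hΨ P

theorem main
    (k K : Type*) [Field k] [IsAlgClosed k] [Field K] [Algebra k K]
    (hK : FunFld.IsFunctionField k K) (x y : K) (hxy : IntermediateField.adjoin k ({x, y} : Set K) = ⊤)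
    (f : MvPolynomial (Fin 2) k) (hf : Irreducible f) (hfxy : MvPolynomial.aeval ![x, y] f = 0)
    (Q : FunFld.Place k K) (ΦQ : K →ₐ[k] LaurentSeries k) (hΦQ : LocRes.IsExpansionAt Q.1 ΦQ)
    (hne : LocRes.vDiff ΦQ (MvPolynomial.aeval ![x, y] (MvPolynomial.pderiv 1 f))⁻¹ x ≠ 0) :
    0 ≤ ((FunFld.mapDiv k ![(1 : K), x, y]).deg - 3) * FunFld.mapDiv k ![(1 : K), x, y] Q -
        LocRes.ordDiff ΦQ (MvPolynomial.aeval ![x, y] (MvPolynomial.pderiv 1 f))⁻¹ x ∧
    (((FunFld.mapDiv k ![(1 : K), x, y]).deg - 3) * FunFld.mapDiv k ![(1 : K), x, y] Q -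
        LocRes.ordDiff ΦQ (MvPolynomial.aeval ![x, y] (MvPolynomial.pderiv 1 f))⁻¹ x = 0 ↔
      FunFld.IsNonsingularAt ![(1 : K), x, y] Q) := by
  classical
  set fy := MvPolynomial.aeval ![x, y] (MvPolynomial.pderiv 1 f) with hfydef
  have hfy : fy ≠ 0 := by
    intro h
    apply hne
    rw [h, inv_zero, DiffCalc.vDiff_zero]
  have hDx : KaehlerDifferential.D k K x ≠ 0 := (K667.DiffOrd.D_ne_zero_of_vDiff_ne_zero hne).2
  set e := f.totalDegree with he
  set F := Homog.homog f with hFdef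
  have hF : F.IsHomogeneous e := Homog.homog_isHomogeneous f
  have hFxy : MvPolynomial.aeval ![(1 : K), x, y] F = 0 := by
    rw [hFdef, Homog.aeval_homog, hfxy]
  have hF2 : MvPolynomial.aeval ![(1 : K), x, y] (MvPolynomial.pderiv 2 F) = fy :=
    Homog.aeval_pderiv_homog x y f
  have hdeg : (mapDiv k ![(1 : K), x, y]).deg = e := K664.deg_eq_totalDegree hK hxy hf hfxy
  obtain ⟨B, A, u, j, hA, hu, huB, huj, hu0, hmin, hmin', hd, hpos⟩ :=
    AdjPos.exists_position hK x y hDx Q
  have hF20 : MvPolynomial.aeval ![(1 : K), x, y] (MvPolynomial.pderiv 2 F) ≠ 0 := by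
    rw [hF2]; exact hfy
  have hfy' := pderiv_two_ne_zero F e hF x y hFxy A hA u hu hu0 hF20 hd
  obtain ⟨Φ, hΦ, hΦQ'⟩ := exists_family hK Q ΦQ hΦQ
  have hadj := AdjointChange.main k K hK F e hF x y hFxy hDx hdeg A hA u hu hu0 hF20 hfy' Φ hΦ
  have hadjQ := DFunLike.congr_fun hadj Q
  rw [Finsupp.sub_apply, Finsupp.sub_apply, Finsupp.smul_apply, Finsupp.smul_apply, smul_eq_mul,
    smul_eq_mul, hF2] at hadjQ
  set F' : MvPolynomial (Fin 3) k :=
    MvPolynomial.aeval (fun i : Fin 3 => ∑ j, MvPolynomial.C (A i j) * MvPolynomial.X j) F with hF'def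
  have hF' : F'.IsHomogeneous e := isHomogeneous_change F e hF A
  have hF'0 := aeval_change F e hF x y hFxy A u hu hu0
  rw [← hF'def] at hF'0
  set g := MvPolynomial.aeval ![(1 : K), u 1 / u 0, u 2 / u 0] (MvPolynomial.pderiv 2 F') with hgdef
  -- the new coordinates
  set x' := u 1 / u 0 with hx'def
  set y' := u 2 / u 0 with hy'def
  have htr : Transcendental k x' := by
    refine transcendental_of_notMem hK ?_
    rintro ⟨c, hc⟩
    rw [← hc] at hd
    exact hd (Derivation.map_algebraMap _ c)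
  have hgen : IsGen k K x' := isGen_of_transcendental hK htr
  have hsep : Algebra.IsSeparable (IntermediateField.adjoin k ({x'} : Set K)) K := by
    obtain ⟨δ, hδ, -⟩ := FinDiff.exists_der (DivDiff.finrank_kaehler hK) hd
    exact K668.Hasse.isSeparable_of_derivation hK δ x' (by rw [hδ]; exact one_ne_zero)
  have hymax : ∀ P : Place k K, P.1 y' ≤ max 1 (P.1 x') := by
    intro P
    have h1 : P.1 (u 0) ≠ 0 := (Valuation.ne_zero_iff _).2 hu0
    have h2 := hpos P
    rw [hy'def, hx'def, map_div₀, map_div₀]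
    rcases le_max_iff.1 h2 with h3 | h3
    · exact (div_le_one_of_le₀ h3 zero_le).trans (le_max_left _ _)
    · refine le_trans ?_ (le_max_right _ _)
      exact div_le_div_of_nonneg_right h3 zero_le
  have hyint : IsIntegral (Algebra.adjoin k ({x'} : Set K)) y' := by
    apply K665.FiniteIC.isIntegral_of_forall_le hK
    intro P hP
    exact (hymax P).trans (max_le le_rfl (hP x' (Algebra.self_mem_adjoin_singleton k x')))
  have htop : IntermediateField.adjoin k ({x', y'} : Set K) = ⊤ := adjoin_eq_top' hxy hu hu0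
  have hQx : Q.1 x' ≤ 1 := by
    rw [hx'def, map_div₀]
    exact div_le_one_of_le₀ (hmin' 1) zero_le
  have hQy : Q.1 y' ≤ 1 := by
    rw [hy'def, map_div₀]
    exact div_le_one_of_le₀ (hmin' 2) zero_le
  -- the degree
  have hmapdiv : (mapDiv k ![(1 : K), x', y']).deg = e := by
    rw [hx'def, hy'def, mapDiv_change hK hA hu hu0, K660.Compare.deg_add, K660.Compare.deg_div hK,
      add_zero, hdeg]
  have hfinrank : Module.finrank (IntermediateField.adjoin k ({x'} : Set K)) K = e := by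
    have h1 := K660.Rational.deg_poles hK htr
    rw [← mapDiv_eq_zdiv hK hymax, hmapdiv] at h1
    exact_mod_cast h1.symm
  obtain ⟨c, hc0, hc⟩ := exists_const_mul hgen hyint htop hF' hF'0 hfy' hfinrank
  obtain ⟨hdy0, hnn, hiff⟩ := AdjFin.main hK hgen hsep hd hyint htop hQx ΦQ hΦQ
  set dy := aeval y' (derivative (minpoly (Algebra.adjoin k ({x'} : Set K)) y')) with hdydef
  have hzero : mapDiv k ![(1 : K), x', y'] Q = 0 := by
    rw [mapDiv_eq_zdiv hK hymax, K659.DegZeros.zdiv_apply hK, K660.Ord.ord_inv, max_eq_right]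
    rcases eq_or_ne x' 0 with h | h
    · rw [h, K660.Ord.ord_zero]; omega
    · rw [K660.Ord.val_eq_exp Q h, ← exp_zero, exp_le_exp] at hQx
      exact hQx
  have hgord : Q.ord g = Q.ord dy := by
    rw [hgdef, hc, K660.Ord.ord_mul Q (by
      rw [Ne, FaithfulSMul.algebraMap_eq_zero_iff]; exact hc0) hdy0, K660.Ord.ord_algebraMap, zero_add]
  have hL : divDiff Φ fy⁻¹ x Q = LocRes.ordDiff ΦQ fy⁻¹ x := by
    rw [DivDiff.divDiff_apply hK Φ hΦ (inv_ne_zero hfy) hDx, hΦQ']
  have hR : divDiff Φ g⁻¹ x' Q = -Q.ord dy + LocRes.ordDiff ΦQ 1 x' := by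
    have h1 := DiffCalc.ordDiff_mul (DivDiff.finrank_kaehler hK) Q ΦQ hΦQ (inv_ne_zero hfy')
      one_ne_zero hd
    rw [mul_one] at h1
    rw [DivDiff.divDiff_apply hK Φ hΦ (inv_ne_zero hfy') hd, hΦQ', h1, K660.Ord.ord_inv, hgord]
  rw [hL, hR, hzero, mul_zero, zero_sub] at hadjQ
  have hfinal : ((mapDiv k ![(1 : K), x, y]).deg - 3) * mapDiv k ![(1 : K), x, y] Q -
      LocRes.ordDiff ΦQ fy⁻¹ x = Q.ord dy - LocRes.ordDiff ΦQ 1 x' := by
    rw [hadjQ]; ring
  rw [hfinal]
  refine ⟨hnn, hiff.trans ?_⟩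
  have hφj : ![(1 : K), x, y] j ≠ 0 := by rw [← huj]; exact hu0
  rw [isNonsingularAt_iff _ Q hφj (by rw [← huj]; exact hmin), chart_eq hu huB huj hu0]

end K669.AdjMain
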