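import Groth.Agent.FunFld.K663.AlgC
import Groth.Agent.FunFld.K669.Adapted
import Groth.Agent.FunFld.K669.MapDiv

/-! Canonical orders at a place and gap numbers. -/

set_option autoImplicit false

namespace K669.CanGap

open FunFld WithZero K660.Compare K660.Weil

section General

variable {k K : Type*} [Field k] [Field K] [Algebra k K]

theorem mem_L_iff' {D : Divisor k K} {x : K} : x ∈ L D ↔ ∀ P : Place k K, P.1 x ≤ exp (D P) := Iff.rfl

/-- Multiplication by `y` maps `L(D)` onto `L(D - (y))`. -/
theorem mul_mem_L_iff (hK : IsFunctionField k K) {D : Divisor k K} {x y : K} (hy : y ≠ 0) :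
    y * x ∈ L (D - div k y) ↔ x ∈ L D := by
  rw [mem_L_iff', mem_L_iff']
  refine forall_congr' fun P => ?_
  rw [Finsupp.sub_apply, MapDiv.div_apply hK, map_mul, K660.Ord.val_eq_exp P hy, sub_eq_add_neg,
    add_comm (D P), exp_add]
  exact mul_le_mul_iff_right₀ exp_pos

theorem span_smul_eq (hK : IsFunctionField k K) {D : Divisor k K} {y : K} (hy : y ≠ 0) {n : ℕ}
    {φ : Fin (n + 1) → K} (hspan : Submodule.span k (Set.range φ) = L D) :
    Submodule.span k (Set.range (y • φ)) = L (D - div k y) := by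
  have h1 : Set.range (y • φ) = (LinearMap.mulLeft k y) '' Set.range φ := by
    rw [← Set.range_comp]
    rfl
  rw [h1, ← Submodule.map_span, hspan]
  ext x
  rw [Submodule.mem_map]
  constructor
  · rintro ⟨z, hz, rfl⟩
    exact (mul_mem_L_iff hK hy).2 hz
  · intro hx
    refine ⟨y⁻¹ * x, (mul_mem_L_iff hK hy).1 ?_, ?_⟩
    · rwa [mul_inv_cancel_left₀ hy]
    · rw [LinearMap.mulLeft_apply, mul_inv_cancel_left₀ hy]

theorem mem_L_sub_single {D : Divisor k K} {P : Place k K} {j : ℤ} (hj : 0 ≤ j) {x : K} :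
    x ∈ L (D - Finsupp.single P j) ↔ x ∈ L D ∧ P.1 x ≤ exp (D P - j) := by
  classical
  rw [mem_L_iff', mem_L_iff']
  constructor
  · intro h
    refine ⟨fun Q => ?_, ?_⟩
    · refine (h Q).trans (exp_le_exp.2 ?_)
      rw [Finsupp.sub_apply, Finsupp.single_apply]
      split_ifs <;> omega
    · have := h P
      rwa [Finsupp.sub_apply, Finsupp.single_eq_same] at this
  · rintro ⟨h1, h2⟩ Q
    rw [Finsupp.sub_apply, Finsupp.single_apply]
    split_ifs with h
    · rwa [← h]
    · rw [sub_zero]; exact h1 Q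

end General

variable {k K : Type*} [Field k] [IsAlgClosed k] [Field K] [Algebra k K]

/-- Base point freeness of the canonical system. -/
theorem exists_val_eq_exp (hK : IsFunctionField k K) (hg : 0 < genus k K) {C : Divisor k K}
    (hC : IsCanonical k K C) (P : Place k K) : ∃ f ∈ L C, P.1 f = exp (C P) := by
  have h1 := K663.AlgC.ell_sub_single_lt hK hg C (Or.inr hC) P
  by_contra hcon
  push Not at hcon
  have h2 : L (C - Finsupp.single P 1) = L C := by
    apply le_antisymm
    · intro x hx
      exact ((mem_L_sub_single (by norm_num)).1 hx).1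
    · intro x hx
      refine (mem_L_sub_single (by norm_num)).2 ⟨hx, ?_⟩
      have h3 : P.1 x < exp (C P) := lt_of_le_of_ne (hx P) (hcon x hx)
      rcases eq_or_ne x 0 with rfl | hx0
      · simp
      · rw [K660.Ord.val_eq_exp P hx0, exp_lt_exp] at h3
        rw [K660.Ord.val_eq_exp P hx0, exp_le_exp]
        omega
  unfold ell at h1
  rw [h2] at h1
  exact lt_irrefl _ h1

theorem genus_pos (hK : IsFunctionField k K) {C : Divisor k K} (hC : IsCanonical k K C)
    {n : ℕ} {φ : Fin (n + 1) → K} (hφ : LinearIndependent k φ)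
    (hspan : Submodule.span k (Set.range φ) = L C) : genus k K = n + 1 := by
  have h1 := (deg_ell_of_isCanonical hK hC).1
  rw [← h1]
  unfold ell
  rw [← hspan, finrank_span_eq_card hφ, Fintype.card_fin]

/-- Some function of the canonical system, normalized at `P`, has order `j` at `P` iff `j + 1` is a
gap number. -/
theorem exists_order_iff (hK : IsFunctionField k K) (hg : 0 < genus k K) {C : Divisor k K}
    (hC : IsCanonical k K C) (P : Place k K) (hCP : C P = 0) (j : ℕ) :
    (∃ f ∈ L C, P.1 f = exp (-(j : ℤ))) ↔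
      L (Finsupp.single P ((j : ℤ) + 1)) = L (Finsupp.single P (j : ℤ)) := by
  have hdeg : ∀ m : ℤ, Divisor.deg (Finsupp.single P m : Divisor k K) = m := fun m => by
    rw [K663.AlgC.deg_single, K663.AlgC.place_deg_one hK]; norm_num
  have r1 := riemann_roch hK hC (Finsupp.single P (j : ℤ))
  have r2 := riemann_roch hK hC (Finsupp.single P ((j : ℤ) + 1))
  rw [hdeg] at r1 r2
  have hfin1 := finite_L hK (Finsupp.single P ((j : ℤ) + 1))
  have hfin2 := finite_L hK (C - Finsupp.single P (j : ℤ))
  have hle1 : L (Finsupp.single P (j : ℤ)) ≤ L (Finsupp.single P ((j : ℤ) + 1)) :=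
    L_mono (Finsupp.single_le_single.2 (by omega))
  have hle2 : L (C - Finsupp.single P ((j : ℤ) + 1)) ≤ L (C - Finsupp.single P (j : ℤ)) :=
    L_mono (sub_le_sub_left (Finsupp.single_le_single.2 (by omega)) C)
  have hl1 : ell (Finsupp.single P (j : ℤ)) ≤ ell (Finsupp.single P ((j : ℤ) + 1)) :=
    Submodule.finrank_mono hle1
  have hl2 : ell (C - Finsupp.single P ((j : ℤ) + 1)) ≤ ell (C - Finsupp.single P (j : ℤ)) :=
    Submodule.finrank_mono hle2
  have e1 : L (Finsupp.single P ((j : ℤ) + 1)) = L (Finsupp.single P (j : ℤ)) ↔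
      ell (Finsupp.single P ((j : ℤ) + 1)) = ell (Finsupp.single P (j : ℤ)) := by
    constructor
    · intro h; unfold ell; rw [h]
    · intro h; exact (Submodule.eq_of_le_of_finrank_eq hle1 h.symm).symm
  have e2 : (∃ f ∈ L C, P.1 f = exp (-(j : ℤ))) ↔
      ell (C - Finsupp.single P ((j : ℤ) + 1)) ≠ ell (C - Finsupp.single P (j : ℤ)) := by
    constructor
    · rintro ⟨f, hf, hfj⟩ h
      have h3 := Submodule.eq_of_le_of_finrank_eq hle2 h
      have h4 : f ∈ L (C - Finsupp.single P (j : ℤ)) := by
        rw [mem_L_sub_single (by omega)]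
        exact ⟨hf, by rw [hfj, hCP, zero_sub]⟩
      rw [← h3, mem_L_sub_single (by omega)] at h4
      have h5 := h4.2
      rw [hfj, hCP, exp_le_exp] at h5
      omega
    · intro h
      by_contra hcon
      push Not at hcon
      apply h
      have h3 : L (C - Finsupp.single P ((j : ℤ) + 1)) = L (C - Finsupp.single P (j : ℤ)) := by
        apply le_antisymm hle2
        intro x hx
        rw [mem_L_sub_single (by omega)] at hx ⊢
        obtain ⟨hx1, hx2⟩ := hx
        refine ⟨hx1, ?_⟩
        rcases eq_or_ne x 0 with rfl | hx0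
        · simp
        have h6 := hcon x hx1
        rw [hCP, zero_sub] at hx2
        have h7 := lt_of_le_of_ne hx2 h6
        rw [K660.Ord.val_eq_exp P hx0, exp_lt_exp] at h7
        rw [K660.Ord.val_eq_exp P hx0, exp_le_exp, hCP]
        omega
      unfold ell
      rw [h3]
  rw [e1, e2]
  omega

/-- The divisor of the normalized canonical system vanishes at `P`. -/
theorem coeff_eq_zero (hK : IsFunctionField k K) (hg : 0 < genus k K) {C : Divisor k K}
    (hC : IsCanonical k K C) (P : Place k K) (h1 : (1 : K) ∈ L C) (hint : ∀ f ∈ L C, P.1 f ≤ 1) :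
    C P = 0 := by
  obtain ⟨f, hf, hfv⟩ := exists_val_eq_exp hK hg hC P
  have h2 := hint f hf
  have h3 : P.1 (1 : K) ≤ exp (C P) := h1 P
  rw [map_one, ← exp_zero, exp_le_exp] at h3
  rw [hfv, ← exp_zero, exp_le_exp] at h2
  omega

theorem main (hK : IsFunctionField k K) (C : Divisor k K) (hC : IsCanonical k K C)
    {n : ℕ} (φ : Fin (n + 1) → K) (hφ : LinearIndependent k φ)
    (hspan : Submodule.span k (Set.range φ) = L C)
    (P : Place k K) (y : K) (hy : y ≠ 0)
    (heff : (1 : K) ∈ Submodule.span k (Set.range (y • φ))) (hnorm : ∀ i, P.1 (y * φ i) ≤ 1)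
    (t : K) (ht : P.1 t = exp (-1))
    (Ht : K →ₐ[k] PowerSeries K) (hHt : LocRes.IsHasseFamily t Ht) (j : ℕ) (hj : 1 ≤ j) :
    IsJump (IsLocalRing.ResidueField P.O) (hcolAt P Ht (y • φ)) (j + 1) ↔
      L (Finsupp.single P ((j : ℤ) + 1)) = L (Finsupp.single P (j : ℤ)) := by
  have hg : 0 < genus k K := by rw [genus_pos hK hC hφ hspan]; omega
  have hnorm' : ∀ i, P.1 ((y • φ) i) ≤ 1 := hnorm
  have hC' : IsCanonical k K (C - div k y) := by
    have h := isCanonical_add_div hK hC (inv_ne_zero hy)
    rwa [MapDiv.div_inv hK, ← sub_eq_add_neg] at h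
  have hspan' := span_smul_eq hK hy hspan
  have hint : ∀ f ∈ L (C - div k y), P.1 f ≤ 1 := by
    intro f hf
    rw [← hspan'] at hf
    induction hf using Submodule.span_induction with
    | mem x hx =>
      obtain ⟨i, rfl⟩ := hx
      exact hnorm' i
    | zero => simp
    | add x z _ _ h1 h2 => exact (P.1.map_add _ _).trans (max_le h1 h2)
    | smul c x _ h1 =>
      rw [Algebra.smul_def, map_mul]
      exact mul_le_one' (P.2.1 c) h1
  rw [Adapted.isJump_iff hK P (y • φ) hnorm' ht Ht hHt hj, hspan']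
  have h1 : (1 : K) ∈ L (C - div k y) := by rw [← hspan']; exact heff
  exact exists_order_iff hK hg hC' P (coeff_eq_zero hK hg hC' P h1 hint) j

end K669.CanGap
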