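import Groth.Agent.FunFld.K669.DivDx
import Groth.Agent.FunFld.K669.MapDiv

/-! Canonical divisors of differentials; regular differentials. -/

set_option autoImplicit false

namespace K669.DivDx

open FunFld WithZero

universe u v w

variable {k : Type u} {K : Type v} [Field k] [Field K] [Algebra k K]
  {F : Place k K → Type w} [∀ P, Field (F P)] [∀ P, Algebra k (F P)]
  {φ : ∀ P : Place k K, K →ₐ[k] LaurentSeries (F P)} [∀ P, FiniteDimensional k (F P)]

/-- The divisor of `u dv`. -/
noncomputable def divD (hK : IsFunctionField k K)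
    (hΩ : Module.finrank K (KaehlerDifferential k K) = 1)
    (hφ : ∀ P : Place k K, LocRes.IsExpansionAt P.1 (φ P)) {u v : K} (hu : u ≠ 0)
    (hv : KaehlerDifferential.D k K v ≠ 0) : Divisor k K :=
  Finsupp.ofSupportFinite _ (FinDiff.finite_support_ordDiff hK hΩ φ hφ hu hv)

theorem isCanonical_divD (hK : IsFunctionField k K)
    (hΩ : Module.finrank K (KaehlerDifferential k K) = 1)
    (hφ : ∀ P : Place k K, LocRes.IsExpansionAt P.1 (φ P)) {u v : K} (hu : u ≠ 0)
    (hv : KaehlerDifferential.D k K v ≠ 0)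
    (hres : ∀ x : K, ∑ᶠ P, LocRes.locRes (φ P) x v = 0) {C : Divisor k K}
    (hC : ∀ P, C P = LocRes.ordDiff (φ P) u v) : IsCanonical k K C := by
  obtain ⟨ω, -, -, h0, -, h⟩ := main hK hΩ hφ hu hv hres
  exact ⟨ω, h0, h C hC⟩

/-- Regular differentials. -/
theorem finrank_regular (hK : IsFunctionField k K)
    (hΩ : Module.finrank K (KaehlerDifferential k K) = 1)
    (hφ : ∀ P : Place k K, LocRes.IsExpansionAt P.1 (φ P)) {x : K}
    (hx : KaehlerDifferential.D k K x ≠ 0)
    (hres : ∀ z : K, ∑ᶠ P, LocRes.locRes (φ P) z x = 0) :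
    Module.finrank k (Submodule.span k {y : K | ∀ P, LocRes.vDiff (φ P) y x ≤ 1}) =
      genus k K := by
  set C := divD hK hΩ hφ one_ne_zero hx with hC
  have hCP : ∀ P, C P = LocRes.ordDiff (φ P) 1 x := fun P => rfl
  have hcan := isCanonical_divD hK hΩ hφ one_ne_zero hx hres hCP
  rw [← (K660.Weil.deg_ell_of_isCanonical hK hcan).1]
  unfold ell
  have h1 : {y : K | ∀ P, LocRes.vDiff (φ P) y x ≤ 1} = (L C : Set K) := by
    ext y
    show (∀ P, LocRes.vDiff (φ P) y x ≤ 1) ↔ ∀ P, P.1 y ≤ exp (C P)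
    refine forall_congr' fun P => ?_
    rw [hCP P, show y = y * 1 by rw [mul_one], DiffCalc.vDiff_mul (φ P) (hφ P), mul_one,
      vDiff_eq_exp hΩ hφ one_ne_zero hx P, exp_neg, ← div_eq_mul_inv, div_le_iff₀ exp_pos, one_mul]
  rw [h1, Submodule.span_eq]

end K669.DivDx
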