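import Groth.Agent.FunFld.K669.DivDx2
import Groth.Agent.FunFld.K662.Conorm
import Groth.Agent.FunFld.K661.GeomFF
import Groth.Agent.FunFld.K667.ResField

/-! Places over a finite extension of the constant field, and the Riemann-Hurwitz formula. -/

set_option autoImplicit false

namespace K669.Hurwitz

open FunFld WithZero K660.Places

universe u v w

section Base

variable {k k' K' : Type*} [Field k] [Field k'] [Field K'] [Algebra k k'] [Algebra k' K']
  [Algebra k K'] [IsScalarTower k k' K']

/-- A place over `k'` as a place over `k`. -/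
def toBase (Q : Place k' K') : Place k K' :=
  ⟨Q.1, fun c => by rw [IsScalarTower.algebraMap_apply k k' K']; exact Q.2.1 _, Q.2.2⟩

@[simp] theorem toBase_val (Q : Place k' K') : (toBase (k := k) Q).1 = Q.1 := rfl

/-- A place over `k` as a place over `k'`. -/
def ofBase [Algebra.IsAlgebraic k k'] (Q : Place k K') : Place k' K' :=
  ⟨Q.1, fun c => K660.Places.val_le_one_of_isIntegral (R := k) Q (fun c => Q.2.1 c)
    ((Algebra.IsIntegral.isIntegral (R := k) c).map (IsScalarTower.toAlgHom k k' K')), Q.2.2⟩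

/-- Places of `K'` over `k'` are places over `k`. -/
def equivBase [Algebra.IsAlgebraic k k'] : Place k' K' ≃ Place k K' where
  toFun := toBase
  invFun := ofBase
  left_inv _ := rfl
  right_inv _ := rfl

@[simp] theorem equivBase_val [Algebra.IsAlgebraic k k'] (Q : Place k' K') :
    (equivBase (k := k) Q).1 = Q.1 := rfl

theorem deg_toBase (Q : Place k' K') :
    (toBase (k := k) Q).deg = Module.finrank k k' * Q.deg := by
  let i1 : Algebra k (IsLocalRing.ResidueField Q.O) := Place.algRes (toBase (k := k) Q)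
  have i2 : @IsScalarTower k k' (IsLocalRing.ResidueField Q.O) _ _ i1.toSMul := by
    refine IsScalarTower.of_algebraMap_eq fun c => ?_
    show IsLocalRing.residue Q.O (algebraMap k (toBase (k := k) Q).O c) =
      IsLocalRing.residue Q.O (algebraMap k' Q.O (algebraMap k k' c))
    congr 1
    ext
    exact IsScalarTower.algebraMap_apply k k' K' c
  exact (@Module.finrank_mul_finrank k k' (IsLocalRing.ResidueField Q.O) _ _ _ _ _ i1.toModule
    i2 _ _).symm

end Base

theorem deg_eq_finsum {k K : Type*} [Field k] [Field K] [Algebra k K] (D : Divisor k K) :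
    D.deg = ∑ᶠ P, D P * (P.deg : ℤ) := by
  rw [Divisor.deg, Finsupp.sum, finsum_eq_sum_of_support_subset]
  intro P hP
  rw [Finset.mem_coe, Finsupp.mem_support_iff]
  intro h
  exact hP (by simp [h])

section Main

variable {k k' : Type u} {K K' : Type v} [Field k] [Field k'] [Field K] [Field K']
    [Algebra k k'] [Algebra k K] [Algebra K K'] [Algebra k' K'] [Algebra k K']
    [IsScalarTower k k' K'] [IsScalarTower k K K'] [FiniteDimensional k k'] [FiniteDimensional K K']
    [Algebra.IsSeparable K K']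

theorem finrank_kaehler (hK : FunFld.IsFunctionField k K) (hg : FunFld.IsGeometric k K) :
    Module.finrank K' (KaehlerDifferential k' K') = 1 := by
  obtain ⟨t, ht, hsep⟩ := K660.Sep.exists_isSeparable hK hg
  have h1 : IsGen k K' (algebraMap K K' t) := K661.OverFF.isGen_algebraMap ht
  have h2 : IsGen k' K' (algebraMap K K' t) := K661.GeomFF.isGen_base h1
  have h3 : Algebra.IsSeparable (IntermediateField.adjoin k {algebraMap K K' t}) K' :=
    K661.GeomFF.isSeparable_algebraMap
  exact K660.Sep.finrank_kaehler h2 (K661.GeomFF.isSeparable_base h3)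

theorem main (hK : FunFld.IsFunctionField k K) (hg : FunFld.IsGeometric k K)
    (hK' : FunFld.IsFunctionField k' K')
    (F : FunFld.Place k K → Type w) [∀ P, Field (F P)] [∀ P, Algebra k (F P)]
    (φ : ∀ P, K →ₐ[k] LaurentSeries (F P)) (hφ : ∀ P, LocRes.IsExpansionAt P.1 (φ P))
    (F' : FunFld.Place k' K' → Type w) [∀ Q, Field (F' Q)] [∀ Q, Algebra k' (F' Q)]
    (ψ : ∀ Q, K' →ₐ[k'] LaurentSeries (F' Q)) (hψ : ∀ Q, LocRes.IsExpansionAt Q.1 (ψ Q))
    (below : FunFld.Place k' K' → FunFld.Place k K) (e : FunFld.Place k' K' → ℕ)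
    (he : ∀ Q (z : K), Q.1 (algebraMap K K' z) = (below Q).1 z ^ e Q)
    (x : K) (hx : ∀ P, LocRes.vDiff (φ P) 1 x ≠ 0)
    (hx' : ∀ Q, LocRes.vDiff (ψ Q) 1 (algebraMap K K' x) ≠ 0)
    (hres : ∀ z : K, ∑ᶠ P, LocRes.locRes (φ P) z x = 0)
    (hres' : ∀ z : K', ∑ᶠ P, LocRes.locRes (ψ P) z (algebraMap K K' x) = 0) :
    (Function.support fun Q => LocRes.diffExp (φ (below Q)) (ψ Q) (e Q) x).Finite ∧
    (Module.finrank k k' : ℤ) * (2 * (FunFld.genus k' K' : ℤ) - 2) =
      (Module.finrank K K' : ℤ) * (2 * (FunFld.genus k K : ℤ) - 2) +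
      (Module.finrank k k' : ℤ) * ∑ᶠ Q, LocRes.diffExp (φ (below Q)) (ψ Q) (e Q) x * (Q.deg : ℤ) := by
  classical
  have hΩ : Module.finrank K (KaehlerDifferential k K) = 1 := by
    obtain ⟨t, ht, hsep⟩ := K660.Sep.exists_isSeparable hK hg
    exact K660.Sep.finrank_kaehler ht hsep
  have hΩ' : Module.finrank K' (KaehlerDifferential k' K') = 1 := finrank_kaehler hK hg
  have hf1 : ∀ P, FiniteDimensional k (F P) := fun P => Module.finite_of_finrank_pos (by
    rw [K667.ResField.finrank_eq_deg P (φ P) (hφ P)]; exact K660.Compare.place_deg_pos hK P)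
  have hf2 : ∀ Q, FiniteDimensional k' (F' Q) := fun P => Module.finite_of_finrank_pos (by
    rw [K667.ResField.finrank_eq_deg P (ψ P) (hψ P)]; exact K660.Compare.place_deg_pos hK' P)
  obtain ⟨P0⟩ := K660.Places.nonempty_place hK
  obtain ⟨Q0⟩ := K660.Places.nonempty_place hK'
  have hG := K660.Places.exists_isGen hK
  have hv : KaehlerDifferential.D k K x ≠ 0 := fun h => hx P0 (by
    rw [DiffCalc.vDiff_congr (φ P0) (u' := 1) (v' := 0) (by rw [h, map_zero]), LocRes.vDiff]
    simp)
  have hv' : KaehlerDifferential.D k' K' (algebraMap K K' x) ≠ 0 := fun h => hx' Q0 (by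
    rw [DiffCalc.vDiff_congr (ψ Q0) (u' := 1) (v' := 0) (by rw [h, map_zero]), LocRes.vDiff]
    simp)
  set D := DivDx.divD hK hΩ hφ one_ne_zero hv with hD
  set D' := DivDx.divD hK' hΩ' hψ one_ne_zero hv' with hD'
  have hDP : ∀ P, D P = LocRes.ordDiff (φ P) 1 x := fun _ => rfl
  have hDQ : ∀ Q, D' Q = LocRes.ordDiff (ψ Q) 1 (algebraMap K K' x) := fun _ => rfl
  have hcan := DivDx.isCanonical_divD hK hΩ hφ one_ne_zero hv hres hDP
  have hcan' := DivDx.isCanonical_divD hK' hΩ' hψ one_ne_zero hv' hres' hDQ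
  have hdeg := (K660.Weil.deg_ell_of_isCanonical hK hcan).2
  have hdeg' := (K660.Weil.deg_ell_of_isCanonical hK' hcan').2
  have hover : ∀ Q, IsOverWith (toBase (k := k) Q) (below Q) (e Q) := he
  have hC : ∀ Q, (conorm K' D) (toBase Q) = e Q * D (below Q) := by
    intro Q
    rw [K662.Conorm.conorm_apply hG D ⟨_, hover Q⟩, K661.Place.ramIdx_eq (hover Q)]
  have hCdeg := K662.Conorm.deg_conorm (K' := K') hG D
  -- finite supports
  have hinj : Function.Injective (toBase (k := k) (k' := k') (K' := K')) :=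
    (equivBase (k := k) (k' := k') (K' := K')).injective
  have hs2 : (Function.support fun Q : Place k' K' => (e Q : ℤ) * D (below Q)).Finite := by
    have h1 := ((conorm K' D).hasFiniteSupport.preimage (f := toBase (k := k) (k' := k'))
      hinj.injOn)
    refine h1.subset ?_
    intro Q hQ
    rw [Set.mem_preimage, Function.mem_support, hC Q]
    exact hQ
  have hdiff : ∀ Q, LocRes.diffExp (φ (below Q)) (ψ Q) (e Q) x = D' Q - e Q * D (below Q) :=
    fun Q => rfl
  have hs1 : (Function.support fun Q => D' Q).Finite := D'.hasFiniteSupport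
  have hsum : ∑ᶠ Q, LocRes.diffExp (φ (below Q)) (ψ Q) (e Q) x * (Q.deg : ℤ) =
      ∑ᶠ Q, D' Q * (Q.deg : ℤ) - ∑ᶠ Q, (e Q * D (below Q)) * (Q.deg : ℤ) := by
    rw [← finsum_sub_distrib]
    · refine finsum_congr fun Q => ?_
      rw [hdiff Q, sub_mul]
    · exact hs1.subset fun Q hQ h => hQ (by
        show D' Q * _ = 0
        rw [show D' Q = 0 from h, zero_mul])
    · exact hs2.subset fun Q hQ h => hQ (by
        show (e Q * D (below Q)) * _ = 0
        rw [show (e Q : ℤ) * D (below Q) = 0 from h, zero_mul])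
  have hsum2 : (Module.finrank k k' : ℤ) * ∑ᶠ Q : Place k' K', (e Q * D (below Q)) * (Q.deg : ℤ) =
      (conorm K' D).deg := by
    rw [deg_eq_finsum, ← finsum_comp_equiv (equivBase (k := k) (k' := k') (K' := K')),
      mul_finsum' _ _ (by
        exact hs2.subset fun Q hQ h => hQ (by
          show (e Q * D (below Q)) * _ = 0
          rw [show (e Q : ℤ) * D (below Q) = 0 from h, zero_mul]))]
    refine finsum_congr fun Q => ?_
    show _ = (conorm K' D) (toBase Q) * ((toBase (k := k) Q).deg : ℤ)
    rw [hC, deg_toBase]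
    push_cast
    ring
  constructor
  · refine (hs1.union hs2).subset ?_
    intro Q hQ
    by_contra hcon
    simp only [Set.mem_union, Function.mem_support, not_or, not_not] at hcon
    exact hQ (by show LocRes.diffExp (φ (below Q)) (ψ Q) (e Q) x = 0; rw [hdiff, hcon.1, hcon.2, sub_zero])
  · rw [hdeg] at hCdeg
    rw [hCdeg] at hsum2
    rw [← deg_eq_finsum, hdeg'] at hsum
    rw [hsum]
    linear_combination hsum2

end Main

end K669.Hurwitz
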