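import Groth.Agent.FunFld.K668.HasseIter
import Groth.Agent.FunFld.K669.Expansion
import Groth.Agent.FunFld.K668.Orders

/-! Taylor coefficients at a place and values of Hasse derivatives, over an algebraically closed field
of constants. -/

set_option autoImplicit false

namespace K669.Local

open FunFld WithZero

section General

variable {F : Type*} [Field F]

/-- Hasse derivatives preserve power series. -/
theorem val_hasseDeriv_le {f : LaurentSeries F} (hf : Valued.v f ≤ (1 : WithZero (Multiplicative ℤ)))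
    (n : ℕ) : Valued.v (LaurentSeries.hasseDeriv F n f) ≤ (1 : WithZero (Multiplicative ℤ)) := by
  have h0 : ∀ m : ℤ, m < 0 → f.coeff m = 0 := by
    have : Valued.v f ≤ (exp (-0 : ℤ) : WithZero (Multiplicative ℤ)) := by simpa using hf
    exact (LaurentSeries.valuation_le_iff_coeff_lt_eq_zero F (D := 0)).mp this
  have : Valued.v (LaurentSeries.hasseDeriv F n f) ≤ (exp (-0 : ℤ) : WithZero (Multiplicative ℤ)) := by
    rw [LaurentSeries.valuation_le_iff_coeff_lt_eq_zero F]
    intro m hm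
    rw [LaurentSeries.hasseDeriv_coeff]
    by_cases h : m + n < 0
    · rw [h0 _ h, smul_zero]
    · push Not at h
      obtain ⟨r, hr⟩ := Int.eq_ofNat_of_zero_le h
      rw [hr, Ring.choose_natCast, Nat.choose_eq_zero_of_lt (by omega)]
      simp
  simpa using this

theorem coeff_zero_hasseDeriv (f : LaurentSeries F) (n : ℕ) :
    (LaurentSeries.hasseDeriv F n f).coeff 0 = f.coeff n := by
  rw [LaurentSeries.hasseDeriv_coeff, zero_add, Ring.choose_natCast, Nat.choose_self]
  simp

end General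

variable {k K : Type*} [Field k] [Field K] [Algebra k K]

theorem evalP_eq (P : Place k K) {z : K} (hz : P.1 z ≤ 1) :
    evalP P z = IsLocalRing.residue P.O ⟨z, (Valuation.mem_valuationSubring_iff P.1 z).mpr hz⟩ := by
  rw [evalP, dif_pos hz]

theorem evalP_algebraMap (P : Place k K) (c : k) :
    evalP P (algebraMap k K c) = algebraMap k (IsLocalRing.ResidueField P.O) c := by
  rw [evalP_eq P (P.2.1 c)]
  rfl

theorem residue_eq_zero_iff' (P : Place k K) {z : K} (hz : P.1 z ≤ 1) :
    IsLocalRing.residue P.O ⟨z, (Valuation.mem_valuationSubring_iff P.1 z).mpr hz⟩ = 0 ↔ P.1 z < 1 := by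
  rw [IsLocalRing.residue_eq_zero_iff, IsLocalRing.mem_maximalIdeal, mem_nonunits_iff]
  constructor
  · intro h
    refine lt_of_le_of_ne hz fun h1 => h ?_
    have hz0 : z ≠ 0 := by
      rintro rfl
      rw [map_zero] at h1
      exact zero_ne_one h1
    have h2 : P.1 z⁻¹ ≤ 1 := by rw [map_inv₀, h1, inv_one]
    exact IsUnit.of_mul_eq_one ⟨z⁻¹, (Valuation.mem_valuationSubring_iff P.1 _).mpr h2⟩
      (Subtype.ext (mul_inv_cancel₀ hz0))
  · intro h hu
    obtain ⟨w, hw⟩ := hu.exists_right_inv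
    have h1 : P.1 (z * w) = 1 := by
      have := congrArg (fun x : P.O => P.1 (x : K)) hw
      simpa using this
    rw [map_mul] at h1
    have h2 : P.1 (w : K) ≤ 1 := (Valuation.mem_valuationSubring_iff P.1 _).mp w.2
    have h3 : P.1 z * P.1 (w : K) < 1 := mul_lt_one_of_lt_of_le h h2
    rw [h1] at h3
    exact lt_irrefl _ h3

theorem evalP_eq_zero_iff (P : Place k K) {z : K} (hz : P.1 z ≤ 1) : evalP P z = 0 ↔ P.1 z < 1 := by
  rw [evalP_eq P hz, residue_eq_zero_iff' P hz]

theorem evalP_sub (P : Place k K) {z w : K} (hz : P.1 z ≤ 1) (hw : P.1 w ≤ 1) :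
    evalP P (z - w) = evalP P z - evalP P w := by
  rw [evalP_eq P hz, evalP_eq P hw, evalP_eq P ((P.1.map_sub _ _).trans (max_le hz hw)), ← map_sub]
  rfl

theorem evalP_mul (P : Place k K) {z w : K} (hz : P.1 z ≤ 1) (hw : P.1 w ≤ 1) :
    evalP P (z * w) = evalP P z * evalP P w := by
  have h : P.1 (z * w) ≤ 1 := (map_mul P.1 z w).trans_le (mul_le_one' hz hw)
  rw [evalP_eq P hz, evalP_eq P hw, evalP_eq P h, ← map_mul]
  rfl

theorem evalP_one (P : Place k K) : evalP P (1 : K) = 1 := by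
  have := evalP_algebraMap P (1 : k)
  simpa using this

/-- The value through an expansion. -/
theorem evalP_eq_coeff {P : Place k K} {φ : K →ₐ[k] LaurentSeries k}
    (hφ : LocRes.IsExpansionAt P.1 φ) {z : K} (hz : P.1 z ≤ 1) :
    evalP P z = algebraMap k (IsLocalRing.ResidueField P.O) ((φ z).coeff 0) := by
  rw [← evalP_algebraMap, ← sub_eq_zero, ← evalP_sub P hz (P.2.1 _),
    evalP_eq_zero_iff P ((P.1.map_sub _ _).trans (max_le hz (P.2.1 _)))]
  rw [K660.Ord.lt_one_iff_le, ← hφ.1, LaurentSeries.valuation_le_iff_coeff_lt_eq_zero k]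
  intro n hn
  rw [map_sub, LocRes.map_algebraMap, HahnSeries.coeff_sub]
  rcases eq_or_ne n 0 with rfl | hn0
  · simp
  · have h1 : Valued.v (φ z) ≤ (exp (-0 : ℤ) : WithZero (Multiplicative ℤ)) := by
      rw [hφ.1]; simpa using hz
    rw [LaurentSeries.coeff_zero_of_lt_valuation k h1 (by omega)]
    simp [hn0]

/-- Through an expansion, the order is the least index of a nonzero coefficient. -/
theorem val_le_iff_coeff {P : Place k K} {φ : K →ₐ[k] LaurentSeries k}
    (hφ : LocRes.IsExpansionAt P.1 φ) {z : K} (hz : P.1 z ≤ 1) (m : ℕ) :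
    P.1 z ≤ exp (-(m : ℤ)) ↔ ∀ n : ℕ, n < m → (φ z).coeff (n : ℤ) = 0 := by
  rw [← hφ.1, LaurentSeries.valuation_le_iff_coeff_lt_eq_zero k]
  constructor
  · intro h n hn
    exact h n (by omega)
  · intro h n hn
    by_cases hn0 : n < 0
    · have h1 : Valued.v (φ z) ≤ (exp (-0 : ℤ) : WithZero (Multiplicative ℤ)) := by
        rw [hφ.1]; simpa using hz
      exact LaurentSeries.coeff_zero_of_lt_valuation k h1 hn0
    · push Not at hn0
      obtain ⟨r, rfl⟩ := Int.eq_ofNat_of_zero_le hn0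
      exact h r (by exact_mod_cast hn)

section AlgClosed

variable [IsAlgClosed k]

/-- Taylor coefficients at `P`: there is an expansion through which values of Hasse derivatives are
the coefficients. -/
theorem exists_expansion_hasse (hK : IsFunctionField k K) (P : Place k K) {t : K}
    (ht : P.1 t = exp (-1)) (Ht : K →ₐ[k] PowerSeries K) (hHt : LocRes.IsHasseFamily t Ht) :
    ∃ φ : K →ₐ[k] LaurentSeries k, LocRes.IsExpansionAt P.1 φ ∧ φ t = HahnSeries.single 1 1 ∧
      ∀ (z : K) (n : ℕ), P.1 z ≤ 1 → P.1 (LocRes.hasseD Ht n z) ≤ 1 ∧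
        evalP P (LocRes.hasseD Ht n z) =
          algebraMap k (IsLocalRing.ResidueField P.O) ((φ z).coeff n) := by
  obtain ⟨φ, hφ, hφt⟩ := Expansion.exists_expansion hK P t ht
  refine ⟨φ, hφ, hφt, fun z n hz => ?_⟩
  have hsep := K668.Hasse.isSeparable hK hHt
  have h1 : φ (LocRes.hasseD Ht n z) = LaurentSeries.hasseDeriv k n (φ z) :=
    K668.Hasse.map_hasseD hHt (φ : K →+* LaurentSeries k)
      (fun c => ⟨c, LocRes.map_algebraMap φ c⟩) ⟨0, by rw [map_zero, zero_add]; exact hφt⟩ n z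
  have h2 : P.1 (LocRes.hasseD Ht n z) ≤ 1 := by
    rw [← hφ.1, h1]
    exact val_hasseDeriv_le (by rw [hφ.1]; exact hz) n
  refine ⟨h2, ?_⟩
  rw [evalP_eq_coeff hφ h2, h1, coeff_zero_hasseDeriv]

theorem val_hasseD_le (hK : IsFunctionField k K) (P : Place k K) {t : K}
    (ht : P.1 t = exp (-1)) (Ht : K →ₐ[k] PowerSeries K) (hHt : LocRes.IsHasseFamily t Ht)
    {z : K} (hz : P.1 z ≤ 1) (n : ℕ) : P.1 (LocRes.hasseD Ht n z) ≤ 1 := by
  obtain ⟨φ, -, -, h⟩ := exists_expansion_hasse hK P ht Ht hHt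
  exact (h z n hz).1

end AlgClosed

end K669.Local
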