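import Groth.Agent.FunFld.K669.MvPolyDer
import Mathlib.Tactic.Module
import Mathlib.Tactic.LinearCombination
import Mathlib.Tactic.FieldSimp
import Mathlib.LinearAlgebra.Matrix.Determinant.Basic

/-! The differential `dx / f_y` of a plane curve under a change of projective coordinates. -/

set_option autoImplicit false

namespace K669.PlaneDiff

open MvPolynomial

/-- The key identity: `(∑ᵢ A i 2 fᵢ) dx = det A · f₂ · (u₀ du₁ - u₁ du₀)`. -/
theorem key {k K M : Type*} [Field k] [Field K] [Algebra k K] [AddCommGroup M] [Module K M]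
    [Module k M] [IsScalarTower k K M] (D : Derivation k K M)
    (a : Matrix (Fin 3) (Fin 3) k) (u : Fin 3 → K) (f : Fin 3 → K)
    (x y : K) (h1 : algebraMap k K (a 0 0) * u 0 + algebraMap k K (a 0 1) * u 1 +
      algebraMap k K (a 0 2) * u 2 = 1)
    (hx : algebraMap k K (a 1 0) * u 0 + algebraMap k K (a 1 1) * u 1 +
      algebraMap k K (a 1 2) * u 2 = x)
    (hy : algebraMap k K (a 2 0) * u 0 + algebraMap k K (a 2 1) * u 1 +
      algebraMap k K (a 2 2) * u 2 = y)
    (hE : f 0 + x * f 1 + y * f 2 = 0) (hD : f 1 • D x + f 2 • D y = 0) :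
    (algebraMap k K (a 0 2) * f 0 + algebraMap k K (a 1 2) * f 1 + algebraMap k K (a 2 2) * f 2) •
      D x = (algebraMap k K a.det * f 2) • (u 0 • D (u 1) - u 1 • D (u 0)) := by
  have e0 : algebraMap k K (a 0 0) • D (u 0) + algebraMap k K (a 0 1) • D (u 1) +
      algebraMap k K (a 0 2) • D (u 2) = 0 := by
    have := congrArg D h1
    simpa [Derivation.leibniz] using this
  have e1 : algebraMap k K (a 1 0) • D (u 0) + algebraMap k K (a 1 1) • D (u 1) +
      algebraMap k K (a 1 2) • D (u 2) = D x := by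
    have := congrArg D hx
    simpa [Derivation.leibniz] using this
  have e2 : algebraMap k K (a 2 0) • D (u 0) + algebraMap k K (a 2 1) • D (u 1) +
      algebraMap k K (a 2 2) • D (u 2) = D y := by
    have := congrArg D hy
    simpa [Derivation.leibniz] using this
  have hdet : algebraMap k K a.det = algebraMap k K (a 0 0) * algebraMap k K (a 1 1) *
      algebraMap k K (a 2 2) - algebraMap k K (a 0 0) * algebraMap k K (a 1 2) *
      algebraMap k K (a 2 1) - algebraMap k K (a 0 1) * algebraMap k K (a 1 0) *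
      algebraMap k K (a 2 2) + algebraMap k K (a 0 1) * algebraMap k K (a 1 2) *
      algebraMap k K (a 2 0) + algebraMap k K (a 0 2) * algebraMap k K (a 1 0) *
      algebraMap k K (a 2 1) - algebraMap k K (a 0 2) * algebraMap k K (a 1 1) *
      algebraMap k K (a 2 0) := by
    rw [Matrix.det_fin_three]
    simp only [map_add, map_sub, map_mul]
  rw [hdet]
  generalize algebraMap k K (a 0 0) = a00 at *
  generalize algebraMap k K (a 0 1) = a01 at *
  generalize algebraMap k K (a 0 2) = a02 at *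
  generalize algebraMap k K (a 1 0) = a10 at *
  generalize algebraMap k K (a 1 1) = a11 at *
  generalize algebraMap k K (a 1 2) = a12 at *
  generalize algebraMap k K (a 2 0) = a20 at *
  generalize algebraMap k K (a 2 1) = a21 at *
  generalize algebraMap k K (a 2 2) = a22 at *
  generalize D (u 0) = d0 at *
  generalize D (u 1) = d1 at *
  generalize D (u 2) = d2 at *
  generalize D x = dx at *
  generalize D y = dy at *
  have f0 : f 0 = -(x * f 1) - y * f 2 := by linear_combination hE
  -- reduce to the cross product form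
  have s1 : (a02 * f 0 + a12 * f 1 + a22 * f 2) • dx =
      f 2 • ((a02 * x - a12) • dy + (a22 - a02 * y) • dx) := by
    rw [f0]
    have : (a02 * x - a12) • (f 1 • dx + f 2 • dy) = 0 := by rw [hD, smul_zero]
    linear_combination (norm := module) (-1 : K) • this
  rw [s1, ← e1, ← e2, ← hx, ← hy]
  have h1' := h1
  have k1 : (a12 - a02 * (a10 * u 0 + a11 * u 1 + a12 * u 2)) =
     a12 * (a00 * u 0 + a01 * u 1 + a02 * u 2) - a02 * (a10 * u 0 + a11 * u 1 + a12 * u 2) := by
    rw [h1]; ring
  have k2 : (a22 - a02 * (a20 * u 0 + a21 * u 1 + a22 * u 2)) =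
     a22 * (a00 * u 0 + a01 * u 1 + a02 * u 2) - a02 * (a20 * u 0 + a21 * u 1 + a22 * u 2) := by
    rw [h1]; ring
  have k1' : (a02 * (a10 * u 0 + a11 * u 1 + a12 * u 2) - a12) =
     -(a12 * (a00 * u 0 + a01 * u 1 + a02 * u 2) - a02 * (a10 * u 0 + a11 * u 1 + a12 * u 2)) := by
    rw [h1]; ring
  rw [k1', k2]
  have e0' : (f 2 * (a12 * (a20 * u 0 + a21 * u 1 + a22 * u 2) -
      a22 * (a10 * u 0 + a11 * u 1 + a12 * u 2))) • (a00 • d0 + a01 • d1 + a02 • d2) = 0 := by
    rw [e0, smul_zero]
  linear_combination (norm := module) (-1 : K) • e0'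

/-- `dx/f_y = det A · z^(e-3) · dx'/f'_{y'}`. -/
theorem main
    (k K : Type*) [Field k] [Field K] [Algebra k K]
    (f : MvPolynomial (Fin 3) k) (e : ℕ) (hf : f.IsHomogeneous e)
    (x y : K) (hfxy : MvPolynomial.aeval ![(1 : K), x, y] f = 0)
    (A : Matrix (Fin 3) (Fin 3) k)
    (u : Fin 3 → K) (hu : ∀ i, ∑ j, algebraMap k K (A i j) * u j = ![(1 : K), x, y] i)
    (hu0 : u 0 ≠ 0)
    (hfy : MvPolynomial.aeval ![(1 : K), x, y] (MvPolynomial.pderiv 2 f) ≠ 0)
    (hfy' : MvPolynomial.aeval ![(1 : K), u 1 / u 0, u 2 / u 0]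
      (MvPolynomial.pderiv 2
        (MvPolynomial.aeval (fun i : Fin 3 => ∑ j, MvPolynomial.C (A i j) * MvPolynomial.X j) f)) ≠ 0) :
    (MvPolynomial.aeval ![(1 : K), x, y] (MvPolynomial.pderiv 2 f))⁻¹ • KaehlerDifferential.D k K x =
      (algebraMap k K A.det * (u 0)⁻¹ ^ ((e : ℤ) - 3) *
        (MvPolynomial.aeval ![(1 : K), u 1 / u 0, u 2 / u 0]
          (MvPolynomial.pderiv 2
            (MvPolynomial.aeval (fun i : Fin 3 => ∑ j, MvPolynomial.C (A i j) * MvPolynomial.X j) f)))⁻¹) •
        KaehlerDifferential.D k K (u 1 / u 0) := by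
  -- the degree is positive
  have he : 0 < e := by
    rcases Nat.eq_zero_or_pos e with h | h
    · exfalso
      subst h
      apply hfy
      have : f = C (f.coeff 0) := MvPolynomial.totalDegree_eq_zero_iff_eq_C.mp
        (Nat.le_zero.mp hf.totalDegree_le)
      rw [this, pderiv_C, map_zero]
    · exact h
  -- the value of the new derivative
  have hg : (MvPolynomial.aeval ![(1 : K), u 1 / u 0, u 2 / u 0]
      (MvPolynomial.pderiv 2
        (MvPolynomial.aeval (fun i : Fin 3 => ∑ j, MvPolynomial.C (A i j) * MvPolynomial.X j) f))) =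
      (u 0)⁻¹ ^ (e - 1) * (algebraMap k K (A 0 2) * aeval ![(1 : K), x, y] (pderiv 0 f) +
        algebraMap k K (A 1 2) * aeval ![(1 : K), x, y] (pderiv 1 f) +
        algebraMap k K (A 2 2) * aeval ![(1 : K), x, y] (pderiv 2 f)) := by
    rw [MvPolyDer.pderiv_aeval, map_sum]
    have hval : ∀ i : Fin 3, aeval ![(1 : K), u 1 / u 0, u 2 / u 0]
        (aeval (fun i : Fin 3 => ∑ j, MvPolynomial.C (A i j) * MvPolynomial.X j) (pderiv i f)) =
        (u 0)⁻¹ ^ (e - 1) * aeval ![(1 : K), x, y] (pderiv i f) := by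
      intro i
      rw [← MvPolyDer.aeval_smul_of_isHomogeneous (u 0)⁻¹ ![(1 : K), x, y] (hf.pderiv (i := i)),
        ← AlgHom.comp_apply]
      refine congrFun (congrArg DFunLike.coe ?_) _
      apply MvPolynomial.algHom_ext
      intro l
      rw [AlgHom.comp_apply, aeval_X, aeval_X, ← hu l, map_sum, Finset.mul_sum]
      refine Finset.sum_congr rfl fun j _ => ?_
      rw [map_mul, aeval_X, MvPolynomial.aeval_C]
      fin_cases j
      · simp; field_simp
      · simp; ring
      · simp; ring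
    have hpd : ∀ i : Fin 3, aeval ![(1 : K), u 1 / u 0, u 2 / u 0]
        (pderiv (2 : Fin 3) (∑ j, MvPolynomial.C (A i j) * MvPolynomial.X j)) =
        algebraMap k K (A i 2) := by
      intro i
      simp [Fin.sum_univ_three, Derivation.leibniz, pderiv_X]
    simp only [map_mul, hval, hpd]
    rw [Fin.sum_univ_three]
    ring
  have hkey := key (KaehlerDifferential.D k K) A u
    (fun i => aeval ![(1 : K), x, y] (pderiv i f)) x y
    (by have := hu 0; simpa [Fin.sum_univ_three] using this)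
    (by have := hu 1; simpa [Fin.sum_univ_three] using this)
    (by have := hu 2; simpa [Fin.sum_univ_three] using this)
    (by
      have := MvPolyDer.sum_mul_aeval_pderiv ![(1 : K), x, y] hf
      rw [hfxy, mul_zero, Fin.sum_univ_three] at this
      simpa using this)
    (by
      have := MvPolyDer.deriv_aeval (KaehlerDifferential.D k K) ![(1 : K), x, y] f
      rw [hfxy, map_zero, Fin.sum_univ_three] at this
      simpa using this.symm)
  rw [hg] at hfy' ⊢
  set G := algebraMap k K (A 0 2) * aeval ![(1 : K), x, y] (pderiv 0 f) +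
        algebraMap k K (A 1 2) * aeval ![(1 : K), x, y] (pderiv 1 f) +
        algebraMap k K (A 2 2) * aeval ![(1 : K), x, y] (pderiv 2 f) with hG
  have hG0 : G ≠ 0 := fun h => hfy' (by rw [h, mul_zero])
  have hdx : KaehlerDifferential.D k K x = (G⁻¹ * (algebraMap k K A.det *
      aeval ![(1 : K), x, y] (pderiv 2 f))) • (u 0 • KaehlerDifferential.D k K (u 1) -
        u 1 • KaehlerDifferential.D k K (u 0)) := by
    rw [mul_smul, ← hkey, smul_smul, inv_mul_cancel₀ hG0, one_smul]
  have hdu : KaehlerDifferential.D k K (u 1 / u 0) = (u 0)⁻¹ ^ 2 •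
      (u 0 • KaehlerDifferential.D k K (u 1) - u 1 • KaehlerDifferential.D k K (u 0)) :=
    Derivation.leibniz_div _ _ _
  rw [hdx, hdu, smul_smul, smul_smul]
  congr 1
  have hz : (u 0)⁻¹ ^ ((e : ℤ) - 3) = (u 0)⁻¹ ^ (e - 1) * ((u 0)⁻¹ ^ 2)⁻¹ := by
    rw [← zpow_natCast, ← zpow_natCast, ← zpow_neg, ← zpow_add₀ (inv_ne_zero hu0)]
    congr 1
    push_cast [Nat.cast_sub (show 1 ≤ e from he)]
    ring
  rw [hz]
  have h2 : (u 0)⁻¹ ^ (e - 1) ≠ 0 := pow_ne_zero _ (inv_ne_zero hu0)
  have h3 : (u 0)⁻¹ ^ 2 ≠ 0 := pow_ne_zero _ (inv_ne_zero hu0)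
  generalize (u 0)⁻¹ ^ (e - 1) = w at *
  generalize (u 0)⁻¹ ^ 2 = w2 at *
  field_simp

end K669.PlaneDiff
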