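import Groth.Agent.S12581
import Groth.Agent.S12590
import Groth.Agent.S10988
import Groth.Agent.S10970

/-! Weil differentials as sums of residues. -/

set_option autoImplicit false

namespace K669.Weil

open FunFld

universe u v w

section aliases

theorem exists_weil (k : Type u) (K : Type v) [Field k] [Field K] [Algebra k K] (hK : FunFld.IsFunctionField k K) (hg : FunFld.IsGeometric k K)
    (F : FunFld.Place k K → Type w) [∀ P, Field (F P)] [∀ P, Algebra k (F P)] [∀ P, FiniteDimensional k (F P)]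
    (φ : ∀ P, K →ₐ[k] LaurentSeries (F P)) (hφ : ∀ P, LocRes.IsExpansionAt P.1 (φ P))
    (u v : K) (hu : u ≠ 0) (hv : KaehlerDifferential.D k K v ≠ 0) :
    ∃ ω : Module.Dual k (FunFld.adele k K),
      (∀ a : FunFld.adele k K, (Function.support fun P => LocRes.locRes (φ P) ((a : FunFld.Place k K → K) P * u) v).Finite ∧
        ω a = ∑ᶠ P, LocRes.locRes (φ P) ((a : FunFld.Place k K → K) P * u) v) ∧
      FunFld.IsWeil ω ∧ ω ≠ 0 ∧
      (Function.support fun P => LocRes.ordDiff (φ P) u v).Finite ∧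
      ∀ C : FunFld.Divisor k K, (∀ P, C P = LocRes.ordDiff (φ P) u v) → FunFld.IsDivOf ω C :=
  Groth.Agent.S12581.result k K hK hg F φ hφ u v hu hv

theorem exists_locRes_ne_zero (k : Type u) (K : Type v) [Field k] [Field K] [Algebra k K] (hK : FunFld.IsFunctionField k K) (hg : FunFld.IsGeometric k K)
    (P : FunFld.Place k K) (F : Type w) [Field F] [Algebra k F] [FiniteDimensional k F]
    (φ : K →ₐ[k] LaurentSeries F) (hφ : LocRes.IsExpansionAt P.1 φ)
    (x : K) (hx : KaehlerDifferential.D k K x ≠ 0) :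
    ∃ y : K, LocRes.locRes φ y x ≠ 0 :=
  Groth.Agent.S12590.result k K hK hg P F φ hφ x hx

theorem exists_mulW_eq (k K : Type*) [Field k] [Field K] [Algebra k K]
    (hK : FunFld.IsFunctionField k K) (h : ∀ (x : K), ∀ a ∈ FunFld.adele k K, x • a ∈ FunFld.adele k K)
    (ω₁ ω₂ : Module.Dual k (FunFld.adele k K)) (h₁ : FunFld.IsWeil ω₁) (h0 : ω₁ ≠ 0)
    (h₂ : FunFld.IsWeil ω₂) : ∃ x : K, FunFld.mulW x (h x) ω₁ = ω₂ :=
  Groth.Agent.S10988.result k K hK h ω₁ ω₂ h₁ h0 h₂

theorem finite_support_ord (k K : Type*) [Field k] [Field K] [Algebra k K]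
    (hK : FunFld.IsFunctionField k K) (x : K) :
    (Function.support fun P : FunFld.Place k K => P.ord x).Finite :=
  Groth.Agent.S10970.result k K hK x

end aliases

/-- The local residue is `k`-linear in the first argument: additivity. -/
theorem locRes_add {k K F : Type*} [Field k] [Field K] [Algebra k K] [Field F] [Algebra k F]
    (φ : K →ₐ[k] LaurentSeries F) (a b v : K) :
    LocRes.locRes φ (a + b) v = LocRes.locRes φ a v + LocRes.locRes φ b v := by
  simp only [LocRes.locRes, LocRes.resExp, map_add, add_mul]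

theorem locRes_smul {k K F : Type*} [Field k] [Field K] [Algebra k K] [Field F] [Algebra k F]
    (φ : K →ₐ[k] LaurentSeries F) (c : k) (a v : K) :
    LocRes.locRes φ (c • a) v = c • LocRes.locRes φ a v := by
  have h1 : φ (c • a) * LocRes.D F (φ v) = HahnSeries.C (algebraMap k F c) *
      (φ a * LocRes.D F (φ v)) := by
    rw [Algebra.smul_def, map_mul, LocRes.map_algebraMap, mul_assoc]
  have h2 : LocRes.resExp φ (c • a) v = c • LocRes.resExp φ a v := by
    unfold LocRes.resExp
    rw [h1, HahnSeries.C_mul_eq_smul, map_smul, algebraMap_smul]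
  rw [LocRes.locRes, h2, map_smul]
  rfl

theorem smul_mem_adele {k K : Type*} [Field k] [Field K] [Algebra k K]
    (hK : FunFld.IsFunctionField k K) (x : K) (a : FunFld.Place k K → K)
    (ha : a ∈ FunFld.adele k K) : x • a ∈ FunFld.adele k K := by
  have h1 : ∀ᶠ P : Place k K in Filter.cofinite, P.1 (a P) ≤ 1 := ha
  have h2 : ∀ᶠ P : Place k K in Filter.cofinite, P.1 x ≤ 1 := by
    rw [Filter.eventually_cofinite]
    refine (finite_support_ord k K hK x).subset fun P hP => ?_
    intro h0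
    apply hP
    have hx : P.1 x ≠ 0 := by
      intro h
      exact hP (h ▸ zero_le_one)
    have h3 : WithZero.log (P.1 x) = 0 := by simpa [Place.ord] using h0
    have h4 := WithZero.exp_log hx
    rw [h3] at h4
    rw [← h4]
    exact le_of_eq rfl
  show ∀ᶠ P : Place k K in Filter.cofinite, P.1 ((x • a) P) ≤ 1
  filter_upwards [h1, h2] with P h3 h4
  rw [Pi.smul_apply, smul_eq_mul, map_mul]
  exact mul_le_one' h4 h3

section

variable {k : Type u} {K : Type v} [Field k] [Field K] [Algebra k K]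
    (hK : FunFld.IsFunctionField k K) (hg : FunFld.IsGeometric k K)
    (F : FunFld.Place k K → Type w) [∀ P, Field (F P)] [∀ P, Algebra k (F P)] [∀ P, FiniteDimensional k (F P)]
    (φ : ∀ P, K →ₐ[k] LaurentSeries (F P)) (hφ : ∀ P, LocRes.IsExpansionAt P.1 (φ P))
    (v : K) (hv : KaehlerDifferential.D k K v ≠ 0)

include hK hg hφ hv

theorem finite_support (u : K) (a : FunFld.adele k K) :
    (Function.support fun P => LocRes.locRes (φ P) ((a : FunFld.Place k K → K) P * u) v).Finite := by
  by_cases hu : u = 0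
  · subst hu
    have : (fun P => LocRes.locRes (φ P) ((a : FunFld.Place k K → K) P * 0) v) = 0 := by
      funext P
      simp [LocRes.locRes, LocRes.resExp]
    rw [this]
    simp
  · obtain ⟨ω, h, -⟩ := exists_weil k K hK hg F φ hφ u v hu hv
    exact (h a).1

/-- The pairing `(y, a) ↦ ∑ Res_P (a_P y dv)`. -/
theorem exists_pairing : ∃ T : K →ₗ[k] Module.Dual k (FunFld.adele k K),
    ∀ (u : K) (a : FunFld.adele k K),
      T u a = ∑ᶠ P, LocRes.locRes (φ P) ((a : FunFld.Place k K → K) P * u) v := by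
  have hfin := finite_support hK hg F φ hφ v hv
  refine ⟨LinearMap.mk₂ k (fun u a => ∑ᶠ P, LocRes.locRes (φ P) ((a : FunFld.Place k K → K) P * u) v)
    ?_ ?_ ?_ ?_, fun u a => rfl⟩
  · intro m₁ m₂ n
    rw [← finsum_add_distrib (hfin m₁ n) (hfin m₂ n)]
    refine finsum_congr fun P => ?_
    rw [mul_add, locRes_add]
  · intro c m n
    rw [smul_finsum]
    refine finsum_congr fun P => ?_
    rw [mul_smul_comm, locRes_smul]
  · intro m n₁ n₂
    rw [← finsum_add_distrib (hfin m n₁) (hfin m n₂)]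
    refine finsum_congr fun P => ?_
    rw [Submodule.coe_add, Pi.add_apply, add_mul, locRes_add]
  · intro c m n
    rw [smul_finsum]
    refine finsum_congr fun P => ?_
    rw [Submodule.coe_smul, Pi.smul_apply, smul_mul_assoc, locRes_smul]

variable {F φ v} in
theorem pairing_eq (T : K →ₗ[k] Module.Dual k (FunFld.adele k K))
    (hT : ∀ (u : K) (a : FunFld.adele k K),
      T u a = ∑ᶠ P, LocRes.locRes (φ P) ((a : FunFld.Place k K → K) P * u) v)
    (u : K) (hu : u ≠ 0) :
    IsWeil (T u) ∧ T u ≠ 0 ∧ (Function.support fun P => LocRes.ordDiff (φ P) u v).Finite ∧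
      ∀ C : FunFld.Divisor k K, (∀ P, C P = LocRes.ordDiff (φ P) u v) → FunFld.IsDivOf (T u) C := by
  obtain ⟨ω, h, h1, h2, h3, h4⟩ := exists_weil k K hK hg F φ hφ u v hu hv
  have : T u = ω := by
    apply LinearMap.ext
    intro a
    rw [hT, (h a).2]
  rw [this]
  exact ⟨h1, h2, h3, h4⟩

variable {F φ v} in
theorem pairing_injective (T : K →ₗ[k] Module.Dual k (FunFld.adele k K))
    (hT : ∀ (u : K) (a : FunFld.adele k K),
      T u a = ∑ᶠ P, LocRes.locRes (φ P) ((a : FunFld.Place k K → K) P * u) v) :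
    Function.Injective T := by
  rw [← LinearMap.ker_eq_bot, LinearMap.ker_eq_bot']
  intro u hu
  by_contra h
  exact (pairing_eq hK hg hφ hv T hT u h).2.1 hu

variable {F φ v} in
theorem pairing_surjective (T : K →ₗ[k] Module.Dual k (FunFld.adele k K))
    (hT : ∀ (u : K) (a : FunFld.adele k K),
      T u a = ∑ᶠ P, LocRes.locRes (φ P) ((a : FunFld.Place k K → K) P * u) v)
    (ω : Module.Dual k (FunFld.adele k K)) (hω : IsWeil ω) : ∃ u, T u = ω := by
  obtain ⟨h1, h2, -⟩ := pairing_eq hK hg hφ hv T hT 1 one_ne_zero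
  obtain ⟨x, hx⟩ := exists_mulW_eq k K hK (fun x a ha => smul_mem_adele hK x a ha) (T 1) ω h1 h2 hω
  refine ⟨x, ?_⟩
  rw [← hx]
  apply LinearMap.ext
  intro a
  rw [hT]
  have : mulW x (fun a ha => smul_mem_adele hK x a ha) (T 1) a =
      T 1 ⟨x • (a : FunFld.Place k K → K), smul_mem_adele hK x a a.2⟩ := rfl
  rw [this, hT]
  refine finsum_congr fun P => ?_
  simp [mul_comm]

theorem existsUnique (ω : Module.Dual k (FunFld.adele k K)) (hω : FunFld.IsWeil ω) :
    ∃! u : K, ∀ a : FunFld.adele k K,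
      (Function.support fun P => LocRes.locRes (φ P) ((a : FunFld.Place k K → K) P * u) v).Finite ∧
        ω a = ∑ᶠ P, LocRes.locRes (φ P) ((a : FunFld.Place k K → K) P * u) v := by
  obtain ⟨T, hT⟩ := exists_pairing hK hg F φ hφ v hv
  obtain ⟨u, hu⟩ := pairing_surjective hK hg hφ hv T hT ω hω
  refine ⟨u, fun a => ⟨finite_support hK hg F φ hφ v hv u a, ?_⟩, fun u' hu' => ?_⟩
  · rw [← hu, hT]
  · apply pairing_injective hK hg hφ hv T hT
    rw [hu]
    apply LinearMap.ext
    intro a
    rw [(hu' a).2, hT]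

theorem vDiff_ne_zero (u : K) (hu : u ≠ 0) (P : FunFld.Place k K) :
    LocRes.vDiff (φ P) u v ≠ 0 := by
  obtain ⟨y, hy⟩ := exists_locRes_ne_zero k K hK hg P (F P) (φ P) (hφ P) v hv
  have h1 : LocRes.D (F P) ((φ P) v) ≠ 0 := by
    intro h
    apply hy
    simp [LocRes.locRes, LocRes.resExp, h]
  have h2 : (φ P) u ≠ 0 := (map_ne_zero (φ P)).mpr hu
  unfold LocRes.vDiff
  rw [(Valued.v : Valuation (LaurentSeries (F P)) _).ne_zero_iff]
  exact mul_ne_zero h2 h1

theorem finrank_eq (D : FunFld.Divisor k K) :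
    Module.finrank k (Submodule.span k {y : K | ∀ P, LocRes.vDiff (φ P) y v ≤ WithZero.exp (-(D P))}) =
      Module.finrank k (FunFld.WD D) := by
  obtain ⟨T, hT⟩ := exists_pairing hK hg F φ hφ v hv
  have hset : {y : K | ∀ P, LocRes.vDiff (φ P) y v ≤ WithZero.exp (-(D P))} =
      ((WD D).comap T : Set K) := by
    ext y
    rw [Set.mem_ofPred_eq, SetLike.mem_coe, Submodule.mem_comap]
    by_cases hy : y = 0
    · subst hy
      simp [LocRes.vDiff]
    · obtain ⟨h1, h2, h3, h4⟩ := pairing_eq hK hg hφ hv T hT y hy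
      have h5 := h4 (Finsupp.ofSupportFinite _ h3) (fun P => rfl) D
      rw [h5, Finsupp.le_def]
      refine forall_congr' fun P => ?_
      have h6 := vDiff_ne_zero hK hg F φ hφ v hv y hy P
      show _ ↔ D P ≤ LocRes.ordDiff (φ P) y v
      rw [LocRes.ordDiff, ← WithZero.log_le_iff_le_exp h6]
      constructor <;> intro h <;> linarith
  rw [hset, Submodule.span_eq]
  refine LinearEquiv.finrank_eq (LinearEquiv.ofBijective (T.restrict (p := (WD D).comap T)
    (q := WD D) (fun x hx => hx)) ⟨?_, ?_⟩)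
  · intro a b hab
    apply Subtype.ext
    exact pairing_injective hK hg hφ hv T hT (congrArg Subtype.val hab)
  · intro ω
    obtain ⟨u, hu⟩ := pairing_surjective hK hg hφ hv T hT ω.1 ⟨D, ω.2⟩
    refine ⟨⟨u, ?_⟩, ?_⟩
    · rw [Submodule.mem_comap, hu]; exact ω.2
    · apply Subtype.ext
      exact hu

end

end K669.Weil
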